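import Cfsg.Agent.Omega.NoFF.Basic
import Cfsg.Agent.S0215
import Mathlib.GroupTheory.Sylow
import Mathlib.GroupTheory.GroupAction.Quotient
import Mathlib.GroupTheory.GroupAction.SubMulAction
import Mathlib.GroupTheory.Perm.Cycle.Type
import Mathlib.Tactic

/-!
# LEMMA TI (text #17127, helper789)

`V ≤ L` elementary abelian; the points are the `L`-conjugates of `V`; an element `v ≠ 1` of a point normalises no
other point.  `A₁ ≠ A₂` two points, `J` the set of the `V`-type involutions interchanging `A₁` and `A₂`.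

* `Tis.odd`: two `V`-type involutions of different points have a product of odd order;
* `Tis.card_J`: `|J| = |V| - 1`;
* `Tis.dvd`: `|V| - 1` divides `|Ω'|` for every finite set `Ω'` on which `D = N_L(A₁) ∩ N_L(A₂)` acts and on which no
  `s s'` (`s ≠ s'` in `J`) has a fixed point.

Only the Z*-theorem (S0215) is used.
-/

set_option autoImplicit false

namespace Cfsg.Agent.Omega.NOne.Flat.TI

open Subgroup Cfsg.Agent.Omega.NoFF.Basic
open scoped Pointwise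

universe u v

section General

variable {G : Type u} [Group G]

theorem norm_of_conj_eq {A : Subgroup G} {z : G} (h : MulAut.conj z • A = A) : z ∈ normalizer (A : Set G) := by
  rw [mem_normalizer_iff]
  intro x
  have h1 : z * x * z⁻¹ ∈ MulAut.conj z • A ↔ x ∈ A := by
    rw [mem_conj]
    have e : z⁻¹ * (z * x * z⁻¹) * z = x := by group
    rw [e]
  rw [← h1, h]

theorem conj_eq_of_norm {A : Subgroup G} {z : G} (h : z ∈ normalizer (A : Set G)) : MulAut.conj z • A = A := by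
  ext x
  rw [mem_conj]
  rw [mem_normalizer_iff] at h
  rw [h]
  have e : z * (z⁻¹ * x * z) * z⁻¹ = x := by group
  rw [e]

theorem mul_pow_of_inv {t k : G} (ht : t * t = 1) (h : t * k * t = k⁻¹) (j : ℕ) : t * k ^ j = (k ^ j)⁻¹ * t := by
  have hi : t⁻¹ = t := inv_eq_of_mul_eq_one_left ht
  have h1 : (t * k * t⁻¹) ^ j = t * k ^ j * t⁻¹ := conj_pow
  rw [hi, h] at h1
  calc t * k ^ j = t * k ^ j * t * t := by rw [mul_assoc (t * k ^ j), ht, mul_one]
    _ = (k ^ j)⁻¹ * t := by rw [← h1, inv_pow]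

/-- the central involution of a dihedral group of order divisible by 4 -/
theorem exists_invol [Finite G] {t s : G} (ht : t * t = 1) (hs : s * s = 1) (he : Even (orderOf (t * s))) :
    ∃ z ∈ zpowers (t * s), z ≠ 1 ∧ t * z = z * t ∧ s * z = z * s ∧
      ∃ g ∈ zpowers (t * s), t * z = g * t * g⁻¹ ∨ t * z = g * s * g⁻¹ := by
  obtain ⟨m, hm⟩ := he
  set k := t * s with hk
  have hti : t⁻¹ = t := inv_eq_of_mul_eq_one_left ht
  have hsi : s⁻¹ = s := inv_eq_of_mul_eq_one_left hs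
  have hki : k⁻¹ = s * t := by rw [hk, mul_inv_rev, hti, hsi]
  have htk : t * k * t = k⁻¹ := by
    rw [hki, hk, ← mul_assoc, ht, one_mul]
  have hsk : s * k * s = k⁻¹ := by
    rw [hki, hk]
    calc s * (t * s) * s = s * t * (s * s) := by group
      _ = s * t := by rw [hs, mul_one]
  have hpos : 0 < orderOf k := orderOf_pos k
  have hzz : k ^ m * k ^ m = 1 := by rw [← pow_add, ← hm, pow_orderOf_eq_one]
  have hzi : (k ^ m)⁻¹ = k ^ m := inv_eq_of_mul_eq_one_left hzz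
  refine ⟨k ^ m, pow_mem (mem_zpowers k) m, ?_, ?_, ?_, ?_⟩
  · intro h1
    have h2 := Nat.le_of_dvd (by omega) (orderOf_dvd_of_pow_eq_one h1)
    omega
  · rw [mul_pow_of_inv ht htk, hzi]
  · rw [mul_pow_of_inv hs hsk, hzi]
  · rcases Nat.even_or_odd' m with ⟨j, rfl | rfl⟩
    · refine ⟨(k ^ j)⁻¹, inv_mem (pow_mem (mem_zpowers k) j), Or.inl ?_⟩
      rw [two_mul, pow_add, ← mul_assoc, mul_pow_of_inv ht htk, inv_inv]
    · refine ⟨(k ^ j)⁻¹, inv_mem (pow_mem (mem_zpowers k) j), Or.inr ?_⟩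
      have e : t * k = s := by rw [hk, ← mul_assoc, ht, one_mul]
      have e2 : t * k ^ (2 * j + 1) = s * k ^ (2 * j) := by
        rw [pow_succ', ← mul_assoc, e]
      rw [e2, two_mul, pow_add, ← mul_assoc, mul_pow_of_inv hs hsk, inv_inv]

/-- an element inverted by an element of odd order squares to `1` -/
theorem sq_of_inv_odd {a k : G} (h : a * k * a⁻¹ = k⁻¹) {n : ℕ} (hn : Odd n) (ha : a ^ n = 1) : k * k = 1 := by
  obtain ⟨m, rfl⟩ := hn
  have h2 : ∀ j : ℕ, a ^ (2 * j) * k * (a ^ (2 * j))⁻¹ = k := by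
    intro j
    induction j with
    | zero => simp
    | succ j ih =>
      have e : a ^ (2 * (j + 1)) = a * a * a ^ (2 * j) := by
        rw [mul_add, mul_one, add_comm, pow_add, pow_two]
      rw [e]
      calc a * a * a ^ (2 * j) * k * (a * a * a ^ (2 * j))⁻¹
          = a * (a * (a ^ (2 * j) * k * (a ^ (2 * j))⁻¹) * a⁻¹) * a⁻¹ := by group
        _ = a * k⁻¹ * a⁻¹ := by rw [ih, h]
        _ = (a * k * a⁻¹)⁻¹ := by group
        _ = k := by rw [h, inv_inv]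
  have h3 : a ^ (2 * m + 1) * k * (a ^ (2 * m + 1))⁻¹ = k⁻¹ := by
    have e : a ^ (2 * m + 1) = a * a ^ (2 * m) := pow_succ' a (2 * m)
    rw [e]
    calc a * a ^ (2 * m) * k * (a * a ^ (2 * m))⁻¹
        = a * (a ^ (2 * m) * k * (a ^ (2 * m))⁻¹) * a⁻¹ := by group
      _ = k⁻¹ := by rw [h2, h]
  rw [ha, one_mul, inv_one, mul_one] at h3
  calc k * k = k⁻¹ * k := by rw [← h3]
    _ = 1 := inv_mul_cancel k

/-- `|A \ {1}| = |A| - 1` -/
theorem card_ne_one [Finite G] (A : Subgroup G) : Nat.card {a : A // (a : G) ≠ 1} = Nat.card A - 1 := by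
  classical
  have : Fintype A := Fintype.ofFinite A
  have h1 : Nat.card {a : A // (a : G) ≠ 1} = Nat.card {a : A // a ≠ 1} :=
    Nat.card_congr (Equiv.subtypeEquivRight fun a => by simp)
  rw [h1, Nat.card_eq_fintype_card, Nat.card_eq_fintype_card, Fintype.card_subtype_compl,
    Fintype.card_subtype_eq]

/-- the number of `R`-conjugates of `t` -/
theorem card_conj_set [Finite G] (R : Subgroup G) (t : G) :
    Nat.card {s : G // ∃ g ∈ R, s = g * t * g⁻¹} = (centralizer {t}).relIndex R := by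
  have key : ∀ a b : R, (a : G) * t * (a : G)⁻¹ = b * t * (b : G)⁻¹ ↔
      a⁻¹ * b ∈ (centralizer {t}).subgroupOf R := by
    intro a b
    rw [mem_subgroupOf, mem_centralizer_singleton_iff]
    push_cast
    constructor
    · intro h
      calc (a : G)⁻¹ * b * t = (a : G)⁻¹ * (b * t * (b : G)⁻¹) * b := by group
        _ = (a : G)⁻¹ * (a * t * (a : G)⁻¹) * b := by rw [h]
        _ = t * ((a : G)⁻¹ * b) := by group
    · intro h
      calc (a : G) * t * (a : G)⁻¹ = a * (t * ((a : G)⁻¹ * b)) * (b : G)⁻¹ := by group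
        _ = a * ((a : G)⁻¹ * b * t) * (b : G)⁻¹ := by rw [h]
        _ = b * t * (b : G)⁻¹ := by group
  have e : R ⧸ (centralizer {t}).subgroupOf R ≃ {s : G // ∃ g ∈ R, s = g * t * g⁻¹} := by
    refine Equiv.ofBijective (Quotient.lift (fun a : R => (⟨a * t * (a : G)⁻¹, a, a.2, rfl⟩ :
      {s : G // ∃ g ∈ R, s = g * t * g⁻¹})) ?_) ⟨?_, ?_⟩
    · intro a b hab
      apply Subtype.ext
      exact (key a b).2 (QuotientGroup.leftRel_apply.1 hab)
    · intro x y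
      refine Quotient.inductionOn₂ x y fun a b hab => ?_
      exact Quotient.sound (QuotientGroup.leftRel_apply.2 ((key a b).1 (congrArg Subtype.val hab)))
    · rintro ⟨s, g, hg, rfl⟩
      exact ⟨Quotient.mk _ ⟨g, hg⟩, rfl⟩
  rw [← Nat.card_congr e]
  rfl

theorem dvd_card_of_orbits {R : Type u} [Group R] {Ω : Type v} [MulAction R Ω] [Finite Ω] (m : ℕ)
    (h : ∀ ω : Ω, m ∣ Nat.card (MulAction.orbit R ω)) : m ∣ Nat.card Ω := by
  classical
  have : Fintype (MulAction.orbitRel.Quotient R Ω) := Fintype.ofFinite _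
  rw [Nat.card_congr (MulAction.selfEquivSigmaOrbits R Ω), Nat.card_sigma]
  exact Finset.dvd_sum fun x _ => h x.out

/-- Z*: all products of two conjugates of `t` have odd order. -/
theorem exists_odd_normal [Finite G] {t : G} (ht : t * t = 1) (hodd : ∀ g : G, Odd (orderOf (t * (g * t * g⁻¹)))) :
    ∃ N : Subgroup G, N.Normal ∧ Odd (Nat.card N) ∧ ∀ g : G, t * g * t⁻¹ * g⁻¹ ∈ N := by
  by_cases h1 : t = 1
  · refine ⟨⊥, inferInstance, by rw [card_bot]; exact odd_one, fun g => ?_⟩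
    rw [mem_bot, h1]
    group
  have : Fact (Nat.Prime 2) := ⟨Nat.prime_two⟩
  have h2 : orderOf t = 2 := orderOf_eq_prime (by rw [pow_two]; exact ht) h1
  have hp : IsPGroup 2 (zpowers t) := by
    refine IsPGroup.of_card (n := 1) ?_
    rw [Nat.card_zpowers, h2, pow_one]
  obtain ⟨P, hP⟩ := hp.exists_le_sylow
  have htP : t ∈ P := hP (mem_zpowers t)
  refine Cfsg.Agent.S0215.result P t h2 htP fun g hg => ?_
  have h3 : t * (g * t * g⁻¹) ∈ (P : Subgroup G) := mul_mem htP hg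
  obtain ⟨n, hn⟩ := P.isPGroup' ⟨_, h3⟩
  have h4 : (t * (g * t * g⁻¹)) ^ 2 ^ n = 1 := congrArg Subtype.val hn
  have h5 := orderOf_dvd_of_pow_eq_one h4
  have h6 : Nat.Coprime (orderOf (t * (g * t * g⁻¹))) (2 ^ n) :=
    Nat.Coprime.pow_right n (Nat.coprime_two_right.2 (hodd g))
  have h7 : orderOf (t * (g * t * g⁻¹)) = 1 := Nat.Coprime.eq_one_of_dvd h6 h5
  rw [orderOf_eq_one_iff] at h7
  calc g * t * g⁻¹ = t⁻¹ * (t * (g * t * g⁻¹)) := by group
    _ = t := by rw [h7, mul_one, inv_eq_of_mul_eq_one_left ht]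

/-- a `t`-invariant Sylow `r`-subgroup -/
theorem exists_sylow_inv [Finite G] {N : Subgroup G} [hN : N.Normal] (hodd : Odd (Nat.card N)) {t : G}
    (ht : t * t = 1) (r : ℕ) [Fact r.Prime] :
    ∃ R : Subgroup G, R ≤ N ∧ IsPGroup r R ∧ (∀ g ∈ R, t * g * t⁻¹ ∈ R) ∧
      ∀ k, r ^ k ∣ Nat.card N → r ^ k ∣ Nat.card R := by
  classical
  have : Fact (Nat.Prime 2) := ⟨Nat.prime_two⟩
  have : Fintype (Sylow r N) := Fintype.ofFinite _
  let τ : MulAut N := MulAut.conjNormal t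
  have hτ : τ * τ = 1 := by
    change MulAut.conjNormal t * MulAut.conjNormal t = 1
    rw [← map_mul, ht, map_one]
  let σ : Equiv.Perm (Sylow r N) := MulAction.toPerm τ
  have hσ : σ ^ 2 ^ 1 = 1 := by
    ext1 P
    rw [pow_one, pow_two, Equiv.Perm.mul_apply]
    change τ • τ • P = P
    rw [← mul_smul, hτ, one_smul]
  obtain ⟨P₀⟩ : Nonempty (Sylow r N) := inferInstance
  have hnd : ¬ 2 ∣ Fintype.card (Sylow r N) := by
    intro h2
    have h3 : Fintype.card (Sylow r N) ∣ Nat.card N := by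
      rw [← Nat.card_eq_fintype_card, Sylow.card_eq_index_normalizer P₀]
      exact index_dvd_card _
    exact (Nat.not_even_iff_odd.2 hodd) (even_iff_two_dvd.2 (h2.trans h3))
  obtain ⟨P, hP⟩ := Equiv.Perm.exists_fixed_point_of_prime (p := 2) (n := 1) hnd hσ
  have hP' : τ • P = P := hP
  refine ⟨(P : Subgroup N).map N.subtype, map_subtype_le _, P.isPGroup'.map _, ?_, ?_⟩
  · rintro g ⟨n, hn, rfl⟩
    have h1 : τ n ∈ (τ • P : Sylow r N) := by
      change τ n ∈ ((τ • P : Sylow r N) : Subgroup N)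
      rw [Sylow.pointwise_smul_def]
      exact Subgroup.smul_mem_pointwise_smul n τ _ hn
    rw [hP'] at h1
    exact ⟨τ n, h1, by rw [coe_subtype]; rfl⟩
  · intro k hk
    rw [Nat.card_congr (((P : Subgroup N).equivMapOfInjective N.subtype (subtype_injective N)).symm.toEquiv)]
    exact P.pow_dvd_card_of_pow_dvd_card hk

end General

/-! ### TI-subgroups -/

/-- `V` is a point of `L`: an element `v ≠ 1` of `V` normalises no other point. -/
structure Tis {G : Type u} [Group G] (L V : Subgroup G) : Prop where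
  le : V ≤ L
  sq : ∀ v ∈ V, v * v = 1
  ne : V ≠ ⊥
  ti : ∀ g ∈ L, ∀ v ∈ V, v ≠ 1 → v ∈ normalizer ((MulAut.conj g • V : Subgroup G) : Set G) →
    MulAut.conj g • V = V

/-- the points -/
def Pt {G : Type u} [Group G] (L V A : Subgroup G) : Prop := ∃ g ∈ L, A = MulAut.conj g • V

/-- the `V`-type involutions mapping the point `A` to `B` -/
def J {G : Type u} [Group G] (L V A B : Subgroup G) : Set G :=
  {s | (∃ C, Pt L V C ∧ s ∈ C ∧ s ≠ 1) ∧ MulAut.conj s • A = B}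

namespace Tis

variable {G : Type u} [Group G] {L V : Subgroup G} (h : Tis L V)
include h

omit h in
theorem pt_conj {A : Subgroup G} (hA : Pt L V A) {g : G} (hg : g ∈ L) : Pt L V (MulAut.conj g • A) := by
  obtain ⟨a, ha, rfl⟩ := hA
  exact ⟨g * a, mul_mem hg ha, conj_conj g a V⟩

omit h in
theorem pt_self : Pt L V V := ⟨1, one_mem _, by rw [map_one, one_smul]⟩

theorem pt_le {A : Subgroup G} (hA : Pt L V A) : A ≤ L := by
  obtain ⟨g, hg, rfl⟩ := hA
  intro x hx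
  rw [mem_conj] at hx
  have h1 := mul_mem (mul_mem hg (h.le hx)) (inv_mem hg)
  have e : g * (g⁻¹ * x * g) * g⁻¹ = x := by group
  rwa [e] at h1

theorem pt_sq {A : Subgroup G} (hA : Pt L V A) {a : G} (ha : a ∈ A) : a * a = 1 := by
  obtain ⟨g, hg, rfl⟩ := hA
  rw [mem_conj] at ha
  have h1 := h.sq _ ha
  calc a * a = g * (g⁻¹ * a * g * (g⁻¹ * a * g)) * g⁻¹ := by group
    _ = 1 := by rw [h1]; group

omit h in
theorem pt_card {A : Subgroup G} (hA : Pt L V A) : Nat.card A = Nat.card V := by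
  obtain ⟨g, hg, rfl⟩ := hA
  exact Nat.card_congr (Subgroup.equivSMul (MulAut.conj g) V).symm.toEquiv

theorem eq_of_norm {A B : Subgroup G} (hA : Pt L V A) (hB : Pt L V B) {a : G} (ha : a ∈ A) (h1 : a ≠ 1)
    (hn : a ∈ normalizer (B : Set G)) : A = B := by
  obtain ⟨g, hg, rfl⟩ := hA
  obtain ⟨k, hk, rfl⟩ := hB
  rw [mem_conj] at ha
  have h2 : g⁻¹ * a * g ≠ 1 := by
    intro h0
    apply h1
    calc a = g * (g⁻¹ * a * g) * g⁻¹ := by group
      _ = 1 := by rw [h0]; group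
  have h3 := conj_eq_of_norm hn
  have h4 : MulAut.conj (g⁻¹ * k) • V = V := by
    refine h.ti _ (mul_mem (inv_mem hg) hk) _ ha h2 (norm_of_conj_eq ?_)
    calc MulAut.conj (g⁻¹ * a * g) • MulAut.conj (g⁻¹ * k) • V
        = MulAut.conj g⁻¹ • MulAut.conj a • MulAut.conj k • V := by
          rw [conj_conj, conj_conj, conj_conj]
          congr 2
          group
      _ = MulAut.conj (g⁻¹ * k) • V := by rw [h3, conj_conj]
  have h5 := congrArg (fun A : Subgroup G => MulAut.conj g • A) h4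
  simp only [conj_conj, mul_inv_cancel_left] at h5
  exact h5.symm

theorem eq_of_mem {A B : Subgroup G} (hA : Pt L V A) (hB : Pt L V B) {a : G} (ha : a ∈ A) (h1 : a ≠ 1)
    (hb : a ∈ B) : A = B := h.eq_of_norm hA hB ha h1 (le_normalizer hb)

theorem norm_of_comm {A : Subgroup G} (hA : Pt L V A) {a z : G} (ha : a ∈ A) (h1 : a ≠ 1) (hz : z ∈ L)
    (hc : z * a = a * z) : z ∈ normalizer (A : Set G) := by
  have h2 : a ∈ MulAut.conj z • A := by
    rw [mem_conj]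
    have e : z⁻¹ * a * z = a := by
      rw [mul_assoc, ← hc]
      group
    rwa [e]
  exact norm_of_conj_eq (h.eq_of_mem (pt_conj hA hz) hA h2 h1 ha)

/-- **(1)** -/
theorem odd [Finite G] {A B : Subgroup G} (hA : Pt L V A) (hB : Pt L V B) (hne : A ≠ B) {t s : G} (ht : t ∈ A)
    (ht1 : t ≠ 1) (hs : s ∈ B) (hs1 : s ≠ 1) : Odd (orderOf (t * s)) := by
  rw [← Nat.not_even_iff_odd]
  intro he
  have htL := h.pt_le hA ht
  have hsL := h.pt_le hB hs
  obtain ⟨z, hz, hz1, htz, hsz, g, hg, hgz⟩ := exists_invol (h.pt_sq hA ht) (h.pt_sq hB hs) he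
  have hzp : zpowers (t * s) ≤ L := zpowers_le.2 (mul_mem htL hsL)
  have hzL : z ∈ L := hzp hz
  have hgL : g ∈ L := hzp hg
  obtain ⟨C, hC, htC, htz1⟩ : ∃ C, Pt L V C ∧ t * z ∈ C ∧ t * z ≠ 1 := by
    rcases hgz with hgz | hgz
    · refine ⟨MulAut.conj g • A, pt_conj hA hgL, ?_, ?_⟩
      · rw [hgz, mem_conj]
        have e : g⁻¹ * (g * t * g⁻¹) * g = t := by group
        rwa [e]
      · rw [hgz]
        intro h0
        apply ht1
        calc t = g⁻¹ * (g * t * g⁻¹) * g := by group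
          _ = 1 := by rw [h0]; group
    · refine ⟨MulAut.conj g • B, pt_conj hB hgL, ?_, ?_⟩
      · rw [hgz, mem_conj]
        have e : g⁻¹ * (g * s * g⁻¹) * g = s := by group
        rwa [e]
      · rw [hgz]
        intro h0
        apply hs1
        calc s = g⁻¹ * (g * s * g⁻¹) * g := by group
          _ = 1 := by rw [h0]; group
  have h1 : t ∈ normalizer (C : Set G) := by
    refine h.norm_of_comm hC htC htz1 htL ?_
    calc t * (t * z) = t * (z * t) := by rw [htz]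
      _ = t * z * t := by group
  have hAC : A = C := h.eq_of_norm hA hC ht ht1 h1
  have hzA : z ∈ A := by
    have h2 : t * z ∈ A := hAC ▸ htC
    exact (mul_mem_cancel_left ht).1 h2
  exact hne (h.eq_of_norm hA hB hzA hz1 (h.norm_of_comm hB hs hs1 hzL hsz.symm))

section

variable {A₁ A₂ : Subgroup G} (h₁ : Pt L V A₁) (h₂ : Pt L V A₂) (hne : A₁ ≠ A₂)

omit h in
theorem J_ne {s : G} (hs : s ∈ J L V A₁ A₂) : s ≠ 1 := by
  obtain ⟨⟨C, -, -, h1⟩, -⟩ := hs
  exact h1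

theorem J_sq {s : G} (hs : s ∈ J L V A₁ A₂) : s * s = 1 := by
  obtain ⟨⟨C, hC, hsC, -⟩, -⟩ := hs
  exact h.pt_sq hC hsC

theorem J_mem {s : G} (hs : s ∈ J L V A₁ A₂) : s ∈ L := by
  obtain ⟨⟨C, hC, hsC, -⟩, -⟩ := hs
  exact h.pt_le hC hsC

theorem J_swap {s : G} (hs : s ∈ J L V A₁ A₂) : MulAut.conj s • A₂ = A₁ := by
  rw [← hs.2, conj_conj, h.J_sq hs, map_one, one_smul]

theorem J_mul_left {s s' : G} (hs : s ∈ J L V A₁ A₂) (hs' : s' ∈ J L V A₁ A₂) :
    MulAut.conj (s * s') • A₁ = A₁ := by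
  rw [← conj_conj, hs'.2, h.J_swap hs]

theorem J_mul_right {s s' : G} (hs : s ∈ J L V A₁ A₂) (hs' : s' ∈ J L V A₁ A₂) :
    MulAut.conj (s * s') • A₂ = A₂ := by
  rw [← conj_conj, h.J_swap hs', hs.2]

include h₂ hne in
theorem J_pt {s : G} (hs : s ∈ J L V A₁ A₂) {C : Subgroup G} (hsC : s ∈ C) : C ≠ A₂ := by
  rintro rfl
  have h1 := conj_eq_of_norm (le_normalizer hsC : s ∈ normalizer (C : Set G))
  rw [h.J_swap hs] at h1
  exact hne h1

include h₂ hne in
/-- two different elements of `J` lie in different points -/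
theorem J_pt_ne {s s' : G} (hs : s ∈ J L V A₁ A₂) (hs' : s' ∈ J L V A₁ A₂) (hss : s ≠ s') {C : Subgroup G}
    (hC : Pt L V C) (hsC : s ∈ C) : s' ∉ C := by
  intro hsC'
  have h1 : s * s' ≠ 1 := by
    intro h0
    apply hss
    calc s = s * (s' * s') := by rw [h.J_sq hs', mul_one]
      _ = s * s' * s' := by group
      _ = s' := by rw [h0, one_mul]
  have h2 := h.eq_of_norm hC h₂ (mul_mem hsC hsC') h1 (norm_of_conj_eq (h.J_mul_right hs hs'))
  exact h.J_pt h₂ hne hs hsC h2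

include h₂ hne in
/-- **(4)** -/
theorem J_odd [Finite G] {s s' : G} (hs : s ∈ J L V A₁ A₂) (hs' : s' ∈ J L V A₁ A₂) : Odd (orderOf (s * s')) := by
  by_cases hss : s = s'
  · rw [hss, h.J_sq hs', orderOf_one]
    exact odd_one
  · obtain ⟨⟨C, hC, hsC, hs1⟩, -⟩ := id hs
    obtain ⟨⟨C', hC', hsC', hs1'⟩, -⟩ := id hs'
    refine h.odd hC hC' ?_ hsC hs1 hsC' hs1'
    rintro rfl
    exact h.J_pt_ne h₂ hne hs hs' hss hC hsC hsC'

include h₂ hne in
/-- **(2)** -/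
theorem key [Finite G] {s s' w : G} (hs : s ∈ J L V A₁ A₂) (hs' : s' ∈ J L V A₁ A₂) (hw : w ∈ A₂) (hw1 : w ≠ 1)
    (hc : w * (s * s') = s * s' * w) : s = s' := by
  have hsi : s⁻¹ = s := inv_eq_of_mul_eq_one_left (h.J_sq hs)
  have hsi' : s'⁻¹ = s' := inv_eq_of_mul_eq_one_left (h.J_sq hs')
  obtain ⟨⟨C, hC, hsC, hs1⟩, -⟩ := id hs
  have h1 : Odd (orderOf (w * s)) := h.odd h₂ hC (h.J_pt h₂ hne hs hsC).symm hw hw1 hsC hs1
  have h2 : w * s * (s * s') * (w * s)⁻¹ = (s * s')⁻¹ := by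
    have e1 : (s * s')⁻¹ = s' * s := by rw [mul_inv_rev, hsi, hsi']
    have hwk : w * (s' * s) = s' * s * w := by
      have h3 : w * (s * s')⁻¹ = (s * s')⁻¹ * w := by
        calc w * (s * s')⁻¹ = (s * s')⁻¹ * (s * s' * w) * (s * s')⁻¹ := by group
          _ = (s * s')⁻¹ * (w * (s * s')) * (s * s')⁻¹ := by rw [hc]
          _ = (s * s')⁻¹ * w := by group
      rwa [e1] at h3
    calc w * s * (s * s') * (w * s)⁻¹ = w * (s * s * s' * s⁻¹) * w⁻¹ := by group
      _ = w * (s' * s) * w⁻¹ := by rw [h.J_sq hs, one_mul, hsi]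
      _ = s' * s := by rw [hwk]; group
      _ = (s * s')⁻¹ := e1.symm
  have h3 := sq_of_inv_odd h2 h1 (pow_orderOf_eq_one _)
  have h4 := h.J_odd h₂ hne hs hs'
  have h5 : orderOf (s * s') ∣ 2 := orderOf_dvd_of_pow_eq_one (by rw [pow_two]; exact h3)
  have h6 : orderOf (s * s') = 1 := by
    rcases (Nat.dvd_prime Nat.prime_two).1 h5 with h7 | h7
    · exact h7
    · rw [h7] at h4
      exact absurd h4 (by decide)
  rw [orderOf_eq_one_iff] at h6
  calc s = s * (s' * s') := by rw [h.J_sq hs', mul_one]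
    _ = s * s' * s' := by group
    _ = s' := by rw [h6, one_mul]

end

/-- `V` contains an involution -/
theorem exists_ne {A : Subgroup G} (hA : Pt L V A) : ∃ a ∈ A, a ≠ 1 := by
  obtain ⟨g, hg, rfl⟩ := hA
  obtain ⟨v, hv, hv1⟩ := V.bot_or_exists_ne_one.resolve_left h.ne
  refine ⟨g * v * g⁻¹, ?_, fun h0 => hv1 ?_⟩
  · rw [mem_conj]
    have e : g⁻¹ * (g * v * g⁻¹) * g = v := by group
    rwa [e]
  · calc v = g⁻¹ * (g * v * g⁻¹) * g := by group
      _ = 1 := by rw [h0]; group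

/-- **(3)**, first half -/
theorem card_J_le [Finite G] {A₁ A₂ : Subgroup G} (h₂ : Pt L V A₂) (h₁ : Pt L V A₁) (hne : A₁ ≠ A₂) :
    Nat.card (J L V A₁ A₂) ≤ Nat.card V - 1 := by
  obtain ⟨w, hw, hw1⟩ := h.exists_ne h₂
  have hm : ∀ s : J L V A₁ A₂, (s : G) * w * (s : G)⁻¹ ∈ A₁ ∧ (s : G) * w * (s : G)⁻¹ ≠ 1 := by
    intro s
    constructor
    · have h5 : (s : G) * w * (s : G)⁻¹ ∈ MulAut.conj (s : G) • A₂ := by
        rw [mem_conj]
        have e : (s : G)⁻¹ * (s * w * (s : G)⁻¹) * s = w := by group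
        rwa [e]
      rwa [h.J_swap s.2] at h5
    · intro h0
      apply hw1
      calc w = (s : G)⁻¹ * (s * w * (s : G)⁻¹) * s := by group
        _ = 1 := by rw [h0]; group
  let φ : J L V A₁ A₂ → {a : A₁ // (a : G) ≠ 1} := fun s => ⟨⟨_, (hm s).1⟩, (hm s).2⟩
  have hφ : Function.Injective φ := by
    intro s s' hss
    have h1 : (s : G) * w * (s : G)⁻¹ = s' * w * (s' : G)⁻¹ :=
      congrArg (fun a : {a : A₁ // (a : G) ≠ 1} => ((a : A₁) : G)) hss
    apply Subtype.ext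
    have hsi : (s : G)⁻¹ = s := inv_eq_of_mul_eq_one_left (h.J_sq s.2)
    have hsi' : (s' : G)⁻¹ = s' := inv_eq_of_mul_eq_one_left (h.J_sq s'.2)
    refine (h.key h₂ hne s'.2 s.2 hw hw1 ?_).symm
    calc w * ((s' : G) * s) = (s' : G)⁻¹ * (s' * w * (s' : G)⁻¹) * s' * (s' * s) := by group
      _ = (s' : G)⁻¹ * (s * w * (s : G)⁻¹) * s' * (s' * s) := by rw [h1]
      _ = (s' : G)⁻¹ * (s * w * (s : G)⁻¹) * (s' * s') * s := by group
      _ = (s' : G)⁻¹ * s * w := by rw [h.J_sq s'.2]; group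
      _ = (s' : G) * s * w := by rw [hsi']
  have h2 := Nat.card_le_card_of_injective φ hφ
  rwa [card_ne_one, pt_card h₁] at h2

/-- **(3)** `|J| = |V| - 1` -/
theorem card_J [Finite G] {A₁ A₂ : Subgroup G} (h₁ : Pt L V A₁) (h₂ : Pt L V A₂) (hne : A₁ ≠ A₂) :
    Nat.card (J L V A₁ A₂) = Nat.card V - 1 := by
  classical
  let I := {C : Subgroup G // Pt L V C ∧ A₁ ≠ C}
  have : Fintype I := Fintype.ofFinite I
  -- the map
  have hm : ∀ x : Σ C : I, {a : C.1 // (a : G) ≠ 1},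
      Pt L V (MulAut.conj ((x.2 : x.1.1) : G) • A₁) ∧ A₁ ≠ MulAut.conj ((x.2 : x.1.1) : G) • A₁ := by
    rintro ⟨C, a⟩
    refine ⟨pt_conj h₁ (h.pt_le C.2.1 a.1.2), fun h0 => ?_⟩
    exact C.2.2 (h.eq_of_norm C.2.1 h₁ a.1.2 a.2 (norm_of_conj_eq h0.symm)).symm
  let φ : (Σ C : I, {a : C.1 // (a : G) ≠ 1}) → (Σ C : I, J L V A₁ C.1) := fun x =>
    ⟨⟨MulAut.conj ((x.2 : x.1.1) : G) • A₁, hm x⟩, ⟨(x.2 : x.1.1), ⟨x.1.1, x.1.2.1, x.2.1.2, x.2.2⟩, rfl⟩⟩
  have hφ : Function.Injective φ := by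
    rintro ⟨⟨C, hC, hC1⟩, ⟨a, ha⟩, ha1⟩ ⟨⟨C', hC', hC1'⟩, ⟨b, hb⟩, hb1⟩ hxy
    have h1 : a = b := congrArg (fun y : (Σ C : I, J L V A₁ C.1) => (y.2 : G)) hxy
    subst h1
    have h2 : C = C' := h.eq_of_mem hC hC' ha ha1 hb
    subst h2
    rfl
  have h1 := Nat.card_le_card_of_injective φ hφ
  rw [Nat.card_sigma, Nat.card_sigma] at h1
  have h2 : ∀ C : I, Nat.card {a : C.1 // (a : G) ≠ 1} = Nat.card V - 1 := fun C => by
    rw [card_ne_one, pt_card C.2.1]
  have h3 : ∀ C ∈ (Finset.univ : Finset I), Nat.card (J L V A₁ C.1) ≤ Nat.card {a : C.1 // (a : G) ≠ 1} := by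
    intro C _
    rw [h2]
    exact h.card_J_le C.2.1 h₁ C.2.2
  have h4 := (Finset.sum_eq_sum_iff_of_le h3).1 (le_antisymm (Finset.sum_le_sum h3) h1) ⟨A₂, h₂, hne⟩
    (Finset.mem_univ _)
  rw [h2] at h4
  exact h4

/-- the stabiliser of the pair `{A₁, A₂}` -/
def pair {A₁ A₂ : Subgroup G} (_h : Tis L V) : Subgroup G where
  carrier := {g | g ∈ L ∧ ((MulAut.conj g • A₁ = A₁ ∧ MulAut.conj g • A₂ = A₂) ∨
    (MulAut.conj g • A₁ = A₂ ∧ MulAut.conj g • A₂ = A₁))}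
  one_mem' := ⟨one_mem _, Or.inl ⟨by rw [map_one, one_smul], by rw [map_one, one_smul]⟩⟩
  mul_mem' := by
    rintro a b ⟨ha, ha2⟩ ⟨hb, hb2⟩
    refine ⟨mul_mem ha hb, ?_⟩
    rw [← conj_conj, ← conj_conj]
    rcases ha2 with ⟨h1, h2⟩ | ⟨h1, h2⟩ <;> rcases hb2 with ⟨h3, h4⟩ | ⟨h3, h4⟩ <;>
      rw [h3, h4] <;> simp [h1, h2]
  inv_mem' := by
    rintro a ⟨ha, ha2⟩
    refine ⟨inv_mem ha, ?_⟩
    have key : ∀ {A B : Subgroup G}, MulAut.conj a • A = B → MulAut.conj a⁻¹ • B = A := by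
      rintro A B rfl
      rw [conj_conj, inv_mul_cancel, map_one, one_smul]
    rcases ha2 with ⟨h1, h2⟩ | ⟨h1, h2⟩
    · exact Or.inl ⟨key h1, key h2⟩
    · exact Or.inr ⟨key h2, key h1⟩

omit h in
theorem conj_pow_eq {A₁ A₂ : Subgroup G} {g : G} (h1 : MulAut.conj g • A₁ = A₂) (h2 : MulAut.conj g • A₂ = A₁)
    (m : ℕ) : MulAut.conj (g ^ (2 * m + 1)) • A₁ = A₂ := by
  induction m with
  | zero => simpa using h1
  | succ m ih =>
    have e : g ^ (2 * (m + 1) + 1) = g * g * g ^ (2 * m + 1) := by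
      rw [mul_add, mul_one, show 2 * m + 2 + 1 = 2 + (2 * m + 1) by ring, pow_add, pow_two]
    rw [e, ← conj_conj, ih, ← conj_conj, h2, h1]

/-- **(4)**: the odd normal subgroup. -/
theorem exists_N [Finite G] {A₁ A₂ : Subgroup G} (h₂ : Pt L V A₂) (hne : A₁ ≠ A₂) {t : G}
    (ht : t ∈ J L V A₁ A₂) :
    ∃ N : Subgroup G, N ≤ L ∧ Odd (Nat.card N) ∧ (∀ g ∈ N, MulAut.conj g • A₁ = A₁ ∧ MulAut.conj g • A₂ = A₂) ∧
      (∀ g ∈ N, t * g * t⁻¹ ∈ N) ∧ (∀ g ∈ N, t * g * t⁻¹ * g⁻¹ ∈ N) ∧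
      (∀ s, s ∈ J L V A₁ A₂ ↔ ∃ g ∈ N, s = g * t * g⁻¹) ∧
      (∀ r : ℕ, r.Prime → ∃ R : Subgroup G, R ≤ N ∧ IsPGroup r R ∧ (∀ g ∈ R, t * g * t⁻¹ ∈ R) ∧
        ∀ k, r ^ k ∣ Nat.card N → r ^ k ∣ Nat.card R) := by
  let X : Subgroup G := pair (A₁ := A₁) (A₂ := A₂) h
  have htX : t ∈ X := ⟨h.J_mem ht, Or.inr ⟨ht.2, h.J_swap ht⟩⟩
  have htt := h.J_sq ht
  have hti : t⁻¹ = t := inv_eq_of_mul_eq_one_left htt
  -- conjugates of `t` in `X`
  have hJX : ∀ g ∈ X, g * t * g⁻¹ ∈ J L V A₁ A₂ := by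
    rintro g ⟨hgL, hg⟩
    obtain ⟨⟨C, hC, htC, ht1⟩, ht2⟩ := ht
    refine ⟨⟨MulAut.conj g • C, pt_conj hC hgL, ?_, ?_⟩, ?_⟩
    · rw [mem_conj]
      have e : g⁻¹ * (g * t * g⁻¹) * g = t := by group
      rwa [e]
    · intro h0
      apply ht1
      calc t = g⁻¹ * (g * t * g⁻¹) * g := by group
        _ = 1 := by rw [h0]; group
    · have ht3 : MulAut.conj t • A₂ = A₁ := by
        rw [← ht2, conj_conj, htt, map_one, one_smul]
      have key : ∀ {A B : Subgroup G}, MulAut.conj g • A = B → MulAut.conj g⁻¹ • B = A := by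
        rintro A B rfl
        rw [conj_conj, inv_mul_cancel, map_one, one_smul]
      rw [← conj_conj, ← conj_conj]
      rcases hg with ⟨h3, h4⟩ | ⟨h3, h4⟩
      · rw [key h3, ht2, h4]
      · rw [key h4, ht3, h3]
  obtain ⟨N', hN', hodd, hcomm⟩ := exists_odd_normal (G := X) (t := ⟨t, htX⟩) (Subtype.ext htt) (by
    intro g
    have h5 := h.J_odd h₂ hne ht (hJX g g.2)
    rwa [← Subgroup.orderOf_coe])
  have hmem : ∀ {g : G}, g ∈ N'.map X.subtype ↔ ∃ hg : g ∈ X, (⟨g, hg⟩ : X) ∈ N' := by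
    intro g
    rw [mem_map]
    constructor
    · rintro ⟨x, hx, rfl⟩
      exact ⟨x.2, hx⟩
    · rintro ⟨hg, hx⟩
      exact ⟨_, hx, rfl⟩
  have hfix : ∀ g ∈ N'.map X.subtype, MulAut.conj g • A₁ = A₁ ∧ MulAut.conj g • A₂ = A₂ := by
    intro g hg
    obtain ⟨hgX, hgN⟩ := hmem.1 hg
    rcases hgX.2 with h5 | ⟨h5, h6⟩
    · exact h5
    · exfalso
      have h7 : orderOf (⟨g, hgX⟩ : X) ∣ Nat.card N' := by
        have h8 := orderOf_dvd_natCard (⟨⟨g, hgX⟩, hgN⟩ : N')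
        rwa [← Subgroup.orderOf_coe] at h8
      have h8 : Odd (orderOf g) := by
        have h9 : Odd (orderOf (⟨g, hgX⟩ : X)) := hodd.of_dvd_nat h7
        rwa [← Subgroup.orderOf_coe] at h9
      obtain ⟨m, hm⟩ := h8
      have h9 := conj_pow_eq h5 h6 m
      rw [← hm, pow_orderOf_eq_one, map_one, one_smul] at h9
      exact hne h9
  refine ⟨N'.map X.subtype, ?_, ?_, hfix, ?_, ?_, ?_, ?_⟩
  · intro g hg
    obtain ⟨hgX, -⟩ := hmem.1 hg
    exact hgX.1
  · rwa [Nat.card_congr ((N'.equivMapOfInjective X.subtype (subtype_injective X)).symm.toEquiv)]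
  · intro g hg
    obtain ⟨hgX, hgN⟩ := hmem.1 hg
    exact hmem.2 ⟨mul_mem (mul_mem htX hgX) (inv_mem htX), hN'.conj_mem _ hgN ⟨t, htX⟩⟩
  · intro g hg
    obtain ⟨hgX, hgN⟩ := hmem.1 hg
    exact hmem.2 ⟨mul_mem (mul_mem (mul_mem htX hgX) (inv_mem htX)) (inv_mem hgX), hcomm ⟨g, hgX⟩⟩
  · intro s
    constructor
    · intro hs
      obtain ⟨m, hm⟩ := h.J_odd h₂ hne ht hs
      set k := t * s with hk
      have hsi : s⁻¹ = s := inv_eq_of_mul_eq_one_left (h.J_sq hs)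
      have hkX : k ∈ X := by
        refine mul_mem htX ?_
        exact ⟨h.J_mem hs, Or.inr ⟨hs.2, h.J_swap hs⟩⟩
      have htk : t * k * t = k⁻¹ := by
        rw [hk, mul_inv_rev, hti, hsi, ← mul_assoc, htt, one_mul]
      have hkm : k ^ (m + 1) * k ^ (m + 1) = k := by
        rw [← pow_add, show m + 1 + (m + 1) = (2 * m + 1) + 1 by ring, ← hm, pow_succ,
          pow_orderOf_eq_one, one_mul]
      have hsk : s = (k ^ (m + 1))⁻¹ * t * k ^ (m + 1) := by
        rw [← mul_pow_of_inv htt htk, mul_assoc, hkm, hk, ← mul_assoc, htt, one_mul]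
      have hk1 : k ∈ N'.map X.subtype := by
        have hgX : (k ^ (m + 1))⁻¹ ∈ X := inv_mem (pow_mem hkX _)
        refine hmem.2 ⟨hkX, ?_⟩
        have h5 := hcomm ⟨(k ^ (m + 1))⁻¹, hgX⟩
        have e : (⟨t, htX⟩ : X) * ⟨(k ^ (m + 1))⁻¹, hgX⟩ * ⟨t, htX⟩⁻¹ * (⟨(k ^ (m + 1))⁻¹, hgX⟩)⁻¹ = ⟨k, hkX⟩ := by
          apply Subtype.ext
          push_cast
          rw [hti]
          calc t * (k ^ (m + 1))⁻¹ * t * ((k ^ (m + 1))⁻¹)⁻¹ = t * ((k ^ (m + 1))⁻¹ * t * k ^ (m + 1)) := by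
                group
            _ = k := by rw [← hsk, hk]
        rwa [e] at h5
      refine ⟨(k ^ (m + 1))⁻¹, inv_mem (pow_mem hk1 _), ?_⟩
      rw [inv_inv]
      exact hsk
    · rintro ⟨g, hg, rfl⟩
      obtain ⟨hgX, -⟩ := hmem.1 hg
      exact hJX g hgX
  · intro r hr
    have : Fact r.Prime := ⟨hr⟩
    obtain ⟨R', hR1, hR2, hR3, hR4⟩ := exists_sylow_inv (N := N') hodd (t := ⟨t, htX⟩) (Subtype.ext htt) r
    refine ⟨R'.map X.subtype, map_mono hR1, hR2.map _, ?_, ?_⟩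
    · rintro g ⟨x, hx, rfl⟩
      exact ⟨_, hR3 x hx, rfl⟩
    · intro k hk
      rw [Nat.card_congr ((N'.equivMapOfInjective X.subtype (subtype_injective X)).symm.toEquiv)] at hk
      rw [Nat.card_congr ((R'.equivMapOfInjective X.subtype (subtype_injective X)).symm.toEquiv)]
      exact hR4 k hk

/-- **LEMMA TI** -/
theorem dvd [Finite G] {A₁ A₂ : Subgroup G} (h₁ : Pt L V A₁) (h₂ : Pt L V A₂) (hne : A₁ ≠ A₂) {Ω : Type v}
    [MulAction G Ω] (Ω' : Set Ω) [Finite Ω']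
    (hinv : ∀ g ∈ L, MulAut.conj g • A₁ = A₁ → MulAut.conj g • A₂ = A₂ → ∀ ω ∈ Ω', g • ω ∈ Ω')
    (hfix : ∀ s ∈ J L V A₁ A₂, ∀ s' ∈ J L V A₁ A₂, ∀ ω ∈ Ω', (s * s') • ω = ω → s = s') :
    Nat.card V - 1 ∣ Nat.card Ω' := by
  classical
  by_cases hV : Nat.card V - 1 = 0
  · -- `|V| = 1` is impossible
    exfalso
    have h3 : Nat.card V = 1 := by
      have : 0 < Nat.card V := Nat.card_pos
      omega
    exact h.ne (Subgroup.eq_bot_of_card_eq V h3)
  have hJ := h.card_J h₁ h₂ hne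
  obtain ⟨⟨t, ht⟩⟩ : Nonempty (J L V A₁ A₂) := by
    have h3 : 0 < Nat.card (J L V A₁ A₂) := by omega
    exact (Nat.card_pos_iff.1 h3).1
  obtain ⟨N, hNL, hodd, hNfix, hNt, hNc, hJN, hR⟩ := h.exists_N h₂ hne ht
  have htt := h.J_sq ht
  have hti : t⁻¹ = t := inv_eq_of_mul_eq_one_left htt
  -- `|J| = |N : C_N(t)|`
  have hcard : (centralizer {t}).relIndex N = Nat.card V - 1 := by
    rw [← hJ, ← card_conj_set]
    exact Nat.card_congr (Equiv.subtypeEquivRight fun s => (hJN s).symm)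
  refine (Nat.dvd_iff_prime_pow_dvd_dvd _ _).2 fun r a hr hra => ?_
  have : Fact r.Prime := ⟨hr⟩
  obtain ⟨R, hRN, hRp, hRt, hRS⟩ := hR r hr
  -- `r ^ a ∣ |R : C_R(t)|`
  have hra' : r ^ a ∣ (centralizer {t}).relIndex R := by
    have hRp' : IsPGroup r ↥(R ⊓ centralizer {t}) := hRp.to_le inf_le_left
    obtain ⟨c, hc⟩ := IsPGroup.iff_card.1 hRp'
    have e1 : Nat.card ↥(R ⊓ centralizer {t}) * (centralizer {t}).relIndex R = Nat.card R := by
      rw [← inf_relIndex_left R, ← relIndex_bot_left, ← relIndex_bot_left,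
        relIndex_mul_relIndex _ _ _ bot_le inf_le_left]
    have e2 : Nat.card ↥(N ⊓ centralizer {t}) * (centralizer {t}).relIndex N = Nat.card N := by
      rw [← inf_relIndex_left N, ← relIndex_bot_left, ← relIndex_bot_left,
        relIndex_mul_relIndex _ _ _ bot_le inf_le_left]
    have h3 : r ^ c ∣ Nat.card ↥(N ⊓ centralizer {t}) := by
      rw [← hc]
      exact card_dvd_of_le (inf_le_inf_right _ hRN)
    have h4 : r ^ (c + a) ∣ Nat.card N := by
      rw [← e2, hcard, pow_add]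
      exact mul_dvd_mul h3 hra
    have h5 := hRS _ h4
    rw [← e1, hc, pow_add] at h5
    exact Nat.dvd_of_mul_dvd_mul_left (pow_pos hr.pos c) h5
  -- the action of `R` on `Ω'`
  let S : SubMulAction R Ω :=
    { carrier := Ω'
      smul_mem' := fun g {ω} hω => hinv g (hNL (hRN g.2)) (hNfix g (hRN g.2)).1 (hNfix g (hRN g.2)).2 ω hω }
  have : Finite S := (inferInstance : Finite Ω')
  change r ^ a ∣ Nat.card S
  refine dvd_card_of_orbits (R := R) (Ω := S) (r ^ a) fun ω => ?_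
  -- the orbit
  obtain ⟨b, hb⟩ : ∃ b, Nat.card (MulAction.orbit R ω) = r ^ b := by
    rw [Nat.card_coe_set_eq, ← Nat.card_coe_set_eq, Nat.card_congr (MulAction.orbitEquivQuotientStabilizer R ω)]
    exact hRp.index _
  obtain ⟨a', ha'⟩ : ∃ a', (centralizer {t}).relIndex R = r ^ a' := hRp.index _
  have hsR : ∀ s : {s : G // ∃ g ∈ R, s = g * t * g⁻¹}, t * (s : G) ∈ R := by
    rintro ⟨s, g, hg, rfl⟩
    have h3 := mul_mem (hRt g hg) (inv_mem hg)
    rw [hti] at h3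
    have e : t * (g * t * g⁻¹) = t * g * t * g⁻¹ := by group
    change t * (g * t * g⁻¹) ∈ R
    rwa [e]
  have hsJ : ∀ s : {s : G // ∃ g ∈ R, s = g * t * g⁻¹}, (s : G) ∈ J L V A₁ A₂ := by
    rintro ⟨s, g, hg, rfl⟩
    exact (hJN _).2 ⟨g, hRN hg, rfl⟩
  have hle : r ^ a' ≤ r ^ b := by
    rw [← hb, ← ha', ← card_conj_set]
    refine Nat.card_le_card_of_injective
      (fun s : {s : G // ∃ g ∈ R, s = g * t * g⁻¹} =>
        (⟨(⟨t * s, hsR s⟩ : R) • ω, MulAction.mem_orbit ω _⟩ : MulAction.orbit R ω)) ?_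
    intro s s' hss
    have h3 : (⟨t * s, hsR s⟩ : R) • ω = (⟨t * s', hsR s'⟩ : R) • ω := congrArg Subtype.val hss
    have h4 : (t * (s : G)) • (ω : Ω) = (t * (s' : G)) • (ω : Ω) := congrArg Subtype.val h3
    apply Subtype.ext
    refine (hfix s' (hsJ s') s (hsJ s) ω ω.2 ?_).symm
    have hsi' : (s' : G)⁻¹ = s' := inv_eq_of_mul_eq_one_left (h.J_sq (hsJ s'))
    have e : (s' : G) * s = (t * (s' : G))⁻¹ * (t * s) := by
      rw [mul_inv_rev, hti, hsi']
      calc (s' : G) * s = s' * (t * t) * s := by rw [htt, mul_one]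
        _ = s' * t * (t * s) := by group
    rw [e, mul_smul, h4, ← mul_smul, inv_mul_cancel, one_smul]
  have h3 : r ^ a ∣ r ^ a' := by rw [← ha']; exact hra'
  rw [hb]
  exact h3.trans (pow_dvd_pow r ((Nat.pow_le_pow_iff_right hr.one_lt).1 hle))

end Tis

end Cfsg.Agent.Omega.NOne.Flat.TI
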