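import Cfsg.Agent.Omega.NOne.Flat.Nine
import Cfsg.Agent.Omega.FFThmM

/-!
# THEOREM FLAT: conjugation, offenders in module form, existence

* `Hyp.of_noOff`: `Hyp V F` from `∀ A ≤ N(V), ¬ OffM V A`;
* `Hyp.elemM_W`: `ElemM V (WW V F)`;
* `EE_conj`, `WW_conj`, `NN_conj`, `Bad.conj`, `Hyp.conj` (`m ∈ N(V)`);
* `exists_max`: a bad `F₀` is contained in a maximal bad `F`.
-/

set_option autoImplicit false

namespace Cfsg.Agent.Omega.NOne.Flat

open Subgroup Cfsg Cfsg.Agent.Omega.NoFF.Basic Cfsg.Agent.Omega.NOne.Frame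
open Cfsg.Agent.Omega.NOne.NearFF (Near c c_def)
open Cfsg.Agent.ZN (o2)
open Cfsg.Agent.MinSimple.VModule
open Cfsg.Agent.Omega.FFThm (ElemM OffM)
open scoped Pointwise

universe u

variable {G : Type u} [Group G]

/-- no offender in module form: the strict inequality -/
theorem noff_of_offM [Finite G] {V : Subgroup G}
    (hoff : ∀ A : Subgroup G, A ≤ normalizer (V : Set G) → ¬ OffM V A) (A : Subgroup G)
    (h1 : A ≤ normalizer (V : Set G)) (h2 : A ≤ centralizer (A : Set G)) (h3 : ∀ a ∈ A, a ^ 2 = 1)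
    (h4 : ¬ A ≤ centralizer (V : Set G)) :
    Nat.card A * Nat.card ↥(V ⊓ centralizer (A : Set G)) <
      Nat.card V * Nat.card ↥(A ⊓ centralizer (V : Set G)) := by
  by_contra hle
  refine hoff A h1 ⟨⟨fun a ha => ?_, fun a ha b hb => ?_⟩, h4, Nat.not_lt.1 hle⟩
  · rw [h3 a ha]; exact one_mem _
  · rw [comm_of_le_centralizer h2 ha hb, mul_inv_cancel_right, mul_inv_cancel]
    exact one_mem _

theorem Hyp.of_noOff [Finite G] {V F : Subgroup G} (comm : V ≤ centralizer (V : Set G))
    (sq : ∀ w ∈ V, w ^ 2 = 1)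
    (syl : ∀ D : Subgroup G, D ≠ ⊥ → D ≤ V → o2 (centralizer (D : Set G)) ≤ normalizer (V : Set G))
    (hoff : ∀ A : Subgroup G, A ≤ normalizer (V : Set G) → ¬ OffM V A)
    (char2 : centralizer (F : Set G) ⊓ centralizer (o2 (centralizer (F : Set G)) : Set G) ≤
      o2 (centralizer (F : Set G)))
    (bad : Bad V F) (max : ∀ D : Subgroup G, Bad V D → F ≤ D → D = F) : Hyp V F :=
  ⟨comm, sq, syl, noff_of_offM hoff, char2, bad, max⟩

theorem Hyp.elemM_W [Finite G] {V F : Subgroup G} (h : Hyp V F) : ElemM V (WW V F) :=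
  ⟨fun s hs => by
    rw [pow_two]
    exact h.comm (h.F_le_V (h.sq_W hs)), fun s hs t ht => h.comm (h.F_le_V (h.comm_WW hs ht))⟩

/-! ### conjugation by `N(V)` -/

theorem conj_eq_of_norm {m : G} {V : Subgroup G} (hm : m ∈ normalizer (V : Set G)) :
    MulAut.conj m • V = V := by
  ext z
  rw [mem_conj]
  constructor
  · intro hz
    have := norm_mem hm hz
    have e : m * (m⁻¹ * z * m) * m⁻¹ = z := by group
    rwa [e] at this
  · exact fun hz => norm_mem' hm hz

theorem EE_conj {V F : Subgroup G} {m : G} (hm : m ∈ normalizer (V : Set G)) :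
    MulAut.conj m • EE V F = EE V (MulAut.conj m • F) := by
  rw [EE, Subgroup.smul_inf, conj_eq_of_norm hm, o2_conj, conj_centralizer]

theorem WW_conj {V F : Subgroup G} {m : G} (hm : m ∈ normalizer (V : Set G)) :
    MulAut.conj m • WW V F = WW V (MulAut.conj m • F) := by
  have key : ∀ (n : G) (D : Subgroup G), n ∈ normalizer (V : Set G) →
      MulAut.conj n • WW V D ≤ WW V (MulAut.conj n • D) := by
    intro n D hn
    have h1 : WW V D ≤ MulAut.conj n⁻¹ • WW V (MulAut.conj n • D) := by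
      refine V_le fun x hx => ?_
      have h2 : n * x * n⁻¹ ∈ centralizer ((MulAut.conj n • D : Subgroup G) : Set G) := by
        rw [← conj_centralizer]
        exact Frame.conj_mem hx
      have h3 : MulAut.conj (n * x * n⁻¹) • EE V (MulAut.conj n • D) ≤ WW V (MulAut.conj n • D) :=
        Z_le_V h2
      have h4 := conj_le_iff (g := n⁻¹) |>.2 h3
      rw [← EE_conj hn, conj_conj, conj_conj] at h4
      have e : n⁻¹ * (n * x * n⁻¹) * n = x := by group
      rwa [e] at h4
    have h2 := conj_le_iff (g := n) |>.2 h1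
    rwa [conj_conj, mul_inv_cancel, map_one, one_smul] at h2
  refine le_antisymm (key m F hm) ?_
  have h1 := key m⁻¹ (MulAut.conj m • F) (inv_mem hm)
  have h2 := conj_le_iff (g := m) |>.2 h1
  rwa [conj_conj, conj_conj, mul_inv_cancel, inv_mul_cancel, map_one, one_smul, one_smul] at h2

theorem NN_conj {V F : Subgroup G} {m : G} (hm : m ∈ normalizer (V : Set G)) :
    MulAut.conj m • NN V F = NN V (MulAut.conj m • F) := by
  rw [NN, Subgroup.smul_inf, WW_conj hm, conj_centralizer, EE_conj hm]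

theorem Bad.conj {V F : Subgroup G} (h : Bad V F) {m : G} (hm : m ∈ normalizer (V : Set G)) :
    Bad V (MulAut.conj m • F) where
  ne := by
    intro h0
    apply h.ne
    have := congrArg (fun A : Subgroup G => MulAut.conj m⁻¹ • A) h0
    simp only [conj_conj, inv_mul_cancel, map_one, one_smul, Subgroup.smul_bot] at this
    exact this
  le := by
    have := conj_le_iff (g := m) |>.2 h.le
    rwa [conj_eq_of_norm hm] at this
  not_le := by
    intro h1
    apply h.not_le
    rw [← conj_centralizer, ← o2_conj] at h1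
    have h2 := conj_le_iff (g := m⁻¹) |>.2 h1
    rwa [conj_conj, inv_mul_cancel, map_one, one_smul, conj_eq_of_norm (inv_mem hm)] at h2

theorem Hyp.conj {V F : Subgroup G} (h : Hyp V F) {m : G} (hm : m ∈ normalizer (V : Set G)) :
    Hyp V (MulAut.conj m • F) where
  comm := h.comm
  sq := h.sq
  syl := h.syl
  noff := h.noff
  char2 := by
    rw [← conj_centralizer, ← o2_conj, ← conj_centralizer, ← Subgroup.smul_inf]
    exact conj_le_iff.2 h.char2
  bad := h.bad.conj hm
  max := by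
    intro D hD hFD
    have h1 := h.max _ (hD.conj (inv_mem hm)) (by
      have := conj_le_iff (g := m⁻¹) |>.2 hFD
      rwa [conj_conj, inv_mul_cancel, map_one, one_smul] at this)
    rw [← h1, conj_conj, mul_inv_cancel, map_one, one_smul]

/-! ### existence -/

/-- A bad `F₀` is contained in a maximal bad `F`. -/
theorem exists_max [Finite G] {V F₀ : Subgroup G} (h₀ : Bad V F₀) :
    ∃ F : Subgroup G, F₀ ≤ F ∧ Bad V F ∧ ∀ D : Subgroup G, Bad V D → F ≤ D → D = F := by
  obtain ⟨F, ⟨hF1, hF2⟩, hmax⟩ := Set.exists_max_image {F : Subgroup G | F₀ ≤ F ∧ Bad V F}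
    (fun F => Nat.card F) (Set.toFinite _) ⟨F₀, le_rfl, h₀⟩
  refine ⟨F, hF1, hF2, fun D hD hFD => ?_⟩
  exact (Subgroup.eq_of_le_of_card_ge hFD (hmax D ⟨hF1.trans hFD, hD⟩)).symm

/-- A bad `F₀` gives `Hyp V F` for some `F ≥ F₀`. -/
theorem exists_hyp [Finite G] {V F₀ : Subgroup G} (comm : V ≤ centralizer (V : Set G))
    (sq : ∀ w ∈ V, w ^ 2 = 1)
    (syl : ∀ D : Subgroup G, D ≠ ⊥ → D ≤ V → o2 (centralizer (D : Set G)) ≤ normalizer (V : Set G))
    (hoff : ∀ A : Subgroup G, A ≤ normalizer (V : Set G) → ¬ OffM V A)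
    (char2 : ∀ D : Subgroup G, D ≠ ⊥ → D ≤ V → centralizer (D : Set G) ⊓
      centralizer (o2 (centralizer (D : Set G)) : Set G) ≤ o2 (centralizer (D : Set G)))
    (h₀ : Bad V F₀) : ∃ F : Subgroup G, F₀ ≤ F ∧ Hyp V F := by
  obtain ⟨F, h1, h2, h3⟩ := exists_max h₀
  exact ⟨F, h1, Hyp.of_noOff comm sq syl hoff (char2 F h2.ne h2.le) h2 h3⟩

end Cfsg.Agent.Omega.NOne.Flat
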