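import Cfsg.Agent.Omega.NOne.Flat.Off
import Cfsg.Agent.Omega.NOne.Flat.Conj

/-!
# THEOREM OFF, COROLLARIES A, B in module form (`FFThm.OffM`)

* `Hyp.offM_of_le`: `W = W_F` is an offender (module form) on every `Y ≤ E` which it does not centralise;
* `Hyp.not_le_EE`: `Y ≤ V` without offender `W`, `[Y, W] ≠ 1` ⟹ `Y ≰ E`;
* `Hyp.cent_of_le_EE`: `Y ≤ E`, `W` is no offender on `Y` ⟹ `[Y, W] = 1`, `Y ≤ F`;
* the same for `|V : E| = 2` without the socket.
-/

set_option autoImplicit false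

namespace Cfsg.Agent.Omega.NOne.Flat

open Subgroup Cfsg Cfsg.Agent.Omega.NoFF.Basic Cfsg.Agent.Omega.NOne.Frame
open Cfsg.Agent.Omega.FFThm (ElemM OffM)
open Cfsg.Agent.ZN (o2)
open scoped Pointwise

universe u

variable {G : Type u} [Group G]

namespace Hyp

variable {V F : Subgroup G} (h : Hyp V F)
include h

/-- COROLLARY A in module form. -/
theorem offM_of_le [Finite G] (hoff : ∀ E0 : Subgroup G, F ≤ E0 → E0 ≤ EE V F →
    F.relIndex E0 ≤ (centralizer (E0 : Set G)).relIndex (WW V F)) {Y : Subgroup G} (hY : Y ≤ EE V F)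
    (hW : ¬ WW V F ≤ centralizer (Y : Set G)) : OffM Y (WW V F) := by
  have hVY : centralizer (V : Set G) ≤ centralizer (Y : Set G) := centralizer_le (hY.trans E_le_V)
  have h3 := h.off_of_le hoff hY
  refine { sq := fun a ha => hVY (h.elemM_W.sq a ha),
           comm := fun a ha b hb => hVY (h.elemM_W.comm a ha b hb), ne := hW, le := ?_ }
  have e1 := card_mul_relIndex' (inf_le_left : Y ⊓ centralizer (WW V F : Set G) ≤ Y)
  have e2 := card_mul_relIndex' (inf_le_left : WW V F ⊓ centralizer (Y : Set G) ≤ WW V F)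
  rw [inf_relIndex_left] at e1 e2
  rw [← e1, ← e2]
  calc Nat.card ↥(Y ⊓ centralizer (WW V F : Set G)) * (centralizer (WW V F : Set G)).relIndex Y *
        Nat.card ↥(WW V F ⊓ centralizer (Y : Set G))
      ≤ Nat.card ↥(Y ⊓ centralizer (WW V F : Set G)) * (centralizer (Y : Set G)).relIndex (WW V F) *
        Nat.card ↥(WW V F ⊓ centralizer (Y : Set G)) :=
        Nat.mul_le_mul_right _ (Nat.mul_le_mul_left _ h3)
    _ = _ := by ring

/-- COROLLARY B, abstract: `Y ≰ E`. -/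
theorem not_le_EE [Finite G] (hoff : ∀ E0 : Subgroup G, F ≤ E0 → E0 ≤ EE V F →
    F.relIndex E0 ≤ (centralizer (E0 : Set G)).relIndex (WW V F)) {Y : Subgroup G}
    (hY : ¬ OffM Y (WW V F)) (hW : ¬ WW V F ≤ centralizer (Y : Set G)) : ¬ Y ≤ EE V F :=
  fun h1 => hY (h.offM_of_le hoff h1 hW)

/-- `Y ≤ E` without offender lies in `F` and is centralised by `W`. -/
theorem cent_of_le_EE [Finite G] (hoff : ∀ E0 : Subgroup G, F ≤ E0 → E0 ≤ EE V F →
    F.relIndex E0 ≤ (centralizer (E0 : Set G)).relIndex (WW V F)) {Y : Subgroup G}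
    (hY : ¬ OffM Y (WW V F)) (hle : Y ≤ EE V F) : WW V F ≤ centralizer (Y : Set G) ∧ Y ≤ F := by
  have hW : WW V F ≤ centralizer (Y : Set G) := by
    by_contra hW
    exact h.not_le_EE hoff hY hW hle
  refine ⟨hW, ?_⟩
  rw [← h.cent_EW]
  exact le_inf hle (comm_symm hW)

/-- `|V : E| = 2`: no socket. -/
theorem cent_of_le_EE_two [Finite G] (hq : (EE V F).relIndex V = 2) {Y : Subgroup G}
    (hY : ¬ OffM Y (WW V F)) (hle : Y ≤ EE V F) : WW V F ≤ centralizer (Y : Set G) ∧ Y ≤ F :=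
  h.cent_of_le_EE (fun _ h1 h2 => h.off_two hq h1 h2) hY hle

end Hyp

end Cfsg.Agent.Omega.NOne.Flat
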