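import Cfsg.Agent.Omega.NOne.Flat.Base
import Cfsg.Agent.GTwoFour.Tools

/-!
# THEOREM FLAT (text B4 #15506), part 2: (6), (7)

* `Hyp.cent_EW` (6): `C_E(W) = F`; `Hyp.cent_VW`: `C_V(W) = F`;
* `NN V F = W ∩ C(E)`; `Hyp.mem_NN`: `N = {s ∈ W | [V, s] ≤ F}`; `Hyp.c_mem_F_iff`: for `w ∈ V - E`, `s ∈ W`:
  `[w, s] ∈ F ↔ s ∈ N`; `Hyp.relIndex_NN`: `|W : N| = |E : F|`.
-/

set_option autoImplicit false

namespace Cfsg.Agent.Omega.NOne.Flat

open Subgroup Cfsg Cfsg.Agent.Omega.NoFF.Basic Cfsg.Agent.Omega.NOne.Frame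
open Cfsg.Agent.Omega.NOne.NearFF (Near c c_def)
open Cfsg.Agent.ZN (o2)
open Cfsg.Agent.MinSimple.VModule
open scoped Pointwise

universe u

variable {G : Type u} [Group G]

/-! ### counting cosets -/

/-- `φ` maps `A` to `B` and induces an injection `A / N → B / D`. -/
structure Cos (φ : G → G) (A N B D : Subgroup G) : Prop where
  mem : ∀ a ∈ A, φ a ∈ B
  iff : ∀ a ∈ A, ∀ b ∈ A, (φ a)⁻¹ * φ b ∈ D ↔ a⁻¹ * b ∈ N

namespace Cos

variable {φ : G → G} {A N B D : Subgroup G} (h : Cos φ A N B D)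
include h

theorem exists_inj : ∃ ψ : A ⧸ N.subgroupOf A → B ⧸ D.subgroupOf B, Function.Injective ψ ∧
    ∀ a : A, ψ (Quotient.mk'' a) = Quotient.mk'' (⟨φ a, h.mem a a.2⟩ : B) := by
  refine ⟨Quotient.map' (fun a : A => (⟨φ a, h.mem a a.2⟩ : B)) ?_, ?_, fun a => rfl⟩
  · intro a b hab
    rw [QuotientGroup.leftRel_apply] at hab ⊢
    exact (h.iff a a.2 b b.2).2 hab
  · intro x y
    refine Quotient.inductionOn₂' x y fun a b hab => ?_
    have h1 : Quotient.mk'' (⟨φ a, h.mem a a.2⟩ : B) =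
      (Quotient.mk'' (⟨φ b, h.mem b b.2⟩ : B) : B ⧸ D.subgroupOf B) := hab
    rw [Quotient.eq'', QuotientGroup.leftRel_apply] at h1
    rw [Quotient.eq'', QuotientGroup.leftRel_apply]
    exact (h.iff a a.2 b b.2).1 h1

theorem le [Finite G] : N.relIndex A ≤ D.relIndex B := by
  obtain ⟨ψ, hψ, -⟩ := h.exists_inj
  exact Nat.card_le_card_of_injective ψ hψ

theorem surj [Finite G] (hle : D.relIndex B ≤ N.relIndex A) {b : G} (hb : b ∈ B) :
    ∃ a ∈ A, (φ a)⁻¹ * b ∈ D := by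
  obtain ⟨ψ, hψ, h2⟩ := h.exists_inj
  have hs : Function.Surjective ψ := (hψ.bijective_of_nat_card_le hle).2
  obtain ⟨x, hx⟩ := hs (Quotient.mk'' ⟨b, hb⟩)
  revert hx
  refine Quotient.inductionOn' x fun a ha => ⟨a, a.2, ?_⟩
  rw [h2, Quotient.eq'', QuotientGroup.leftRel_apply] at ha
  exact ha

theorem eq_of_surj [Finite G] (hs : ∀ b ∈ B, ∃ a ∈ A, (φ a)⁻¹ * b ∈ D) : N.relIndex A = D.relIndex B := by
  obtain ⟨ψ, hψ, h2⟩ := h.exists_inj
  refine Nat.card_eq_of_bijective ψ ⟨hψ, ?_⟩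
  intro y
  refine Quotient.inductionOn' y fun b => ?_
  obtain ⟨a, ha, hab⟩ := hs b b.2
  refine ⟨Quotient.mk'' ⟨a, ha⟩, ?_⟩
  rw [h2, Quotient.eq'', QuotientGroup.leftRel_apply]
  exact hab

end Cos

/-- a character of a finite commutative subgroup, trivial on a subgroup -/
theorem exists_char {T D : Subgroup G} [Finite T] (hc : ∀ a ∈ T, ∀ b ∈ T, a * b = b * a) {t : G}
    (ht : t ∈ T) (h1 : t ∉ D) : ∃ ξ : T →* ℂˣ, (∀ d (hd : d ∈ T), d ∈ D → ξ ⟨d, hd⟩ = 1) ∧ ξ ⟨t, ht⟩ ≠ 1 := by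
  let _ : CommGroup T :=
    { (inferInstance : Group T) with
      mul_comm := fun x y => Subtype.ext (hc x x.2 y y.2) }
  have : NeZero (Monoid.exponent (T ⧸ D.subgroupOf T)) := ⟨Monoid.exponent_ne_zero_of_finite⟩
  obtain ⟨χ, hχ⟩ := CommGroup.exists_apply_ne_one_of_hasEnoughRootsOfUnity (T ⧸ D.subgroupOf T) ℂ
    (a := (QuotientGroup.mk ⟨t, ht⟩ : T ⧸ D.subgroupOf T)) (by
      rw [Ne, QuotientGroup.eq_one_iff, mem_subgroupOf]
      exact h1)
  refine ⟨χ.comp (QuotientGroup.mk' _), fun d hd hdD => ?_, hχ⟩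
  have : (QuotientGroup.mk' (D.subgroupOf T)) ⟨d, hd⟩ = 1 := by
    rw [QuotientGroup.mk'_apply, QuotientGroup.eq_one_iff, mem_subgroupOf]
    exact hdD
  rw [MonoidHom.comp_apply, this, map_one]

theorem card_mul_relIndex' {A B : Subgroup G} (hAB : A ≤ B) : Nat.card A * A.relIndex B = Nat.card B := by
  rw [← relIndex_bot_left, ← relIndex_bot_left, relIndex_mul_relIndex _ _ _ bot_le hAB]

/-- `N = C_W(E)` -/
abbrev NN (V F : Subgroup G) : Subgroup G := WW V F ⊓ centralizer (EE V F : Set G)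

namespace Hyp

variable {V F : Subgroup G} (h : Hyp V F)
include h

/-- (ii) with indices -/
theorem noff' [Finite G] {A : Subgroup G} (h1 : A ≤ normalizer (V : Set G)) (h2 : A ≤ centralizer (A : Set G))
    (h3 : ∀ a ∈ A, a ^ 2 = 1) (h4 : ¬ A ≤ centralizer (V : Set G)) :
    (centralizer (V : Set G)).relIndex A < (centralizer (A : Set G)).relIndex V := by
  have k := h.noff A h1 h2 h3 h4
  have e1 := card_mul_relIndex' (inf_le_left : V ⊓ centralizer (A : Set G) ≤ V)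
  have e2 := card_mul_relIndex' (inf_le_left : A ⊓ centralizer (V : Set G) ≤ A)
  rw [inf_relIndex_left] at e1 e2
  rw [← e1, ← e2] at k
  have hp1 : 0 < Nat.card ↥(V ⊓ centralizer (A : Set G)) := Nat.card_pos
  have hp2 : 0 < Nat.card ↥(A ⊓ centralizer (V : Set G)) := Nat.card_pos
  by_contra hlt
  have h5 := Nat.not_lt.1 hlt
  refine Nat.not_le.2 k ?_
  calc Nat.card ↥(V ⊓ centralizer (A : Set G)) * (centralizer (A : Set G)).relIndex V *
        Nat.card ↥(A ⊓ centralizer (V : Set G))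
      ≤ Nat.card ↥(V ⊓ centralizer (A : Set G)) * (centralizer (V : Set G)).relIndex A *
        Nat.card ↥(A ⊓ centralizer (V : Set G)) :=
        Nat.mul_le_mul_right _ (Nat.mul_le_mul_left _ h5)
    _ = _ := by ring

theorem exists_not_mem : ∃ w ∈ V, w ∉ EE V F := by
  obtain ⟨w, hw, hwR⟩ := SetLike.not_le_iff_exists.1 h.bad.not_le
  exact ⟨w, hw, fun h1 => hwR h1.2⟩

omit h in
theorem c_one_right (w : G) : c w 1 = 1 := by rw [c]; group

/-- `[w, s⁻¹] [w, s] ∈ F` -/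
theorem c_inv_mem [Finite G] {w s : G} (hw : w ∈ V) (hs : s ∈ WW V F) : c w s⁻¹ * c w s ∈ F := by
  have h1 := h.c_mul_mem hw (inv_mem hs) hs
  rw [inv_mul_cancel, c_one_right, one_mul] at h1
  have := inv_mem h1
  rwa [inv_inv] at this

/-- `w ↦ [w, ·]` modulo `F` -/
theorem c_iff [Finite G] {w a b : G} (hw : w ∈ V) (ha : a ∈ WW V F) (hb : b ∈ WW V F) :
    (c w a)⁻¹ * c w b ∈ F ↔ c w (a⁻¹ * b) ∈ F := by
  have h1 := h.c_mul_mem hw (inv_mem ha) hb
  have h2 := h.c_inv_mem hw ha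
  have hA := h.c_memV hw (inv_mem ha)
  have hB := h.c_memV hw hb
  have hC := h.c_memV hw ha
  have e1 : c w a⁻¹ * c w b = (c w a⁻¹ * c w a) * ((c w a)⁻¹ * c w b) := by group
  have h3 : c w a⁻¹ * c w b ∈ F ↔ (c w a)⁻¹ * c w b ∈ F := by
    rw [e1]
    exact mul_mem_cancel_left h2
  rw [← h3]
  constructor
  · intro h4
    have := mul_mem h1 h4
    rwa [inv_mul_cancel_right] at this
  · intro h4
    have h5 := mul_mem (inv_mem h1) h4
    have e : (c w (a⁻¹ * b) * (c w a⁻¹ * c w b)⁻¹)⁻¹ * c w (a⁻¹ * b) = c w a⁻¹ * c w b := by group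
    rwa [e] at h5

/-- **(6)** `C_E(W) = F`. -/
theorem cent_EW [Finite G] : EE V F ⊓ centralizer (WW V F : Set G) = F := by
  by_contra hne
  set X : Subgroup G := centralizer (F : Set G) with hX
  set Ez : Subgroup G := EE V F ⊓ centralizer (WW V F : Set G) with hEz
  have hFE : F ≤ Ez := le_inf h.F_le_E (comm_symm W_le_X)
  have hlt : F < Ez := lt_of_le_of_ne hFE (Ne.symm hne)
  have hEzV : Ez ≤ V := inf_le_left.trans inf_le_left
  set ZE : Subgroup G := NoFF.Basic.V Ez X with hZE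
  have hconj : ∀ x ∈ X, MulAut.conj x • Ez ≤ WW V F ⊓ centralizer (WW V F : Set G) := by
    intro x hx
    refine le_inf ?_ ?_
    · exact (conj_le_iff.2 inf_le_left).trans (conjE_le_W hx)
    · have h1 : MulAut.conj x • Ez ≤ MulAut.conj x • centralizer (WW V F : Set G) :=
        conj_le_iff.2 inf_le_right
      rwa [conj_centralizer, conj_W hx] at h1
  have hZW : ZE ≤ WW V F ⊓ centralizer (WW V F : Set G) := V_le hconj
  have hZW1 : ZE ≤ WW V F := hZW.trans inf_le_left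
  have hZW2 : ZE ≤ centralizer (WW V F : Set G) := hZW.trans inf_le_right
  have hEzZ : Ez ≤ ZE := by
    have := Z_le_V (Z := Ez) (P := X) (p := 1) (one_mem _)
    rwa [map_one, one_smul] at this
  have hconjZ : ∀ x ∈ X, MulAut.conj x • Ez ≤ ZE := fun x hx => Z_le_V hx
  have hVZ : V ⊓ ZE ≤ Ez := by
    intro v hv
    obtain ⟨hv1, hv2⟩ := mem_inf.1 hv
    exact mem_inf.2 ⟨mem_inf.2 ⟨hv1, W_le_R (hZW1 hv2)⟩, hZW2 hv2⟩
  have hZab : ZE ≤ centralizer (ZE : Set G) := comm_mono hZW2 le_rfl hZW1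
  have hZsq : ∀ s ∈ ZE, s ^ 2 = 1 := by
    let K : Subgroup G :=
      { carrier := {s | s ∈ ZE ∧ s ^ 2 = 1}
        one_mem' := ⟨one_mem _, one_pow _⟩
        mul_mem' := by
          rintro a b ⟨ha, ha2⟩ ⟨hb, hb2⟩
          refine ⟨mul_mem ha hb, ?_⟩
          have h1 : a * b = b * a := comm_of_le_centralizer hZab ha hb
          rw [(Commute.mul_pow h1 2 : (a * b) ^ 2 = a ^ 2 * b ^ 2), ha2, hb2, one_mul]
        inv_mem' := by
          rintro a ⟨ha, ha2⟩
          exact ⟨inv_mem ha, by rw [inv_pow, ha2, inv_one]⟩ }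
    have hK : ZE ≤ K := by
      refine V_le fun x hx s hs => ⟨hconjZ x hx hs, ?_⟩
      obtain ⟨e, he, rfl⟩ := mem_conj'.1 hs
      rw [conj_pow, h.sq e (hEzV he), mul_one, mul_inv_cancel]
    exact fun s hs => (hK hs).2
  have hXZ : X ≤ normalizer (ZE : Set G) := by
    intro x hx
    have hself : ∀ y ∈ X, MulAut.conj y • ZE = ZE := by
      intro y hy
      have := conj_V_mul (Z := Ez) (P := X) (g := 1) hy
      rwa [one_mul, map_one, one_smul] at this
    rw [mem_normalizer_iff]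
    intro s
    constructor
    · intro hs
      have := Frame.conj_mem (g := x) hs
      rwa [hself x hx] at this
    · intro hs
      have := Frame.conj_mem (g := x⁻¹) hs
      rw [hself _ (inv_mem hx)] at this
      have e : x⁻¹ * (x * s * x⁻¹) * x⁻¹⁻¹ = s := by group
      rwa [e] at this
  have hcomm : ∀ v ∈ V, ∀ s ∈ ZE, v * s * v⁻¹ * s⁻¹ ∈ Ez := by
    intro v hv s hs
    refine hVZ (mem_inf.2 ⟨h.c_memV hv (hZW1 hs), ?_⟩)
    exact mul_mem (norm_mem (hXZ (h.V_le_X hv)) hs) (inv_mem hs)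
  have pr : BTwo.Pairing V ZE Ez :=
    { comm := hcomm
      cA := fun a ha t ht => h.V_comm ha (hEzV ht)
      cW := fun s hs t ht => comm_of_le_centralizer hZab hs (hEzZ ht) }
  -- the frame gives: `[w, Ez^x]` covers `Ez / F`
  have hcos : ∀ w ∈ V, w ∉ EE V F → ∃ x ∈ X,
      (∀ f ∈ MulAut.conj x • Ez, c w f ∈ F → f ∈ F) ∧ Cos (c w) (MulAut.conj x • Ez) F Ez F := by
    intro w hw hwE
    obtain ⟨x, hx, -, hn, -⟩ := h.exists_near hw hwE
    have hle : MulAut.conj x • Ez ≤ MulAut.conj x • EE V F := conj_le_iff.2 inf_le_left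
    refine ⟨x, hx, fun f hf hc => hn.inj f (hle hf) hc,
      ⟨fun a ha => hcomm w hw a (hconjZ x hx ha), fun a ha b hb => ?_⟩⟩
    rw [h.c_iff hw (hZW1 (hconjZ x hx ha)) (hZW1 (hconjZ x hx hb))]
    refine ⟨fun hc => hn.inj _ (hle (mul_mem (inv_mem ha) hb)) hc, fun hc => ?_⟩
    have h1 : w * (a⁻¹ * b) = a⁻¹ * b * w := (F_comm hc (h.V_le_X hw)).symm
    rw [c, h1, mul_inv_cancel_right, mul_inv_cancel]
    exact one_mem _
  have hFx : ∀ x ∈ X, F ≤ MulAut.conj x • Ez := by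
    intro x hx
    have := conj_le_iff (g := x) |>.2 hFE
    rwa [conj_eq_of_cent hx] at this
  have hnotle : ∀ x ∈ X, ¬ MulAut.conj x • Ez ≤ F := by
    intro x hx h1
    have h2 : Ez ≤ MulAut.conj x⁻¹ • F := by
      have := conj_le_iff (g := x⁻¹) |>.2 h1
      rwa [conj_conj, inv_mul_cancel, map_one, one_smul] at this
    rw [conj_eq_of_cent (inv_mem hx)] at h2
    exact absurd h2 (not_le_of_gt hlt)
  -- `C_V(ZE) = E`
  have hCV : V ⊓ centralizer (ZE : Set G) = EE V F := by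
    apply le_antisymm
    · intro w hw
      obtain ⟨hw1, hw2⟩ := mem_inf.1 hw
      by_contra hwE
      obtain ⟨x, hx, hi, -⟩ := hcos w hw1 hwE
      refine hnotle x hx fun f hf => hi f hf ?_
      have h1 := mem_centralizer_iff.1 hw2 f (hconjZ x hx hf)
      rw [c, ← h1, mul_inv_cancel_right, mul_inv_cancel]
      exact one_mem _
    · refine le_inf inf_le_left ?_
      exact comm_symm (comm_mono hZW2 le_rfl E_le_W)
  have hnc : ¬ ZE ≤ centralizer (V : Set G) := by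
    intro h1
    obtain ⟨w, hw, hwE⟩ := h.exists_not_mem
    have h2 : w ∈ V ⊓ centralizer (ZE : Set G) := mem_inf.2 ⟨hw, comm_symm h1 hw⟩
    rw [hCV] at h2
    exact hwE h2
  have k1 := h.noff' (hZW1.trans h.W_norm_V) hZab hZsq hnc
  rw [← inf_relIndex_left V, hCV] at k1
  -- the character
  obtain ⟨t, ht, htF⟩ := SetLike.not_le_iff_exists.1 (not_le_of_gt hlt)
  obtain ⟨ξ, hξF, hξt⟩ := exists_char (T := Ez) (D := F) (fun a ha b hb => h.V_comm (hEzV ha) (hEzV hb))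
    ht htF
  have k2 : (EE V F).relIndex V ≤ (centralizer (V : Set G)).relIndex ZE := by
    refine pr.relIndex_le ξ ?_ ?_ ?_
    · intro a ha b hb
      rw [comm_of_le_centralizer hZab ha hb, mul_inv_cancel_right, mul_inv_cancel]
      exact one_mem _
    · intro a ha n hn hnV
      have h1 : a * n * a⁻¹ * n⁻¹ = 1 := by
        rw [mem_centralizer_iff.1 hnV a ha, mul_inv_cancel_right, mul_inv_cancel]
      have h2 : (⟨a * n * a⁻¹ * n⁻¹, pr.comm a ha n hn⟩ : Ez) = 1 := Subtype.ext h1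
      rw [h2, map_one]
    · intro w hw hw1
      by_contra hwE
      obtain ⟨x, hx, -, hc⟩ := hcos w hw hwE
      have hcard : F.relIndex Ez ≤ F.relIndex (MulAut.conj x • Ez) := by
        have e1 := card_mul_relIndex' hFE
        have e2 := card_mul_relIndex' (hFx x hx)
        rw [Choice.card_conj, ← e1] at e2
        exact (Nat.eq_of_mul_eq_mul_left Nat.card_pos e2).ge
      obtain ⟨f, hf, hft⟩ := hc.surj hcard ht
      have h2 := hw1 f (hconjZ x hx hf)
      have h3 := hξF _ (mul_mem (inv_mem (hcomm w hw f (hconjZ x hx hf))) ht) hft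
      apply hξt
      have e : (⟨t, ht⟩ : Ez) = ⟨w * f * w⁻¹ * f⁻¹, hcomm w hw f (hconjZ x hx hf)⟩ *
          ⟨(w * f * w⁻¹ * f⁻¹)⁻¹ * t, mul_mem (inv_mem (hcomm w hw f (hconjZ x hx hf))) ht⟩ :=
        Subtype.ext (by push_cast; group)
      rw [e, map_mul, h2, one_mul]
      exact h3
  exact absurd k2 (Nat.not_le.2 k1)

/-- **(6)** `C_V(W) = F`. -/
theorem cent_VW [Finite G] : V ⊓ centralizer (WW V F : Set G) = F := by
  apply le_antisymm
  · intro v hv
    obtain ⟨hv1, hv2⟩ := mem_inf.1 hv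
    rw [← h.cent_EW]
    refine mem_inf.2 ⟨?_, hv2⟩
    by_contra hvE
    refine absurd ?_ (not_le_of_gt h.F_lt_E)
    intro e he
    obtain ⟨s, hs, hse⟩ := h.surj hv1 hvE he
    have h1 : c v s = 1 := by
      rw [c, ← mem_centralizer_iff.1 hv2 s hs, mul_inv_cancel_right, mul_inv_cancel]
    rw [h1, one_mul] at hse
    have := inv_mem hse
    rwa [inv_inv] at this
  · exact le_inf h.F_le_V (comm_symm W_le_X)

/-! ### the form `β_w (s, t) = [w, s, t]` -/

/-- factors in `F` do not matter -/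
theorem c_F_mul {w u f : G} (hw : w ∈ V) (hu : u ∈ WW V F) (hf : f ∈ F) : c w (f * u) = c w u := by
  have h1 : f * w = w * f := F_comm hf (h.V_le_X hw)
  have h2 : f * c w u = c w u * f := F_comm hf (h.V_le_X (h.c_memV hw hu))
  calc c w (f * u) = w * f * u * w⁻¹ * u⁻¹ * f⁻¹ := by rw [c]; group
    _ = f * (w * u * w⁻¹ * u⁻¹) * f⁻¹ := by rw [← h1]; group
    _ = c w u * f * f⁻¹ := by rw [← c, h2]
    _ = c w u := by rw [mul_inv_cancel_right]

/-- `β` is symmetric. -/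
theorem beta_comm [Finite G] {w s t : G} (hw : w ∈ V) (hs : s ∈ WW V F) (ht : t ∈ WW V F) :
    c (c w s) t = c (c w t) s := by
  have h1 := h.c_mul_right hw hs ht
  have h2 := h.c_mul_right hw ht hs
  have h3 : c w (s * t) = c w (t * s) := by
    have e : s * t = c s t * (t * s) := by rw [c]; group
    rw [e, h.c_F_mul hw (mul_mem ht hs) (h.comm_WW hs ht)]
  rw [h1, h2, h.V_comm (h.c_memV hw hs) (h.c_memV hw ht)] at h3
  exact (mul_left_cancel h3).symm

/-- `β` is alternating. -/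
theorem beta_self [Finite G] {w s : G} (hw : w ∈ V) (hs : s ∈ WW V F) : c (c w s) s = 1 := by
  rw [c_def, h.c_comm hw hs, mul_inv_cancel_right, mul_inv_cancel]

theorem beta_memF [Finite G] {w s t : G} (hw : w ∈ V) (hs : s ∈ WW V F) (ht : t ∈ WW V F) :
    c (c w s) t ∈ F := h.comm_EW (h.c_memE hw hs) ht

/-- `[e, s t] = [e, s] [e, t]` for `e ∈ E` -/
theorem c_mul_right' [Finite G] {e s t : G} (he : e ∈ EE V F) (hs : s ∈ WW V F) (ht : t ∈ WW V F) :
    c e (s * t) = c e s * c e t := by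
  rw [h.c_mul_right he.1 hs ht, c_F (h.comm_EW he ht) hs, mul_one]

/-- `β_w (s s', t) = β_w (s, t) β_w (s', t)` -/
theorem beta_mul_left [Finite G] {w s s' t : G} (hw : w ∈ V) (hs : s ∈ WW V F) (hs' : s' ∈ WW V F)
    (ht : t ∈ WW V F) : c (c w (s * s')) t = c (c w s) t * c (c w s') t := by
  have hf : c (c w s') s ∈ F := h.beta_memF hw hs' hs
  rw [h.c_mul_right hw hs hs',
    h.c_mul_left (mul_mem (h.c_memV hw hs) (h.c_memV hw hs')) (h.F_le_V hf) ht, c_F hf ht, mul_one,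
    h.c_mul_left (h.c_memV hw hs) (h.c_memV hw hs') ht]

/-- `β_w (s, t t') = β_w (s, t) β_w (s, t')` -/
theorem beta_mul_right [Finite G] {w s t t' : G} (hw : w ∈ V) (hs : s ∈ WW V F) (ht : t ∈ WW V F)
    (ht' : t' ∈ WW V F) : c (c w s) (t * t') = c (c w s) t * c (c w s) t' :=
  h.c_mul_right' (h.c_memE hw hs) ht ht'

/-- `β_{w w'} = β_w β_{w'}` -/
theorem beta_mul [Finite G] {w w' s t : G} (hw : w ∈ V) (hw' : w' ∈ V) (hs : s ∈ WW V F)
    (ht : t ∈ WW V F) : c (c (w * w') s) t = c (c w s) t * c (c w' s) t := by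
  rw [h.c_mul_left hw hw' hs, h.c_mul_left (h.c_memV hw hs) (h.c_memV hw' hs) ht]

/-! ### (7) -/

omit h in
theorem NN_le_W : NN V F ≤ WW V F := inf_le_left

theorem E_le_NN : EE V F ≤ NN V F := le_inf E_le_W (comm_mono h.comm inf_le_left inf_le_left)

theorem F_le_NN : F ≤ NN V F := h.F_le_E.trans h.E_le_NN

/-- `s ∈ N ⟹ [w, s] ∈ F` for every `w ∈ V` -/
theorem c_mem_F [Finite G] {w s : G} (hw : w ∈ V) (hs : s ∈ NN V F) : c w s ∈ F := by
  rw [← h.cent_EW]
  refine mem_inf.2 ⟨h.c_memE hw hs.1, ?_⟩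
  rw [mem_centralizer_iff]
  intro t ht
  have h1 := h.beta_comm hw hs.1 ht
  have h2 : c (c w t) s = 1 := by
    rw [c_def, mem_centralizer_iff.1 hs.2 _ (h.c_memE hw ht), mul_inv_cancel_right, mul_inv_cancel]
  rw [h2] at h1
  calc t * c w s = (c (c w s) t)⁻¹ * (c w s * t) := by rw [c_def (c w s)]; group
    _ = c w s * t := by rw [h1, inv_one, one_mul]

/-- **(7)** for every `w ∈ V - E`: `[w, s] ∈ F ↔ s ∈ N`. -/
theorem c_mem_F_iff [Finite G] {w s : G} (hw : w ∈ V) (hwE : w ∉ EE V F) (hs : s ∈ WW V F) :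
    c w s ∈ F ↔ s ∈ NN V F := by
  refine ⟨fun h1 => mem_inf.2 ⟨hs, ?_⟩, fun h1 => h.c_mem_F hw h1⟩
  rw [mem_centralizer_iff]
  exact fun e he => h.comm_of_mem hw hwE hs h1 he

/-- **(7)** `N = {s ∈ W | [V, s] ≤ F}` -/
theorem mem_NN [Finite G] {s : G} : s ∈ NN V F ↔ s ∈ WW V F ∧ ∀ v ∈ V, c v s ∈ F := by
  refine ⟨fun h1 => ⟨h1.1, fun v hv => h.c_mem_F hv h1⟩, fun h1 => ?_⟩
  obtain ⟨w, hw, hwE⟩ := h.exists_not_mem
  exact (h.c_mem_F_iff hw hwE h1.1).1 (h1.2 w hw)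

theorem cos_NN [Finite G] {w : G} (hw : w ∈ V) (hwE : w ∉ EE V F) :
    Cos (c w) (WW V F) (NN V F) (EE V F) F where
  mem := fun _ hs => h.c_memE hw hs
  iff := fun a ha b hb => by
    rw [h.c_iff hw ha hb, h.c_mem_F_iff hw hwE (mul_mem (inv_mem ha) hb)]

/-- **(7)** `|W : N| = |E : F|` -/
theorem relIndex_NN [Finite G] : (NN V F).relIndex (WW V F) = F.relIndex (EE V F) := by
  obtain ⟨w, hw, hwE⟩ := h.exists_not_mem
  refine (h.cos_NN hw hwE).eq_of_surj fun e he => ?_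
  obtain ⟨s, hs, hse⟩ := h.surj hw hwE he
  refine ⟨s, hs, ?_⟩
  rw [h.inv (h.c_memV hw hs), ← h.inv he.1]
  exact hse

/-- `V` normalises `N`, and centralises `N / F`. -/
theorem V_norm_NN [Finite G] : V ≤ normalizer (NN V F : Set G) := by
  refine le_normalizer_of_comm fun v hv s hs => ?_
  exact h.F_le_NN (h.c_mem_F hv hs)

theorem W_norm_NN [Finite G] : WW V F ≤ normalizer (NN V F : Set G) := by
  refine le_normalizer_of_comm fun t ht s hs => ?_
  exact h.F_le_NN (h.comm_WW ht hs.1)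

end Hyp

end Cfsg.Agent.Omega.NOne.Flat
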