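import Cfsg.Agent.Omega.NOne.Flat.Eight

/-!
# THEOREM FLAT (text B4 #15506), part 4: (9)

`s ∈ W - N`:
* `Hyp.mem_E_of_c`: `w ↦ [w, s] F` is injective on `V / E`;
* `Hyp.relIndex_mul_le`: `|V : E| |E : C_E(s)| ≤ |E : F|`; `Hyp.relIndex_cent`: `|V : C_V(s)| = |V : E| |E : C_E(s)|`;
  `Hyp.relIndex_lt`: `|V : E| < |E : F|`;
* `Hyp.selfadj`: `θ_a⁻¹ θ_b` is self-adjoint;
* `Hyp.NN_le_cent`: `N ≤ C(V)` if `V ≤ E O²(⟨V, V^x⟩)` for a bad `x`.
-/

set_option autoImplicit false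

namespace Cfsg.Agent.Omega.NOne.Flat

open Subgroup Cfsg Cfsg.Agent.Omega.NoFF.Basic Cfsg.Agent.Omega.NOne.Frame
open Cfsg.Agent.Omega.NOne.NearFF (Near c c_def)
open Cfsg.Agent.ZN (o2)
open Cfsg.Agent.MinSimple.VModule
open scoped Pointwise

universe u

variable {G : Type u} [Group G]

namespace Hyp

variable {V F : Subgroup G} (h : Hyp V F)
include h

/-- **(9)** `w ↦ [w, s] F` is injective on `V / E` for `s ∈ W - N`. -/
theorem mem_E_of_c [Finite G] {w s : G} (hw : w ∈ V) (hs : s ∈ WW V F) (hsN : s ∉ NN V F)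
    (hc : c w s ∈ F) : w ∈ EE V F := by
  by_contra hwE
  exact hsN ((h.c_mem_F_iff hw hwE hs).1 hc)

theorem c_inv_left {a s : G} (ha : a ∈ V) (hs : s ∈ WW V F) : c a⁻¹ s = (c a s)⁻¹ := by
  rw [h.inv ha, h.inv (h.c_memV ha hs)]

theorem cos_V [Finite G] {s : G} (hs : s ∈ WW V F) (hsN : s ∉ NN V F) :
    Cos (fun w => c w s) V (EE V F) (EE V F ⊓ centralizer {s}) F where
  mem := fun w hw => mem_inf.2 ⟨h.c_memE hw hs, by
    rw [mem_centralizer_singleton_iff]; exact h.c_comm hw hs⟩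
  iff := fun a ha b hb => by
    rw [← h.c_inv_left ha hs, ← h.c_mul_left (inv_mem ha) hb hs]
    exact ⟨fun h1 => h.mem_E_of_c (mul_mem (inv_mem ha) hb) hs hsN h1, fun h1 => h.comm_EW h1 hs⟩

omit h in
theorem F_le_cent {s : G} (hs : s ∈ WW V F) : F ≤ centralizer {s} := by
  intro f hf
  rw [mem_centralizer_singleton_iff]
  exact F_comm hf (W_le_X hs)

/-- **(9)** `|V : E| |E : C_E(s)| ≤ |E : F|` for `s ∈ W - N` -/
theorem relIndex_mul_le [Finite G] {s : G} (hs : s ∈ WW V F) (hsN : s ∉ NN V F) :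
    (EE V F).relIndex V * (centralizer {s}).relIndex (EE V F) ≤ F.relIndex (EE V F) := by
  have h1 := (h.cos_V hs hsN).le
  have h2 := relIndex_mul_relIndex F (EE V F ⊓ centralizer {s}) (EE V F)
    (le_inf h.F_le_E (F_le_cent hs)) inf_le_left
  rw [inf_relIndex_left] at h2
  rw [← h2]
  exact Nat.mul_le_mul_right _ h1

/-- `C_V(s) ≤ E` for `s ∈ W - N` -/
theorem cent_le_E [Finite G] {s : G} (hs : s ∈ WW V F) (hsN : s ∉ NN V F) :
    V ⊓ centralizer {s} = EE V F ⊓ centralizer {s} := by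
  apply le_antisymm
  · intro w hw
    obtain ⟨hw1, hw2⟩ := mem_inf.1 hw
    refine mem_inf.2 ⟨h.mem_E_of_c hw1 hs hsN ?_, hw2⟩
    rw [c, mem_centralizer_singleton_iff.1 hw2, mul_inv_cancel_right, mul_inv_cancel]
    exact one_mem _
  · exact inf_le_inf_right _ inf_le_left

/-- **(9)** `|V : C_V(s)| = |V : E| |E : C_E(s)|` -/
theorem relIndex_cent [Finite G] {s : G} (hs : s ∈ WW V F) (hsN : s ∉ NN V F) :
    (centralizer {s}).relIndex V = (EE V F).relIndex V * (centralizer {s}).relIndex (EE V F) := by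
  have h1 := relIndex_mul_relIndex (EE V F ⊓ centralizer {s}) (EE V F) V inf_le_left inf_le_left
  rw [inf_relIndex_left] at h1
  rw [← inf_relIndex_left V (centralizer {s}), h.cent_le_E hs hsN, ← h1, mul_comm]

/-- **(9)** `|V : C_V(s)| ≤ |E : F|` -/
theorem relIndex_cent_le [Finite G] {s : G} (hs : s ∈ WW V F) (hsN : s ∉ NN V F) :
    (centralizer {s}).relIndex V ≤ F.relIndex (EE V F) := by
  rw [h.relIndex_cent hs hsN]
  exact h.relIndex_mul_le hs hsN

theorem exists_not_mem_NN [Finite G] : ∃ s ∈ WW V F, s ∉ NN V F := by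
  by_contra hall
  push Not at hall
  have h1 : (NN V F).relIndex (WW V F) = 1 := relIndex_eq_one.2 hall
  rw [h.relIndex_NN, relIndex_eq_one] at h1
  exact absurd h1 (not_le_of_gt h.F_lt_E)

omit h in
theorem two_le_relIndex [Finite G] {s : G} (hs : s ∈ WW V F) (hsN : s ∉ NN V F) :
    2 ≤ (centralizer {s}).relIndex (EE V F) := by
  have h0 : (centralizer {s}).relIndex (EE V F) ≠ 0 := index_ne_zero_of_finite
  have h1 : (centralizer {s}).relIndex (EE V F) ≠ 1 := by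
    rw [Ne, relIndex_eq_one]
    intro hle
    apply hsN
    refine mem_inf.2 ⟨hs, ?_⟩
    rw [mem_centralizer_iff]
    exact fun e he => mem_centralizer_singleton_iff.1 (hle he)
  omega

/-- **(9)** `|V : E| < |E : F|` -/
theorem relIndex_lt [Finite G] : (EE V F).relIndex V < F.relIndex (EE V F) := by
  obtain ⟨s, hs, hsN⟩ := h.exists_not_mem_NN
  have h1 := h.relIndex_mul_le hs hsN
  have h2 := two_le_relIndex hs hsN
  have h3 : (EE V F).relIndex V ≠ 0 := index_ne_zero_of_finite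
  nlinarith [Nat.pos_of_ne_zero h3]

/-! ### the maps `θ_a : W / N → E / F`, `s ↦ [a, s] F` -/

/-- the form `[e, t]` on `E / F × W / N` -/
theorem c_congr_left [Finite G] {e e' t : G} (he : e ∈ V) (he' : e' ∈ V) (ht : t ∈ WW V F)
    (hee : e⁻¹ * e' ∈ F) : c e t = c e' t := by
  have h1 : e' = e * (e⁻¹ * e') := by group
  rw [h1, h.c_mul_left he (mul_mem (inv_mem he) he') ht, c_F hee ht, mul_one]

theorem c_congr_right [Finite G] {e t t' : G} (he : e ∈ EE V F) (ht : t ∈ WW V F) (ht' : t' ∈ WW V F)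
    (htt : t⁻¹ * t' ∈ NN V F) : c e t = c e t' := by
  have h1 : t' = t * (t⁻¹ * t') := by group
  have h2 : c e (t⁻¹ * t') = 1 := by
    rw [c, mem_centralizer_iff.1 (mem_inf.1 htt).2 e he, mul_inv_cancel_right, mul_inv_cancel]
  rw [h1, h.c_mul_right' he ht (mul_mem (inv_mem ht) ht'), h2, mul_one]

/-- **(9)** `θ_a⁻¹ θ_b` is self-adjoint with respect to `β_a`. -/
theorem selfadj [Finite G] {a b s s' t t' : G} (ha : a ∈ V) (hb : b ∈ V) (hs : s ∈ WW V F)
    (hs' : s' ∈ WW V F) (ht : t ∈ WW V F) (ht' : t' ∈ WW V F) (h1 : (c a t)⁻¹ * c b s ∈ F)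
    (h2 : (c a t')⁻¹ * c b s' ∈ F) : c (c a t) s' = c (c a s) t' := by
  rw [h.c_congr_left (h.c_memV ha ht) (h.c_memV hb hs) hs' h1, h.beta_comm hb hs hs',
    ← h.c_congr_left (h.c_memV ha ht') (h.c_memV hb hs') hs h2, h.beta_comm ha ht' hs]

/-- the radical of `β_a` on `W` is `N` for `a ∈ V - E` -/
theorem beta_eq_one_iff [Finite G] {a s : G} (ha : a ∈ V) (haE : a ∉ EE V F) (hs : s ∈ WW V F) :
    (∀ t ∈ WW V F, c (c a s) t = 1) ↔ s ∈ NN V F := by
  rw [← h.c_mem_F_iff ha haE hs]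
  constructor
  · intro h1
    rw [← h.cent_EW]
    refine mem_inf.2 ⟨h.c_memE ha hs, ?_⟩
    rw [mem_centralizer_iff]
    intro t ht
    have h2 := h1 t ht
    calc t * c a s = (c (c a s) t)⁻¹ * (c a s * t) := by rw [c_def (c a s)]; group
      _ = c a s * t := by rw [h2, inv_one, one_mul]
  · intro h1 t ht
    exact c_F h1 ht

/-! ### `N` on `V` -/

/-- `[v, n n'] = [v, n] [v, n']` for `n, n' ∈ N` -/
theorem c_NN_mul [Finite G] {v n n' : G} (hv : v ∈ V) (hn : n ∈ NN V F) (hn' : n' ∈ NN V F) :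
    c v (n * n') = c v n * c v n' := by
  rw [h.c_mul_right hv hn.1 hn'.1, c_F (h.c_mem_F hv hn') hn.1, mul_one]

omit h in
/-- `[E, N] = 1` -/
theorem c_E_NN {e n : G} (he : e ∈ EE V F) (hn : n ∈ NN V F) : c e n = 1 := by
  rw [c, mem_centralizer_iff.1 hn.2 e he, mul_inv_cancel_right, mul_inv_cancel]

/-- `l ↦ [l, n]` is a homomorphism `⟨V, V^x⟩ → F` for `n ∈ N ∩ N^x`. -/
theorem exists_hom [Finite G] {x n : G} (hx : x ∈ centralizer (F : Set G)) (hn : n ∈ NN V F)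
    (hn' : n ∈ MulAut.conj x • NN V F) :
    ∃ ψ : ↥(V ⊔ MulAut.conj x • V) →* F, ∀ l : ↥(V ⊔ MulAut.conj x • V), ((ψ l : F) : G) = c (l : G) n := by
  have hnX : n ∈ centralizer (F : Set G) := W_le_X hn.1
  let K : Subgroup G :=
    { carrier := {l | l ∈ centralizer (F : Set G) ∧ c l n ∈ F}
      one_mem' := ⟨one_mem _, by
        have : c 1 n = 1 := by rw [c]; group
        rw [this]; exact one_mem _⟩
      mul_mem' := by
        rintro a b ⟨ha, ha2⟩ ⟨hb, hb2⟩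
        refine ⟨mul_mem ha hb, ?_⟩
        have e : c (a * b) n = a * c b n * a⁻¹ * c a n := by rw [c, c, c]; group
        rw [e]
        exact mul_mem (norm_mem (X_norm_F ha) hb2) ha2
      inv_mem' := by
        rintro a ⟨ha, ha2⟩
        refine ⟨inv_mem ha, ?_⟩
        have h1 := norm_mem' (X_norm_F ha) (inv_mem ha2)
        have e : a⁻¹ * (c a n)⁻¹ * a = c a⁻¹ n := by rw [c, c]; group
        rwa [e] at h1 }
  have hL : V ⊔ MulAut.conj x • V ≤ K := by
    refine sup_le (fun v hv => ⟨h.V_le_X hv, h.c_mem_F hv hn⟩) fun v hv => ⟨h.conjV_le_X hx hv, ?_⟩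
    exact ((h.mem_conjNN hx).1 hn').2 v hv
  refine ⟨MonoidHom.mk' (fun l => ⟨c (l : G) n, (hL l.2).2⟩) ?_, fun l => rfl⟩
  intro a b
  apply Subtype.ext
  have ha := hL a.2
  have hb := hL b.2
  have h1 : c (b : G) n * a = a * c (b : G) n := F_comm hb.2 ha.1
  have h2 : c (b : G) n * c (a : G) n = c (a : G) n * c (b : G) n :=
    h.V_comm (h.F_le_V hb.2) (h.F_le_V ha.2)
  change c ((a : G) * b) n = c (a : G) n * c (b : G) n
  calc c ((a : G) * b) n = a * c (b : G) n * (a : G)⁻¹ * c (a : G) n := by rw [c, c, c]; group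
    _ = c (b : G) n * c (a : G) n := by rw [← h1]; group
    _ = c (a : G) n * c (b : G) n := h2

/-- elements of `N ∩ N^x` commute with the elements of odd order of `⟨V, V^x⟩`. -/
theorem comm_odd [Finite G] {x n g : G} (hx : x ∈ centralizer (F : Set G)) (hn : n ∈ NN V F)
    (hn' : n ∈ MulAut.conj x • NN V F) (hg : g ∈ V ⊔ MulAut.conj x • V) (hodd : Odd (orderOf g)) :
    g * n = n * g := by
  obtain ⟨ψ, hψ⟩ := h.exists_hom hx hn hn'
  have h1 : ψ ⟨g, hg⟩ ^ orderOf g = 1 := by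
    rw [← map_pow]
    have : (⟨g, hg⟩ : ↥(V ⊔ MulAut.conj x • V)) ^ orderOf g = 1 := Subtype.ext (by
      rw [SubgroupClass.coe_pow]
      exact pow_orderOf_eq_one g)
    rw [this, map_one]
  have h2 : ψ ⟨g, hg⟩ ^ 2 = 1 := Subtype.ext (by
    rw [SubgroupClass.coe_pow]
    exact h.sq _ (h.F_le_V (ψ ⟨g, hg⟩).2))
  have h3 : ψ ⟨g, hg⟩ = 1 := by
    obtain ⟨k, hk⟩ := hodd
    rw [hk, pow_add, pow_mul, h2, one_pow, one_mul, pow_one] at h1
    exact h1
  have h4 : c g n = 1 := by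
    rw [← hψ ⟨g, hg⟩, h3]; rfl
  calc g * n = c g n * (n * g) := by rw [c]; group
    _ = n * g := by rw [h4, one_mul]

/-- **(9)** `N = C_W(V)` if `V ≤ E O²(⟨V, V^x⟩)` for a bad `x ∈ X`. -/
theorem NN_le_cent [Finite G] {x : G} (hx : x ∈ centralizer (F : Set G)) (hb : BadX V x)
    (hV : V ≤ EE V F ⊔ closure {g | g ∈ V ⊔ MulAut.conj x • V ∧ Odd (orderOf g)}) :
    NN V F ≤ centralizer (V : Set G) := by
  intro n hn
  obtain ⟨f, hf, e, he, n', hn', rfl⟩ := h.exists_decomp hx hb hn.1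
  obtain ⟨hn1, hn2⟩ := mem_inf.1 hn'
  have h1 : f ∈ F := by
    rw [← h.conjE_inf_NN hx hb]
    refine mem_inf.2 ⟨hf, ?_⟩
    have e1 : f = (f * e * n') * (e * n')⁻¹ := by group
    rw [e1]
    exact mul_mem hn (inv_mem (mul_mem (h.E_le_NN he) hn1))
  have h2 : V ≤ centralizer {n'} := by
    refine hV.trans (sup_le ?_ ((closure_le _).2 ?_))
    · intro e' he'
      rw [mem_centralizer_singleton_iff]
      exact mem_centralizer_iff.1 hn1.2 e' he'
    · rintro g ⟨hg, hodd⟩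
      rw [SetLike.mem_coe, mem_centralizer_singleton_iff]
      exact h.comm_odd hx hn1 hn2 hg hodd
  have h3 : n' ∈ centralizer (V : Set G) := by
    rw [mem_centralizer_iff]
    exact fun v hv => mem_centralizer_singleton_iff.1 (h2 hv)
  exact mul_mem (mul_mem (h.comm (h.F_le_V h1)) (h.comm he.1)) h3

end Hyp

end Cfsg.Agent.Omega.NOne.Flat
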