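import Cfsg.Agent.Omega.NOne.Flat.Nine

/-!
# THEOREM OFF (text OMEGA #16468, helper874)

`V`, `F`, `E`, `W`, `N` as in THEOREM FLAT.  For every `E₀` with `F ≤ E₀ ≤ E` : `|E₀ : F| ≤ |W : C_W(E₀)|`.

* `WA V F a E₀ = {s ∈ W | [a, s] ∈ E₀}`; `Hyp.relIndex_cent_WA` (1): `|E : C_E(W_a)| = |W : C_W(E₀)|`;
* `Hyp.lt_mul` (2): `|E₀ : F| < |V : E| |W : C_W(E₀)|` for `F < E₀ ≤ E`;
* `Hyp.off` (3): `|E₀ : F| ≤ |W : C_W(E₀)|`, with the socket `hq` (`|E₀ : F|` is a power of `|V : E|` for the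
  `τ`-invariant, `N(V) ∩ N(F)`-invariant `E₀`); `Hyp.off_core`: the same with the socket "`|E₁ : F|` and
  `|W : C_W(E₁)|` are powers of some `Q ≥ |V : E|`" for `τ`-invariant, `N(E) ∩ N(F) ∩ N(W)`-invariant `E₁`;
  `Hyp.off_div`: with the divisibility socket of helper789, helper304 (`N_X(E)`-invariant subgroups);
  `Hyp.off_two`: no socket for `|V : E| = 2`;
* `Hyp.off_of_le` COROLLARY A: `|Y : C_Y(W)| ≤ |W : C_W(Y)|` for every `Y ≤ E`.
-/

set_option autoImplicit false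

namespace Cfsg.Agent.Omega.NOne.Flat

open Subgroup Cfsg Cfsg.Agent.Omega.NoFF.Basic Cfsg.Agent.Omega.NOne.Frame
open Cfsg.Agent.Omega.NOne.NearFF (Near c c_def)
open Cfsg.Agent.ZN (o2)
open Cfsg.Agent.MinSimple.VModule
open scoped Pointwise

universe u

variable {G : Type u} [Group G]

namespace Off

theorem c_eq_one {x y : G} : c x y = 1 ↔ x * y = y * x := by
  rw [c]
  constructor
  · intro h
    calc x * y = x * y * x⁻¹ * y⁻¹ * (y * x) := by group
      _ = y * x := by rw [h, one_mul]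
  · intro h
    rw [h, mul_inv_cancel_right, mul_inv_cancel]

theorem conj_c (g x y : G) : g * c x y * g⁻¹ = c (g * x * g⁻¹) (g * y * g⁻¹) := by
  rw [c, c]; group

/-- `|H N| |H ∩ N| = |H| |N|` -/
theorem card_sup_mul_inf {H N : Subgroup G} (h : H ≤ normalizer (N : Set G)) :
    Nat.card ↥(H ⊔ N) * Nat.card ↥(H ⊓ N) = Nat.card H * Nat.card N := by
  have hN : (N.subgroupOf (H ⊔ N)).Normal :=
    normal_subgroupOf_of_le_normalizer (sup_le h le_normalizer)
  have h1 := relIndex_sup_right (H.subgroupOf (H ⊔ N)) (N.subgroupOf (H ⊔ N))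
  rw [← Subgroup.subgroupOf_sup le_sup_left le_sup_right, Subgroup.subgroupOf_self,
    Subgroup.relIndex_subgroupOf le_sup_left, relIndex_top_right] at h1
  have h2 : Nat.card N * N.relIndex H = Nat.card (H ⊔ N : Subgroup G) := by
    rw [← h1]
    exact card_mul_relIndex' le_sup_right
  have h3 := card_mul_relIndex' (inf_le_left : H ⊓ N ≤ H)
  rw [inf_relIndex_left] at h3
  rw [← h2, ← h3]
  ring

end Off

open Off

/-- `W_a = {s ∈ W | [a, s] ∈ E₀}` (see `Hyp.mem_WA`) -/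
def WA (V F : Subgroup G) (a : G) (E0 : Subgroup G) : Subgroup G :=
  closure {s | s ∈ WW V F ∧ c a s ∈ E0}

/-- `E_b(U) = F {[b, s] | s ∈ U}` (see `Hyp.mem_EA`) -/
def EA (F : Subgroup G) (b : G) (U : Subgroup G) : Subgroup G := F ⊔ closure {e | ∃ s ∈ U, c b s = e}

namespace Hyp

variable {V F : Subgroup G} (h : Hyp V F)
include h

theorem mem_WA [Finite G] {a : G} (ha : a ∈ V) {E0 : Subgroup G} (hF : F ≤ E0) {s : G} :
    s ∈ WA V F a E0 ↔ s ∈ WW V F ∧ c a s ∈ E0 := by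
  refine ⟨fun hs => ?_, fun hs => subset_closure hs⟩
  let K : Subgroup G :=
    { carrier := {s | s ∈ WW V F ∧ c a s ∈ E0}
      one_mem' := ⟨one_mem _, by
        have : c a 1 = 1 := c_one_right a
        rw [this]; exact one_mem _⟩
      mul_mem' := by
        rintro s t ⟨hs, hs2⟩ ⟨ht, ht2⟩
        refine ⟨mul_mem hs ht, ?_⟩
        rw [h.c_mul_right ha hs ht]
        exact mul_mem (mul_mem hs2 ht2) (hF (h.beta_memF ha ht hs))
      inv_mem' := by
        rintro s ⟨hs, hs2⟩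
        refine ⟨inv_mem hs, ?_⟩
        have h1 := hF (h.c_inv_mem ha hs)
        have h2 := mul_mem h1 (inv_mem hs2)
        rwa [mul_inv_cancel_right] at h2 }
  exact (closure_le K).2 (fun _ hx => hx) hs

omit h in
theorem WA_le_W {a : G} {E0 : Subgroup G} : WA V F a E0 ≤ WW V F := (closure_le _).2 fun _ hx => hx.1

theorem NN_le_WA [Finite G] {a : G} (ha : a ∈ V) {E0 : Subgroup G} (hF : F ≤ E0) : NN V F ≤ WA V F a E0 :=
  fun _ hs => (h.mem_WA ha hF).2 ⟨hs.1, hF (h.c_mem_F ha hs)⟩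

theorem exists_WA [Finite G] {a : G} (ha : a ∈ V) (haE : a ∉ EE V F) {E0 : Subgroup G} (hF : F ≤ E0)
    (hE : E0 ≤ EE V F) {e : G} (he : e ∈ E0) : ∃ s ∈ WA V F a E0, c a s * e⁻¹ ∈ F := by
  obtain ⟨s, hs, hse⟩ := h.surj ha haE (hE he)
  refine ⟨s, (h.mem_WA ha hF).2 ⟨hs, ?_⟩, hse⟩
  have := mul_mem (hF hse) he
  rwa [inv_mul_cancel_right] at this

theorem cos_WA [Finite G] {a : G} (ha : a ∈ V) (haE : a ∉ EE V F) {E0 : Subgroup G} (hF : F ≤ E0) :
    Cos (c a) (WA V F a E0) (NN V F) E0 F where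
  mem := fun _ hs => ((h.mem_WA ha hF).1 hs).2
  iff := fun x hx y hy => (h.cos_NN ha haE).iff x (WA_le_W hx) y (WA_le_W hy)

/-- the surjectivity of the map in the form of `Cos` -/
theorem inv_mul_mem {e f : G} (he : e ∈ V) (hf : f ∈ V) (hef : e * f⁻¹ ∈ F) : e⁻¹ * f ∈ F := by
  have h1 := inv_mem hef
  rw [mul_inv_rev, inv_inv, h.V_comm hf (inv_mem he)] at h1
  exact h1

/-- `|W_a : N| = |E₀ : F|` -/
theorem relIndex_WA [Finite G] {a : G} (ha : a ∈ V) (haE : a ∉ EE V F) {E0 : Subgroup G} (hF : F ≤ E0)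
    (hE : E0 ≤ EE V F) : (NN V F).relIndex (WA V F a E0) = F.relIndex E0 := by
  refine (h.cos_WA ha haE hF).eq_of_surj fun e he => ?_
  obtain ⟨s, hs, hse⟩ := h.exists_WA ha haE hF hE he
  exact ⟨s, hs, h.inv_mul_mem (h.c_memV ha (WA_le_W hs)) (hE he).1 hse⟩

/-! ### (1) -/

/-- `s' ∈ C(E₀) ↔ [a, s'] ∈ C(W_a)` -/
theorem cent_iff [Finite G] {a : G} (ha : a ∈ V) (haE : a ∉ EE V F) {E0 : Subgroup G} (hF : F ≤ E0)
    (hE : E0 ≤ EE V F) {s' : G} (hs' : s' ∈ WW V F) :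
    s' ∈ centralizer (E0 : Set G) ↔ c a s' ∈ centralizer (WA V F a E0 : Set G) := by
  rw [mem_centralizer_iff, mem_centralizer_iff]
  constructor
  · intro h1 s hs
    have h2 := h1 _ ((h.mem_WA ha hF).1 hs).2
    have h3 : c (c a s) s' = 1 := c_eq_one.2 h2
    rw [h.beta_comm ha (WA_le_W hs) hs', c_eq_one] at h3
    exact h3.symm
  · intro h1 e he
    obtain ⟨s, hs, hse⟩ := h.exists_WA ha haE hF hE he
    have h2 : c (c a s') s = 1 := c_eq_one.2 (h1 s hs).symm
    rw [h.beta_comm ha hs' (WA_le_W hs)] at h2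
    have h3 := h.inv_mul_mem (h.c_memV ha (WA_le_W hs)) (hE he).1 hse
    rw [h.c_congr_left (h.c_memV ha (WA_le_W hs)) (hE he).1 hs' h3] at h2
    exact c_eq_one.1 h2

theorem F_le_cent_WA {a : G} {E0 : Subgroup G} : F ≤ EE V F ⊓ centralizer (WA V F a E0 : Set G) :=
  le_inf h.F_le_E (comm_symm (WA_le_W.trans W_le_X))

omit h in
theorem NN_le_cent_E0 {E0 : Subgroup G} (hE : E0 ≤ EE V F) :
    NN V F ≤ WW V F ⊓ centralizer (E0 : Set G) :=
  inf_le_inf_left _ (centralizer_le hE)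

/-- `|C_W(E₀) : N| = |C_E(W_a) : F|` -/
theorem relIndex_cent' [Finite G] {a : G} (ha : a ∈ V) (haE : a ∉ EE V F) {E0 : Subgroup G} (hF : F ≤ E0)
    (hE : E0 ≤ EE V F) : (NN V F).relIndex (WW V F ⊓ centralizer (E0 : Set G)) =
      F.relIndex (EE V F ⊓ centralizer (WA V F a E0 : Set G)) := by
  have hc : Cos (c a) (WW V F ⊓ centralizer (E0 : Set G)) (NN V F)
      (EE V F ⊓ centralizer (WA V F a E0 : Set G)) F :=
    { mem := fun s hs => mem_inf.2 ⟨h.c_memE ha hs.1, (h.cent_iff ha haE hF hE hs.1).1 hs.2⟩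
      iff := fun x hx y hy => (h.cos_NN ha haE).iff x hx.1 y hy.1 }
  refine hc.eq_of_surj fun e he => ?_
  obtain ⟨heE, heC⟩ := mem_inf.1 he
  obtain ⟨s, hs, hse⟩ := h.surj ha haE heE
  refine ⟨s, mem_inf.2 ⟨hs, ?_⟩, h.inv_mul_mem (h.c_memV ha hs) heE.1 hse⟩
  rw [h.cent_iff ha haE hF hE hs]
  have h1 := mul_mem ((h.F_le_cent_WA (a := a) (E0 := E0) hse).2) heC
  rwa [inv_mul_cancel_right] at h1

/-- **(1)** `|E : C_E(W_a)| = |W : C_W(E₀)|` -/
theorem relIndex_cent_WA [Finite G] {a : G} (ha : a ∈ V) (haE : a ∉ EE V F) {E0 : Subgroup G}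
    (hF : F ≤ E0) (hE : E0 ≤ EE V F) :
    (centralizer (WA V F a E0 : Set G)).relIndex (EE V F) =
      (centralizer (E0 : Set G)).relIndex (WW V F) := by
  have h1 := relIndex_mul_relIndex F (EE V F ⊓ centralizer (WA V F a E0 : Set G)) (EE V F)
    h.F_le_cent_WA inf_le_left
  have h2 := relIndex_mul_relIndex (NN V F) (WW V F ⊓ centralizer (E0 : Set G)) (WW V F)
    (NN_le_cent_E0 hE) inf_le_left
  rw [inf_relIndex_left] at h1 h2
  rw [h.relIndex_cent' ha haE hF hE, h.relIndex_NN, ← h1] at h2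
  exact (Nat.eq_of_mul_eq_mul_left (Nat.pos_of_ne_zero index_ne_zero_of_finite) h2).symm

/-! ### (2) -/

/-- **(2)** `|E₀ : F| < |V : E| |W : C_W(E₀)|` for `F < E₀ ≤ E` -/
theorem lt_mul [Finite G] {E0 : Subgroup G} (hF : F < E0) (hE : E0 ≤ EE V F) :
    F.relIndex E0 < (EE V F).relIndex V * (centralizer (E0 : Set G)).relIndex (WW V F) := by
  obtain ⟨a, ha, haE⟩ := h.exists_not_mem
  obtain ⟨x, hx, hb, -, -⟩ := h.exists_near ha haE
  set A : Subgroup G := MulAut.conj x • EE V F ⊓ WA V F a E0 with hA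
  have hAW : A ≤ WW V F := inf_le_left.trans (conjE_le_W hx)
  have hAV : A ≤ MulAut.conj x • V := inf_le_left.trans (conjE_le_conjV x)
  have hAc : A ≤ centralizer (A : Set G) := comm_mono (conj_le_centralizer h.comm) hAV hAV
  have hAs : ∀ s ∈ A, s ^ 2 = 1 := by
    intro s hs
    obtain ⟨y, hy, rfl⟩ := mem_conj'.1 (hAV hs)
    rw [conj_pow, h.sq y hy, mul_one, mul_inv_cancel]
  have hFA : F ≤ A := le_inf (h.F_le_conjE hx) (h.F_le_NN.trans (h.NN_le_WA ha hF.le))
  have hAN : A ⊓ NN V F = F := by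
    apply le_antisymm
    · exact fun s hs => (h.conjE_inf_NN hx hb).le (mem_inf.2 ⟨hs.1.1, hs.2⟩)
    · exact le_inf hFA h.F_le_NN
  have hdec : ∀ s ∈ WA V F a E0, ∃ f ∈ A, f⁻¹ * s ∈ NN V F := by
    intro s hs
    obtain ⟨f, hf, hfs⟩ := h.exists_conjE_mul hx hb (WA_le_W hs)
    refine ⟨f, mem_inf.2 ⟨hf, ?_⟩, hfs⟩
    have h1 := mul_mem hs (inv_mem (h.NN_le_WA ha hF.le hfs))
    have e : s * (f⁻¹ * s)⁻¹ = f := by group
    rwa [e] at h1
  -- `|A : F| = |E₀ : F|`
  have hc : Cos id A F (WA V F a E0) (NN V F) :=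
    { mem := fun s hs => hs.2
      iff := fun s hs t ht => by
        refine ⟨fun h1 => ?_, fun h1 => h.F_le_NN h1⟩
        rw [← hAN]
        exact mem_inf.2 ⟨mul_mem (inv_mem hs) ht, h1⟩ }
  have e1 : F.relIndex A = F.relIndex E0 := by
    rw [← h.relIndex_WA ha haE hF.le hE]
    exact hc.eq_of_surj hdec
  have hAF : ¬ A ≤ F := by
    intro h1
    rw [← relIndex_eq_one, e1, relIndex_eq_one] at h1
    exact absurd h1 (not_le_of_gt hF)
  -- `C_A(V) = F`
  have hAV' : A ⊓ centralizer (V : Set G) = F := by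
    apply le_antisymm
    · rw [← hAN]
      intro s hs
      exact mem_inf.2 ⟨hs.1, mem_inf.2 ⟨hAW hs.1, centralizer_le E_le_V hs.2⟩⟩
    · exact le_inf hFA (h.F_le_V.trans h.comm)
  have e2 : (centralizer (V : Set G)).relIndex A = F.relIndex A := by
    rw [← inf_relIndex_left, hAV']
  -- `C_V(A) = C_E(W_a)`
  have hCV : V ⊓ centralizer (A : Set G) = EE V F ⊓ centralizer (WA V F a E0 : Set G) := by
    apply le_antisymm
    · intro w hw
      obtain ⟨hw1, hw2⟩ := mem_inf.1 hw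
      have hwE : w ∈ EE V F := by
        by_contra hwE
        apply hAF
        intro s hs
        rw [← hAN]
        refine mem_inf.2 ⟨hs, (h.c_mem_F_iff hw1 hwE (hAW hs)).1 ?_⟩
        rw [c_eq_one.2 (mem_centralizer_iff.1 hw2 s hs).symm]
        exact one_mem _
      refine mem_inf.2 ⟨hwE, ?_⟩
      rw [mem_centralizer_iff]
      intro s hs
      obtain ⟨f, hf, hfs⟩ := hdec s hs
      have h1 := mem_centralizer_iff.1 hw2 f hf
      have h2 : w * (f⁻¹ * s) = f⁻¹ * s * w := mem_centralizer_iff.1 hfs.2 w hwE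
      calc s * w = f * (f⁻¹ * s * w) := by group
        _ = f * w * (f⁻¹ * s) := by rw [← h2]; group
        _ = w * s := by rw [h1]; group
    · exact inf_le_inf E_le_V (centralizer_le inf_le_right)
  have e3 : (centralizer (A : Set G)).relIndex V =
      (EE V F).relIndex V * (centralizer (E0 : Set G)).relIndex (WW V F) := by
    have h1 := relIndex_mul_relIndex (EE V F ⊓ centralizer (WA V F a E0 : Set G)) (EE V F) V
      inf_le_left inf_le_left
    rw [inf_relIndex_left (EE V F), h.relIndex_cent_WA ha haE hF.le hE, ← hCV,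
      inf_relIndex_left V (centralizer (A : Set G))] at h1
    rw [← h1, mul_comm]
  have hAnc : ¬ A ≤ centralizer (V : Set G) := by
    intro h1
    apply hAF
    rw [← hAV']
    exact le_inf le_rfl h1
  have k := h.noff' (hAW.trans h.W_norm_V) hAc hAs hAnc
  rwa [e2, e1, e3] at k

/-! ### 2-powers -/

omit h in
theorem exists_pow_relIndex [Finite G] {A B : Subgroup G} (hB : IsPGroup 2 B) :
    ∃ k, A.relIndex B = 2 ^ k := by
  have : Fact (Nat.Prime 2) := ⟨Nat.prime_two⟩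
  obtain ⟨n, hn⟩ := IsPGroup.iff_card.1 hB
  have h1 : A.relIndex B ∣ Nat.card B := relIndex_dvd_card A B
  rw [hn] at h1
  obtain ⟨k, -, hk⟩ := (Nat.dvd_prime_pow Nat.prime_two).1 h1
  exact ⟨k, hk⟩

/-- `V / E` of order 2: **THEOREM OFF** -/
theorem off_two [Finite G] (hq : (EE V F).relIndex V = 2) {E0 : Subgroup G} (hF : F ≤ E0)
    (hE : E0 ≤ EE V F) : F.relIndex E0 ≤ (centralizer (E0 : Set G)).relIndex (WW V F) := by
  by_cases hlt : F = E0
  · rw [← hlt, relIndex_self]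
    exact Nat.one_le_iff_ne_zero.2 index_ne_zero_of_finite
  · have h1 := h.lt_mul (lt_of_le_of_ne hF hlt) hE
    obtain ⟨i, hi⟩ := exists_pow_relIndex (A := F) (h.V_isPGroup.to_le (hE.trans E_le_V))
    obtain ⟨j, hj⟩ := exists_pow_relIndex (A := centralizer (E0 : Set G)) (W_isPGroup (V := V) (F := F))
    rw [hq, hi, hj, ← pow_succ'] at h1
    have h2 := (Nat.pow_lt_pow_iff_right (by norm_num)).1 h1
    rw [hi, hj]
    exact Nat.pow_le_pow_right (by norm_num) (by omega)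


/-! ### (3) `E_b(U)` -/

theorem mem_EA [Finite G] {b : G} (hb : b ∈ V) {U : Subgroup G} (hU : U ≤ WW V F) {e : G} :
    e ∈ EA F b U ↔ ∃ s ∈ U, c b s * e⁻¹ ∈ F := by
  constructor
  · intro he
    let K : Subgroup G :=
      { carrier := {e | e ∈ V ∧ ∃ s ∈ U, c b s * e⁻¹ ∈ F}
        one_mem' := ⟨one_mem _, 1, one_mem _, by
          rw [c_one_right, one_mul, inv_one]; exact one_mem _⟩
        mul_mem' := by
          rintro e e' ⟨he, s, hs, hse⟩ ⟨he', s', hs', hse'⟩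
          refine ⟨mul_mem he he', s * s', mul_mem hs hs', ?_⟩
          have h1 := h.c_mul_mem hb (hU hs) (hU hs')
          have h2 := mul_mem (mul_mem h1 hse) hse'
          have hc := h.c_memV hb (hU hs)
          have hc' := h.c_memV hb (hU hs')
          have e1 : c b (s * s') * (c b s * c b s')⁻¹ * (c b s * e⁻¹) * (c b s' * e'⁻¹) =
              c b (s * s') * (e * e')⁻¹ := by
            have e2 : (c b s * c b s')⁻¹ * (c b s * e⁻¹) * (c b s' * e'⁻¹) = (e * e')⁻¹ := by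
              have e3 : e⁻¹ * c b s' = c b s' * e⁻¹ := h.V_comm (inv_mem he) hc'
              calc (c b s * c b s')⁻¹ * (c b s * e⁻¹) * (c b s' * e'⁻¹)
                  = (c b s')⁻¹ * (e⁻¹ * c b s') * e'⁻¹ := by group
                _ = e⁻¹ * e'⁻¹ := by rw [e3]; group
                _ = (e * e')⁻¹ := by rw [h.V_comm (inv_mem he) (inv_mem he')]; group
            calc c b (s * s') * (c b s * c b s')⁻¹ * (c b s * e⁻¹) * (c b s' * e'⁻¹)
                = c b (s * s') * ((c b s * c b s')⁻¹ * (c b s * e⁻¹) * (c b s' * e'⁻¹)) := by group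
              _ = c b (s * s') * (e * e')⁻¹ := by rw [e2]
          rwa [e1] at h2
        inv_mem' := by
          rintro e ⟨he, s, hs, hse⟩
          refine ⟨inv_mem he, s⁻¹, inv_mem hs, ?_⟩
          have h1 := h.c_inv_mem hb (hU hs)
          have h2 := mul_mem h1 (inv_mem hse)
          have e1 : c b s⁻¹ * c b s * (c b s * e⁻¹)⁻¹ = c b s⁻¹ * e⁻¹⁻¹ := by
            have e3 : c b s * e = e * c b s := h.V_comm (h.c_memV hb (hU hs)) he
            calc c b s⁻¹ * c b s * (c b s * e⁻¹)⁻¹ = c b s⁻¹ * (c b s * e) * (c b s)⁻¹ := by group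
              _ = c b s⁻¹ * e⁻¹⁻¹ := by rw [e3]; group
          rwa [e1] at h2 }
    have hle : EA F b U ≤ K := by
      refine sup_le (fun f hf => ⟨h.F_le_V hf, 1, one_mem _, ?_⟩) ((closure_le K).2 ?_)
      · rw [c_one_right, one_mul]
        exact inv_mem hf
      · rintro e ⟨s, hs, rfl⟩
        refine ⟨h.c_memV hb (hU hs), s, hs, ?_⟩
        rw [mul_inv_cancel]
        exact one_mem _
    exact (hle he).2
  · rintro ⟨s, hs, hse⟩
    have e1 : e = (c b s * e⁻¹)⁻¹ * c b s := by group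
    rw [e1]
    exact mul_mem (inv_mem (mem_sup_left hse)) (mem_sup_right (subset_closure ⟨s, hs, rfl⟩))

omit h in
theorem F_le_EA {b : G} {U : Subgroup G} : F ≤ EA F b U := le_sup_left

theorem EA_le_E [Finite G] {b : G} (hb : b ∈ V) {U : Subgroup G} (hU : U ≤ WW V F) : EA F b U ≤ EE V F := by
  refine sup_le h.F_le_E ((closure_le _).2 ?_)
  rintro e ⟨s, hs, rfl⟩
  exact h.c_memE hb (hU hs)

/-- `W_b(E_b(U)) = U` -/
theorem WA_EA [Finite G] {b : G} (hb : b ∈ V) (hbE : b ∉ EE V F) {U : Subgroup G} (hU : U ≤ WW V F)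
    (hN : NN V F ≤ U) : WA V F b (EA F b U) = U := by
  ext s
  rw [h.mem_WA hb F_le_EA, h.mem_EA hb hU]
  constructor
  · rintro ⟨hs, t, ht, hts⟩
    have h1 := h.inv_mul_mem (h.c_memV hb (hU ht)) (h.c_memV hb hs) hts
    rw [h.c_iff hb (hU ht) hs, h.c_mem_F_iff hb hbE (mul_mem (inv_mem (hU ht)) hs)] at h1
    have h2 := mul_mem ht (hN h1)
    rwa [mul_inv_cancel_left] at h2
  · intro hs
    refine ⟨hU hs, s, hs, ?_⟩
    rw [mul_inv_cancel]
    exact one_mem _

/-! ### conjugation by `g ∈ N(V) ∩ N(F)` -/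

omit h in
theorem conj_eq_of_norm {g : G} {A : Subgroup G} (hg : g ∈ normalizer (A : Set G)) :
    MulAut.conj g • A = A := by
  ext z
  rw [mem_conj]
  constructor
  · intro hz
    have := norm_mem hg hz
    have e : g * (g⁻¹ * z * g) * g⁻¹ = z := by group
    rwa [e] at this
  · exact fun hz => norm_mem' hg hz

omit h in
theorem norm_X {g : G} (hg : g ∈ normalizer (F : Set G)) :
    MulAut.conj g • centralizer (F : Set G) = centralizer (F : Set G) := by
  rw [conj_centralizer, conj_eq_of_norm hg]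

omit h in
theorem norm_EE {g : G} (hgV : g ∈ normalizer (V : Set G)) (hg : g ∈ normalizer (F : Set G)) :
    MulAut.conj g • EE V F = EE V F := by
  rw [EE, Subgroup.smul_inf, conj_eq_of_norm hgV, o2_conj, norm_X hg]

omit h in
theorem norm_WW {g : G} (hgV : g ∈ normalizer (V : Set G)) (hg : g ∈ normalizer (F : Set G)) :
    MulAut.conj g • WW V F = WW V F := by
  have key : ∀ g : G, g ∈ normalizer (V : Set G) → g ∈ normalizer (F : Set G) →
      MulAut.conj g • WW V F ≤ WW V F := by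
    intro g hgV hg
    have h1 : WW V F ≤ MulAut.conj g⁻¹ • WW V F := by
      refine V_le fun x hx => ?_
      have hx' : g * x * g⁻¹ ∈ centralizer (F : Set G) := by
        have := Frame.conj_mem (g := g) hx
        rwa [norm_X hg] at this
      have h2 := conj_le_iff (g := g⁻¹) |>.2 (conjE_le_W (V := V) (F := F) hx')
      rw [conj_conj] at h2
      have e : g⁻¹ * (g * x * g⁻¹) = x * g⁻¹ := by group
      rw [e, ← conj_conj, norm_EE (inv_mem hgV) (inv_mem hg)] at h2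
      exact h2
    have h2 := conj_le_iff (g := g) |>.2 h1
    rwa [conj_conj, mul_inv_cancel, map_one, one_smul] at h2
  refine le_antisymm (key g hgV hg) ?_
  have h2 := conj_le_iff (g := g) |>.2 (key g⁻¹ (inv_mem hgV) (inv_mem hg))
  rwa [conj_conj, mul_inv_cancel, map_one, one_smul] at h2


omit h in
theorem relIndex_conj (g : G) (A B : Subgroup G) :
    (MulAut.conj g • A).relIndex (MulAut.conj g • B) = A.relIndex B :=
  relIndex_pointwise_smul (MulAut.conj g) A B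

omit h in
/-- `g (W_a(E₀)) g⁻¹ = W_{gag⁻¹}(g E₀ g⁻¹)` -/
theorem norm_WA {g : G} (hgV : g ∈ normalizer (V : Set G)) (hg : g ∈ normalizer (F : Set G)) (a : G)
    (E0 : Subgroup G) : MulAut.conj g • WA V F a E0 = WA V F (g * a * g⁻¹) (MulAut.conj g • E0) := by
  have key : ∀ g : G, g ∈ normalizer (V : Set G) → g ∈ normalizer (F : Set G) → ∀ a : G,
      ∀ E0 : Subgroup G, WA V F a E0 ≤ MulAut.conj g⁻¹ • WA V F (g * a * g⁻¹) (MulAut.conj g • E0) := by
    intro g hgV hg a E0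
    refine (closure_le _).2 ?_
    rintro s ⟨hs, hs2⟩
    rw [SetLike.mem_coe, mem_conj, inv_inv]
    refine subset_closure ⟨?_, ?_⟩
    · have := Frame.conj_mem (g := g) hs
      rwa [norm_WW hgV hg] at this
    · rw [← conj_c]
      exact Frame.conj_mem hs2
  apply le_antisymm
  · have h2 := conj_le_iff (g := g) |>.2 (key g hgV hg a E0)
    rwa [conj_conj, mul_inv_cancel, map_one, one_smul] at h2
  · have h2 := key g⁻¹ (inv_mem hgV) (inv_mem hg) (g * a * g⁻¹) (MulAut.conj g • E0)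
    rw [inv_inv, conj_conj, inv_mul_cancel, map_one, one_smul] at h2
    have e : g⁻¹ * (g * a * g⁻¹) * g = a := by group
    rwa [e] at h2

end Hyp

/-- `τ`-invariance: `W_a` does not depend on `a ∈ V - E`. -/
def TauInv (V F E0 : Subgroup G) : Prop :=
  ∀ a ∈ V, a ∉ EE V F → ∀ b ∈ V, b ∉ EE V F → WA V F a E0 = WA V F b E0

/-- invariance under `N(V) ∩ N(F)` -/
def NormInv (V F E0 : Subgroup G) : Prop :=
  ∀ g ∈ normalizer (V : Set G), g ∈ normalizer (F : Set G) → MulAut.conj g • E0 = E0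

/-- invariance under `N(E) ∩ N(F) ∩ N(W)` -/
def NormInvE (V F E0 : Subgroup G) : Prop :=
  ∀ g ∈ normalizer (EE V F : Set G), g ∈ normalizer (F : Set G) → g ∈ normalizer (WW V F : Set G) →
    MulAut.conj g • E0 = E0

/-- `g(E₀) = |W : C_W(E₀)| / |E₀ : F|` -/
noncomputable def gg (V F E0 : Subgroup G) : ℚ :=
  ((centralizer (E0 : Set G)).relIndex (WW V F) : ℚ) / (F.relIndex E0 : ℚ)

namespace Hyp

variable {V F : Subgroup G} (h : Hyp V F)
include h

theorem W_norm_of_le [Finite G] {A B : Subgroup G} (hA : A ≤ WW V F) (hB : B ≤ WW V F) (hF : F ≤ B) :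
    A ≤ normalizer (B : Set G) :=
  le_normalizer_of_comm fun _ ha _ hb => hF (h.comm_WW (hA ha) (hB hb))

theorem submod_r [Finite G] {E1 E2 : Subgroup G} (_h1 : E1 ≤ EE V F) (h2 : E2 ≤ EE V F) :
    (centralizer ((E1 ⊔ E2 : Subgroup G) : Set G)).relIndex (WW V F) *
      (centralizer ((E1 ⊓ E2 : Subgroup G) : Set G)).relIndex (WW V F) ≤
    (centralizer (E1 : Set G)).relIndex (WW V F) * (centralizer (E2 : Set G)).relIndex (WW V F) := by
  set W := WW V F with hW
  have hFc : ∀ E0 : Subgroup G, E0 ≤ EE V F → F ≤ W ⊓ centralizer (E0 : Set G) := fun E0 hE0 =>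
    h.F_le_NN.trans (NN_le_cent_E0 hE0)
  have k : ∀ E0 : Subgroup G, Nat.card ↥(W ⊓ centralizer (E0 : Set G)) *
      (centralizer (E0 : Set G)).relIndex W = Nat.card W := fun E0 => by
    have := card_mul_relIndex' (inf_le_left : W ⊓ centralizer (E0 : Set G) ≤ W)
    rwa [inf_relIndex_left] at this
  have hn : W ⊓ centralizer (E1 : Set G) ≤ normalizer ((W ⊓ centralizer (E2 : Set G) : Subgroup G) : Set G) :=
    h.W_norm_of_le inf_le_left inf_le_left (hFc E2 h2)
  have e1 := card_sup_mul_inf hn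
  have e2 : (W ⊓ centralizer (E1 : Set G)) ⊓ (W ⊓ centralizer (E2 : Set G)) =
      W ⊓ centralizer ((E1 ⊔ E2 : Subgroup G) : Set G) := by
    apply le_antisymm
    · refine le_inf (inf_le_left.trans inf_le_left) ?_
      refine comm_symm (sup_le ?_ ?_)
      · exact comm_symm (inf_le_left.trans inf_le_right)
      · exact comm_symm (inf_le_right.trans inf_le_right)
    · exact le_inf (inf_le_inf_left _ (centralizer_le (le_sup_left : E1 ≤ E1 ⊔ E2)))
        (inf_le_inf_left _ (centralizer_le (le_sup_right : E2 ≤ E1 ⊔ E2)))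
  have e3 : (W ⊓ centralizer (E1 : Set G)) ⊔ (W ⊓ centralizer (E2 : Set G)) ≤
      W ⊓ centralizer ((E1 ⊓ E2 : Subgroup G) : Set G) :=
    sup_le (inf_le_inf_left _ (centralizer_le inf_le_left)) (inf_le_inf_left _ (centralizer_le inf_le_right))
  have e4 := Subgroup.card_le_of_le e3
  rw [e2] at e1
  have k1 := k E1
  have k2 := k E2
  have k3 := k (E1 ⊔ E2)
  have k4 := k (E1 ⊓ E2)
  have p1 : 0 < Nat.card ↥(W ⊓ centralizer (E1 : Set G)) := Nat.card_pos
  have p2 : 0 < Nat.card ↥(W ⊓ centralizer (E2 : Set G)) := Nat.card_pos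
  generalize Nat.card ↥(W ⊓ centralizer (E1 : Set G)) = c1 at *
  generalize Nat.card ↥(W ⊓ centralizer (E2 : Set G)) = c2 at *
  generalize Nat.card ↥(W ⊓ centralizer ((E1 ⊔ E2 : Subgroup G) : Set G)) = c3 at *
  generalize Nat.card ↥(W ⊓ centralizer ((E1 ⊓ E2 : Subgroup G) : Set G)) = c4 at *
  generalize (centralizer (E1 : Set G)).relIndex W = r1 at *
  generalize (centralizer (E2 : Set G)).relIndex W = r2 at *
  generalize (centralizer ((E1 ⊔ E2 : Subgroup G) : Set G)).relIndex W = r3 at *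
  generalize (centralizer ((E1 ⊓ E2 : Subgroup G) : Set G)).relIndex W = r4 at *
  generalize Nat.card W = w at *
  by_contra hlt
  have hlt := Nat.not_le.1 hlt
  have e5 : c1 * c2 ≤ c4 * c3 := by
    rw [← e1]
    exact Nat.mul_le_mul_right _ e4
  have e6 : (c1 * c2) * (r1 * r2) = (c4 * c3) * (r3 * r4) := by
    calc (c1 * c2) * (r1 * r2) = (c1 * r1) * (c2 * r2) := by ring
      _ = (c4 * r4) * (c3 * r3) := by rw [k1, k2, k3, k4]
      _ = _ := by ring
  have e7 : (c1 * c2) * (r1 * r2) < (c1 * c2) * (r3 * r4) :=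
    Nat.mul_lt_mul_of_pos_left hlt (Nat.mul_pos p1 p2)
  have e8 : (c1 * c2) * (r3 * r4) ≤ (c4 * c3) * (r3 * r4) := Nat.mul_le_mul_right _ e5
  omega

theorem mod_e [Finite G] {E1 E2 : Subgroup G} (hF1 : F ≤ E1) (hF2 : F ≤ E2) (h1 : E1 ≤ EE V F)
    (h2 : E2 ≤ EE V F) :
    F.relIndex (E1 ⊔ E2) * F.relIndex (E1 ⊓ E2) = F.relIndex E1 * F.relIndex E2 := by
  have hn : E1 ≤ normalizer (E2 : Set G) :=
    (comm_mono h.comm (h1.trans E_le_V) (h2.trans E_le_V)).trans (centralizer_le_normalizer _)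
  have e1 := card_sup_mul_inf hn
  have k1 := card_mul_relIndex' hF1
  have k2 := card_mul_relIndex' hF2
  have k3 := card_mul_relIndex' (hF1.trans (le_sup_left : E1 ≤ E1 ⊔ E2))
  have k4 := card_mul_relIndex' (le_inf hF1 hF2)
  rw [← k1, ← k2, ← k3, ← k4] at e1
  have hp : 0 < Nat.card F * Nat.card F := Nat.mul_pos Nat.card_pos Nat.card_pos
  apply Nat.eq_of_mul_eq_mul_left hp
  calc Nat.card F * Nat.card F * (F.relIndex (E1 ⊔ E2) * F.relIndex (E1 ⊓ E2)) =
      Nat.card F * F.relIndex (E1 ⊔ E2) * (Nat.card F * F.relIndex (E1 ⊓ E2)) := by ring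
    _ = _ := by rw [e1]; ring

omit h in
theorem relIndex_pos' [Finite G] (A B : Subgroup G) : (0 : ℚ) < (A.relIndex B : ℚ) := by
  exact_mod_cast Nat.pos_of_ne_zero index_ne_zero_of_finite

omit h in
theorem gg_pos [Finite G] (E0 : Subgroup G) : 0 < gg V F E0 := div_pos (relIndex_pos' _ _) (relIndex_pos' _ _)

theorem gg_mul_le [Finite G] {E1 E2 : Subgroup G} (hF1 : F ≤ E1) (hF2 : F ≤ E2) (h1 : E1 ≤ EE V F)
    (h2 : E2 ≤ EE V F) : gg V F (E1 ⊔ E2) * gg V F (E1 ⊓ E2) ≤ gg V F E1 * gg V F E2 := by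
  rw [gg, gg, gg, gg, div_mul_div_comm, div_mul_div_comm]
  have e1 : (F.relIndex (E1 ⊔ E2) : ℚ) * (F.relIndex (E1 ⊓ E2) : ℚ) = F.relIndex E1 * F.relIndex E2 := by
    exact_mod_cast h.mod_e hF1 hF2 h1 h2
  rw [e1]
  refine div_le_div_of_nonneg_right ?_ (mul_pos (relIndex_pos' _ _) (relIndex_pos' _ _)).le
  exact_mod_cast h.submod_r h1 h2

/-- the smallest minimum of `g` -/
theorem exists_least [Finite G] : ∃ E1 : Subgroup G, F ≤ E1 ∧ E1 ≤ EE V F ∧
    (∀ E0 : Subgroup G, F ≤ E0 → E0 ≤ EE V F → gg V F E1 ≤ gg V F E0) ∧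
    ∀ E0 : Subgroup G, F ≤ E0 → E0 ≤ EE V F → gg V F E0 = gg V F E1 → E1 ≤ E0 := by
  obtain ⟨E2, ⟨h1, h2⟩, hmin⟩ := Set.exists_min_image {E0 : Subgroup G | F ≤ E0 ∧ E0 ≤ EE V F} (gg V F)
    (Set.toFinite _) ⟨F, le_rfl, h.F_le_E⟩
  obtain ⟨E1, ⟨h3, h4, h5⟩, hmin'⟩ := Set.exists_min_image
    {E0 : Subgroup G | F ≤ E0 ∧ E0 ≤ EE V F ∧ gg V F E0 = gg V F E2} (fun E0 => Nat.card E0)
    (Set.toFinite _) ⟨E2, h1, h2, rfl⟩
  refine ⟨E1, h3, h4, fun E0 hF hE => by rw [h5]; exact hmin E0 ⟨hF, hE⟩, fun E0 hF hE hg => ?_⟩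
  rw [h5] at hg
  -- `g(E₁ ∩ E₀) = g(E₁)`
  have k1 := h.gg_mul_le h3 hF h4 hE
  rw [h5, hg] at k1
  have k2 : gg V F E2 ≤ gg V F (E1 ⊔ E0) := hmin _ ⟨h3.trans le_sup_left, sup_le h4 hE⟩
  have k3 : gg V F E2 ≤ gg V F (E1 ⊓ E0) := hmin _ ⟨le_inf h3 hF, inf_le_left.trans h4⟩
  have hp : 0 < gg V F E2 := gg_pos _
  have k4 : gg V F (E1 ⊓ E0) = gg V F E2 := by
    apply le_antisymm _ k3
    by_contra hlt
    have hlt := not_le.1 hlt
    have : gg V F E2 * gg V F E2 < gg V F (E1 ⊔ E0) * gg V F (E1 ⊓ E0) :=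
      mul_lt_mul' k2 hlt hp.le (lt_of_lt_of_le hp k2)
    linarith
  have k5 := hmin' (E1 ⊓ E0) ⟨le_inf h3 hF, inf_le_left.trans h4, k4⟩
  have k6 : E1 ⊓ E0 = E1 := Subgroup.eq_of_le_of_card_ge inf_le_left k5
  rw [← k6]
  exact inf_le_right

omit h in
/-- a subgroup with the same `|E₀ : F|` containing `E₁` -/
theorem eq_of_relIndex [Finite G] {E0 E1 : Subgroup G} (hF1 : F ≤ E1) (hF0 : F ≤ E0) (hle : E1 ≤ E0)
    (he : F.relIndex E0 = F.relIndex E1) : E1 = E0 := by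
  refine Subgroup.eq_of_le_of_card_ge hle ?_
  rw [← card_mul_relIndex' hF0, ← card_mul_relIndex' hF1, he]

theorem one_lt_relIndex [Finite G] : 1 < (EE V F).relIndex V := by
  obtain ⟨a, ha, haE⟩ := h.exists_not_mem
  have h1 : (EE V F).relIndex V ≠ 0 := index_ne_zero_of_finite
  have h2 : (EE V F).relIndex V ≠ 1 := by
    rw [Ne, relIndex_eq_one]
    exact fun h2 => haE (h2 ha)
  omega

omit h in
theorem dvd_of_two_pow {n m : ℕ} (h1 : 2 ^ n - 1 ∣ 2 ^ m - 1) : n ∣ m := by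
  have h2 := Nat.pow_sub_one_gcd_pow_sub_one 2 n m
  rw [Nat.gcd_eq_left h1] at h2
  have p1 : 0 < 2 ^ n := by positivity
  have p2 : 0 < 2 ^ Nat.gcd n m := by positivity
  have h3 : 2 ^ n = 2 ^ Nat.gcd n m := by omega
  have h4 := Nat.pow_right_injective le_rfl h3
  rw [h4]
  exact Nat.gcd_dvd_right n m

omit h in
theorem norm_of_conj_eq {g : G} {A : Subgroup G} (hg : MulAut.conj g • A = A) :
    g ∈ normalizer (A : Set G) := by
  rw [mem_normalizer_iff]
  intro z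
  constructor
  · intro hz
    have := Frame.conj_mem (g := g) hz
    rwa [hg] at this
  · intro hz
    rw [← hg, mem_conj] at hz
    have e : g⁻¹ * (g * z * g⁻¹) * g = z := by group
    rwa [e] at hz

omit h in
theorem NormInvE.normInv {E0 : Subgroup G} (h0 : NormInvE V F E0) : NormInv V F E0 :=
  fun g hgV hg => h0 g (norm_of_conj_eq (norm_EE hgV hg)) hg (norm_of_conj_eq (norm_WW hgV hg))

/-- `τ`-invariance of the least minimum -/
theorem least_tau [Finite G] {E1 : Subgroup G} (hF1 : F ≤ E1) (hE1 : E1 ≤ EE V F)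
    (hleast : ∀ E0 : Subgroup G, F ≤ E0 → E0 ≤ EE V F → gg V F E0 = gg V F E1 → E1 ≤ E0) :
    TauInv V F E1 := by
  intro a ha haE b hb hbE
  set U := WA V F a E1 with hU
  have hUW : U ≤ WW V F := WA_le_W
  have hNU : NN V F ≤ U := h.NN_le_WA ha hF1
  have hEA : EA F b U ≤ EE V F := h.EA_le_E hb hUW
  have e1 := h.WA_EA hb hbE hUW hNU
  have e2 : F.relIndex (EA F b U) = F.relIndex E1 := by
    rw [← h.relIndex_WA hb hbE F_le_EA hEA, e1, hU, h.relIndex_WA ha haE hF1 hE1]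
  have e3 : (centralizer (EA F b U : Set G)).relIndex (WW V F) =
      (centralizer (E1 : Set G)).relIndex (WW V F) := by
    rw [← h.relIndex_cent_WA hb hbE F_le_EA hEA, e1, hU, h.relIndex_cent_WA ha haE hF1 hE1]
  have e4 : gg V F (EA F b U) = gg V F E1 := by rw [gg, gg, e2, e3]
  have e5 := eq_of_relIndex hF1 F_le_EA (hleast _ F_le_EA hEA e4) e2
  rw [← e1, ← e5]

omit h in
/-- invariance of the least minimum under `N(E) ∩ N(F) ∩ N(W)` -/
theorem least_norm [Finite G] {E1 : Subgroup G} (hF1 : F ≤ E1) (hE1 : E1 ≤ EE V F)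
    (hleast : ∀ E0 : Subgroup G, F ≤ E0 → E0 ≤ EE V F → gg V F E0 = gg V F E1 → E1 ≤ E0) :
    NormInvE V F E1 := by
  intro g hgE hg hgW
  have hF' : F ≤ MulAut.conj g • E1 := by
    have := conj_le_iff (g := g) |>.2 hF1
    rwa [conj_eq_of_norm hg] at this
  have hE' : MulAut.conj g • E1 ≤ EE V F := by
    have := conj_le_iff (g := g) |>.2 hE1
    rwa [conj_eq_of_norm hgE] at this
  have e2 : F.relIndex (MulAut.conj g • E1) = F.relIndex E1 := by
    have := relIndex_conj g F E1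
    rwa [conj_eq_of_norm hg] at this
  have e3 : (centralizer ((MulAut.conj g • E1 : Subgroup G) : Set G)).relIndex (WW V F) =
      (centralizer (E1 : Set G)).relIndex (WW V F) := by
    have := relIndex_conj g (centralizer (E1 : Set G)) (WW V F)
    rwa [conj_eq_of_norm hgW, conj_centralizer] at this
  have e4 : gg V F (MulAut.conj g • E1) = gg V F E1 := by rw [gg, gg, e2, e3]
  exact (eq_of_relIndex hF1 hF' (hleast _ hF' hE' e4) e2).symm

/-- **THEOREM OFF**, with the socket: for the least minimum `E₁` of `g` both `|E₁ : F|` and `|W : C_W(E₁)|` are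
powers of some `Q ≥ |V : E|` -/
theorem off_core [Finite G] (hq : ∀ E1 : Subgroup G, F < E1 → E1 ≤ EE V F → TauInv V F E1 →
    NormInvE V F E1 → ∃ Q i j, (EE V F).relIndex V ≤ Q ∧ F.relIndex E1 = Q ^ i ∧
      (centralizer (E1 : Set G)).relIndex (WW V F) = Q ^ j) {E0 : Subgroup G} (hF : F ≤ E0)
    (hE : E0 ≤ EE V F) : F.relIndex E0 ≤ (centralizer (E0 : Set G)).relIndex (WW V F) := by
  obtain ⟨E1, hF1, hE1, hmin, hleast⟩ := h.exists_least
  -- it is enough to show `g(E₁) ≥ 1`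
  suffices hsuff : F.relIndex E1 ≤ (centralizer (E1 : Set G)).relIndex (WW V F) by
    have k1 : 1 ≤ gg V F E1 := by
      rw [gg, le_div_iff₀ (relIndex_pos' _ _), one_mul]
      exact_mod_cast hsuff
    have k2 := k1.trans (hmin E0 hF hE)
    rw [gg, le_div_iff₀ (relIndex_pos' _ _), one_mul] at k2
    exact_mod_cast k2
  by_cases hlt : F = E1
  · rw [← hlt, relIndex_self]
    exact Nat.one_le_iff_ne_zero.2 index_ne_zero_of_finite
  have hlt' : F < E1 := lt_of_le_of_ne hF1 hlt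
  obtain ⟨Q, i, j, hQ, hi, hj⟩ := hq E1 hlt' hE1 (h.least_tau hF1 hE1 hleast) (least_norm hF1 hE1 hleast)
  have e1 := h.lt_mul hlt' hE1
  have hq2 := h.one_lt_relIndex
  have hQ2 : 1 < Q := lt_of_lt_of_le hq2 hQ
  have e2 : F.relIndex E1 < Q * (centralizer (E1 : Set G)).relIndex (WW V F) :=
    lt_of_lt_of_le e1 (Nat.mul_le_mul_right _ hQ)
  rw [hi, hj, ← pow_succ'] at e2
  rw [hi, hj]
  have h2 := (Nat.pow_lt_pow_iff_right hQ2).1 e2
  exact Nat.pow_le_pow_right (by omega) (by omega)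

/-- **THEOREM OFF** from divisibility: every `D`, `F < D ≤ E`, invariant under `N(E) ∩ N(F) ∩ N(W)` (in particular
under `N_X(E)`), has `2^m - 1 ∣ |D : F| - 1, |W : C_W(D)| - 1` for some `m` with `|V : E| ≤ 2^m` -/
theorem off_div [Finite G] (hdiv : ∀ D : Subgroup G, F ≤ D → D ≤ EE V F →
    (∀ g ∈ centralizer (F : Set G), MulAut.conj g • EE V F = EE V F → MulAut.conj g • D = D) →
    ∃ m, (EE V F).relIndex V ≤ 2 ^ m ∧ 2 ^ m - 1 ∣ F.relIndex D - 1 ∧
      2 ^ m - 1 ∣ (centralizer (D : Set G)).relIndex (WW V F) - 1) {E0 : Subgroup G} (hF : F ≤ E0)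
    (hE : E0 ≤ EE V F) : F.relIndex E0 ≤ (centralizer (E0 : Set G)).relIndex (WW V F) := by
  refine h.off_core ?_ hF hE
  intro E1 hlt hE1 _ hν
  obtain ⟨m, hm, h1, h2⟩ := hdiv E1 hlt.le hE1 fun g hg hgE =>
    hν g (norm_of_conj_eq hgE) (X_norm_F hg) (X_norm_W hg)
  obtain ⟨a, ha⟩ := exists_pow_relIndex (A := F) (h.V_isPGroup.to_le (hE1.trans E_le_V))
  obtain ⟨b, hb⟩ := exists_pow_relIndex (A := centralizer (E1 : Set G)) (W_isPGroup (V := V) (F := F))
  rw [ha] at h1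
  rw [hb] at h2
  obtain ⟨i, hi⟩ := dvd_of_two_pow h1
  obtain ⟨j, hj⟩ := dvd_of_two_pow h2
  refine ⟨2 ^ m, i, j, hm, ?_, ?_⟩
  · rw [ha, hi, pow_mul]
  · rw [hb, hj, pow_mul]

/-- **THEOREM OFF**, with the socket `hq` of THEOREM FIELD -/
theorem off [Finite G] (hq : ∀ E0 : Subgroup G, F ≤ E0 → E0 ≤ EE V F → TauInv V F E0 → NormInv V F E0 →
    ∃ k, F.relIndex E0 = (EE V F).relIndex V ^ k) {E0 : Subgroup G} (hF : F ≤ E0)
    (hE : E0 ≤ EE V F) : F.relIndex E0 ≤ (centralizer (E0 : Set G)).relIndex (WW V F) := by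
  refine h.off_core ?_ hF hE
  intro E1 hlt' hE1 hτ hνE
  have hν := NormInvE.normInv hνE
  have hF1 := hlt'.le
  obtain ⟨a, ha, haE⟩ := h.exists_not_mem
  -- `E₂ = C_E(W_a(E₁))`
  set E2 : Subgroup G := EE V F ⊓ centralizer (WA V F a E1 : Set G) with hE2
  have hF2 : F ≤ E2 := h.F_le_cent_WA
  have hτ2 : TauInv V F E2 := by
    have key : ∀ b ∈ V, b ∉ EE V F → WA V F b E2 = WW V F ⊓ centralizer (E1 : Set G) := by
      intro b hb hbE
      have hc : ∀ s ∈ WW V F, s ∈ centralizer (E1 : Set G) ↔ c b s ∈ centralizer (WA V F a E1 : Set G) := by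
        intro s hs
        rw [h.cent_iff hb hbE hF1 hE1 hs, ← hτ a ha haE b hb hbE]
      ext s
      rw [h.mem_WA hb hF2, mem_inf]
      exact and_congr_right fun hs => ⟨fun h1 => (hc s hs).2 h1.2,
        fun h1 => mem_inf.2 ⟨h.c_memE hb hs, (hc s hs).1 h1⟩⟩
    intro b hb hbE b' hb' hbE'
    rw [key b hb hbE, key b' hb' hbE']
  have hν2 : NormInv V F E2 := by
    intro g hgV hg
    have hgE : g * a * g⁻¹ ∉ EE V F := by
      intro h1
      have h2 : g * a * g⁻¹ ∈ MulAut.conj g • EE V F := by rw [norm_EE hgV hg]; exact h1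
      rw [mem_conj] at h2
      have e : g⁻¹ * (g * a * g⁻¹) * g = a := by group
      rw [e] at h2
      exact haE h2
    rw [hE2, Subgroup.smul_inf, norm_EE hgV hg, conj_centralizer, norm_WA hgV hg, hν g hgV hg,
      ← hτ a ha haE _ (norm_mem hgV ha) hgE]
  have hτE : TauInv V F (EE V F) := by
    have key : ∀ b ∈ V, WA V F b (EE V F) = WW V F := by
      intro b hb
      ext s
      rw [h.mem_WA hb h.F_le_E]
      exact ⟨fun h1 => h1.1, fun hs => ⟨hs, h.c_memE hb hs⟩⟩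
    intro b hb _ b' hb' _
    rw [key b hb, key b' hb']
  obtain ⟨i, hi⟩ := hq E1 hF1 hE1 hτ hν
  obtain ⟨j, hj⟩ := hq E2 hF2 inf_le_left hτ2 hν2
  obtain ⟨k, hk⟩ := hq (EE V F) h.F_le_E le_rfl hτE fun g hgV hg => norm_EE hgV hg
  have e2 := relIndex_mul_relIndex F E2 (EE V F) hF2 inf_le_left
  rw [hE2, inf_relIndex_left (EE V F), h.relIndex_cent_WA ha haE hF1 hE1, ← hE2, hj, hk] at e2
  have hq2 := h.one_lt_relIndex
  have hjk : j ≤ k := by
    have h1 : (EE V F).relIndex V ^ j ∣ (EE V F).relIndex V ^ k := ⟨_, e2.symm⟩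
    exact (Nat.pow_dvd_pow_iff_le_right hq2).1 h1
  refine ⟨_, i, k - j, le_rfl, hi, ?_⟩
  refine Nat.eq_of_mul_eq_mul_left (pow_pos (lt_trans Nat.zero_lt_one hq2) j) ?_
  rw [e2, ← pow_add]
  congr 1
  omega

/-- the socket of `off` for `|V : E| = 2` -/
theorem socket_two [Finite G] (hq : (EE V F).relIndex V = 2) (E0 : Subgroup G) (hE : E0 ≤ EE V F) :
    ∃ k, F.relIndex E0 = (EE V F).relIndex V ^ k := by
  rw [hq]
  exact exists_pow_relIndex (h.V_isPGroup.to_le (hE.trans E_le_V))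

/-! ### COROLLARY A -/

/-- **COROLLARY A** `|Y : C_Y(W)| ≤ |W : C_W(Y)|` for `Y ≤ E`. -/
theorem off_of_le [Finite G] (hoff : ∀ E0 : Subgroup G, F ≤ E0 → E0 ≤ EE V F →
    F.relIndex E0 ≤ (centralizer (E0 : Set G)).relIndex (WW V F)) {Y : Subgroup G} (hY : Y ≤ EE V F) :
    (centralizer (WW V F : Set G)).relIndex Y ≤ (centralizer (Y : Set G)).relIndex (WW V F) := by
  have h1 := hoff (F ⊔ Y) le_sup_left (sup_le h.F_le_E hY)
  have hFY : F ≤ normalizer (Y : Set G) :=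
    (comm_mono h.comm h.F_le_V (hY.trans E_le_V)).trans (centralizer_le_normalizer _)
  have hYF : Y ≤ normalizer (F : Set G) :=
    (comm_mono h.comm (hY.trans E_le_V) h.F_le_V).trans (centralizer_le_normalizer _)
  -- `|F Y : F| = |Y : Y ∩ F|`
  have e1 : F.relIndex (F ⊔ Y) = F.relIndex Y := by
    have k1 := card_sup_mul_inf hYF
    have k2 := card_mul_relIndex' (le_sup_left : F ≤ F ⊔ Y)
    have k3 := card_mul_relIndex' (inf_le_left : Y ⊓ F ≤ Y)
    rw [inf_relIndex_left] at k3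
    rw [sup_comm, ← k2, ← k3] at k1
    have hp : 0 < Nat.card F * Nat.card ↥(Y ⊓ F) := Nat.mul_pos Nat.card_pos Nat.card_pos
    apply Nat.eq_of_mul_eq_mul_left hp
    calc Nat.card F * Nat.card ↥(Y ⊓ F) * F.relIndex (F ⊔ Y) =
        Nat.card F * F.relIndex (F ⊔ Y) * Nat.card ↥(Y ⊓ F) := by ring
      _ = _ := by rw [k1]; ring
  have e2 : (centralizer (WW V F : Set G)).relIndex Y = F.relIndex Y := by
    have k1 : Y ⊓ centralizer (WW V F : Set G) = Y ⊓ F := by
      apply le_antisymm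
      · refine le_inf inf_le_left ?_
        refine (inf_le_inf_right _ hY).trans ?_
        rw [h.cent_EW]
      · exact inf_le_inf_left _ (comm_symm W_le_X)
    rw [← inf_relIndex_left Y, k1, inf_relIndex_left]
  have e3 : WW V F ⊓ centralizer ((F ⊔ Y : Subgroup G) : Set G) = WW V F ⊓ centralizer (Y : Set G) := by
    apply le_antisymm
    · exact inf_le_inf_left _ (centralizer_le (le_sup_right : Y ≤ F ⊔ Y))
    · refine le_inf inf_le_left (comm_symm (sup_le ?_ ?_))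
      · exact comm_symm (inf_le_left.trans W_le_X)
      · exact comm_symm inf_le_right
  rw [e1, ← inf_relIndex_left (WW V F), e3, inf_relIndex_left] at h1
  rwa [e2]

/-- `W / C_W(Y)` is elementary abelian for `Y ≤ V`. -/
theorem elem_W [Finite G] {Y : Subgroup G} (hY : Y ≤ V) :
    (∀ s ∈ WW V F, ∀ t ∈ WW V F, c s t ∈ centralizer (Y : Set G)) ∧
      ∀ s ∈ WW V F, s * s ∈ centralizer (Y : Set G) := by
  have h1 : F ≤ centralizer (Y : Set G) := comm_mono h.comm h.F_le_V hY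
  exact ⟨fun s hs t ht => h1 (h.comm_WW hs ht), fun s hs => h1 (h.sq_W hs)⟩

end Hyp

end Cfsg.Agent.Omega.NOne.Flat
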