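import Cfsg.Agent.Omega.NOne.Flat.Six

/-!
# THEOREM FLAT (text B4 #15506), part 3: (8)

`x ∈ X = C_G(F)` bad, `N = W ∩ C(E)`:
* `Hyp.conjE_inf_NN`: `E^x ∩ N = F`; `Hyp.E_inf_conjNN`: `E ∩ N^x = F`;
* `Hyp.exists_decomp`, `Hyp.indep`: `W / F = E / F + E^x / F + (N ∩ N^x) / F`;
* `Hyp.reg`: every `w ∈ V - E` is regular on `E E^x / F`;
* `Hyp.inf_o2_sup`: `V ∩ O₂(⟨V, V^x⟩) = E`;
* `Hyp.of_not_bad`: for `x ∈ X` not bad `E^x ∩ N > F` or `E ∩ N^x > F`.
-/

set_option autoImplicit false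

namespace Cfsg.Agent.Omega.NOne.Flat

open Subgroup Cfsg Cfsg.Agent.Omega.NoFF.Basic Cfsg.Agent.Omega.NOne.Frame
open Cfsg.Agent.Omega.NOne.NearFF (Near c c_def)
open Cfsg.Agent.ZN (o2)
open Cfsg.Agent.MinSimple.VModule
open scoped Pointwise

universe u

variable {G : Type u} [Group G]

theorem isPGroup_sup_of_le [Finite G] {A B C : Subgroup G} (hA : IsPGroup 2 A) (hC : IsPGroup 2 C)
    (hB : B ≤ C) (hn : A ≤ normalizer (C : Set G)) : IsPGroup 2 (A ⊔ B : Subgroup G) :=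
  (IsPGroup.to_sup_of_normal_right' hA hC hn).to_le (sup_le_sup_left hB _)

theorem normalizer_le_normalizer_centralizer (D : Subgroup G) :
    normalizer (D : Set G) ≤ normalizer (centralizer (D : Set G) : Set G) := by
  have key : ∀ a ∈ normalizer (D : Set G), ∀ z ∈ centralizer (D : Set G),
      a * z * a⁻¹ ∈ centralizer (D : Set G) := by
    intro a ha z hz
    rw [mem_centralizer_iff]
    intro d hd
    have h1 : a⁻¹ * d * a ∈ D := norm_mem' ha hd
    have h2 := mem_centralizer_iff.1 hz _ h1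
    calc d * (a * z * a⁻¹) = a * ((a⁻¹ * d * a) * z) * a⁻¹ := by group
      _ = a * (z * (a⁻¹ * d * a)) * a⁻¹ := by rw [h2]
      _ = a * z * a⁻¹ * d := by group
  intro a ha
  rw [mem_normalizer_iff]
  intro z
  refine ⟨key a ha z, fun h => ?_⟩
  have := key a⁻¹ (inv_mem ha) _ h
  have e : a⁻¹ * (a * z * a⁻¹) * a⁻¹⁻¹ = z := by group
  rwa [e] at this

theorem normalizer_le_normalizer_o2 (H : Subgroup G) :
    normalizer (H : Set G) ≤ normalizer (o2 H : Set G) := by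
  have hself : ∀ a ∈ normalizer (H : Set G), MulAut.conj a • H = H := by
    intro a ha
    ext z
    rw [mem_conj]
    constructor
    · intro hz
      have := norm_mem ha hz
      have e : a * (a⁻¹ * z * a) * a⁻¹ = z := by group
      rwa [e] at this
    · exact fun hz => norm_mem' ha hz
  intro a ha
  rw [mem_normalizer_iff]
  intro z
  constructor
  · intro hz
    have := Frame.conj_mem (g := a) hz
    rwa [o2_conj, hself a ha] at this
  · intro hz
    have := Frame.conj_mem (g := a⁻¹) hz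
    rw [o2_conj, hself _ (inv_mem ha)] at this
    have e : a⁻¹ * (a * z * a⁻¹) * a⁻¹⁻¹ = z := by group
    rwa [e] at this

theorem badX_inv {V : Subgroup G} {x : G} (hb : BadX V x) : BadX V x⁻¹ := by
  intro h1
  apply hb
  have h2 := Choice.isPGroup_conj h1 x
  rw [Subgroup.smul_sup, conj_conj, mul_inv_cancel, map_one, one_smul, sup_comm] at h2
  exact h2

namespace Hyp

variable {V F : Subgroup G} (h : Hyp V F)
include h

/-- `V` and `V^x` are contained in a 2-group if some `s ∈ E^x ∩ N` is not in `F`. -/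
theorem not_bad_of_mem [Finite G] {x : G} (hx : x ∈ centralizer (F : Set G)) {s : G}
    (hs : s ∈ MulAut.conj x • EE V F) (hsN : s ∈ NN V F) (hsF : s ∉ F) : ¬ BadX V x := by
  intro hb
  set D : Subgroup G := F ⊔ zpowers s with hD
  have hsD : s ∈ D := mem_sup_right (mem_zpowers s)
  have hFD : F < D := lt_of_le_of_ne le_sup_left fun h1 => hsF (h1 ▸ hsD)
  have hDV : D ≤ MulAut.conj x • V :=
    sup_le (h.F_le_conj hx) (zpowers_le.2 (conjE_le_conjV x hs))
  have hDN : D ≤ NN V F := sup_le h.F_le_NN (zpowers_le.2 hsN)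
  have hVD : V ≤ normalizer (D : Set G) := by
    refine le_normalizer_of_comm fun v hv d hd => ?_
    exact hFD.le (h.c_mem_F hv (hDN hd))
  have h1 := h.le_o2_of_lt' hx hFD hDV
  refine hb (isPGroup_sup_of_le h.V_isPGroup (ZN.isPGroup_o2 _) h1 ?_)
  exact hVD.trans ((normalizer_le_normalizer_centralizer D).trans (normalizer_le_normalizer_o2 _))

omit h in
theorem F_le_conjE (h : Hyp V F) {x : G} (hx : x ∈ centralizer (F : Set G)) : F ≤ MulAut.conj x • EE V F := by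
  have := conj_le_iff (g := x) |>.2 h.F_le_E
  rwa [conj_eq_of_cent hx] at this

/-- **(8)** `E^x ∩ N = F` for bad `x`. -/
theorem conjE_inf_NN [Finite G] {x : G} (hx : x ∈ centralizer (F : Set G)) (hb : BadX V x) :
    MulAut.conj x • EE V F ⊓ NN V F = F := by
  apply le_antisymm
  · intro s hs
    by_contra hsF
    exact h.not_bad_of_mem hx (mem_inf.1 hs).1 (mem_inf.1 hs).2 hsF hb
  · exact le_inf (h.F_le_conjE hx) h.F_le_NN

/-- **(8)** `E ∩ N^x = F` for bad `x`. -/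
theorem E_inf_conjNN [Finite G] {x : G} (hx : x ∈ centralizer (F : Set G)) (hb : BadX V x) :
    EE V F ⊓ MulAut.conj x • NN V F = F := by
  have h1 := h.conjE_inf_NN (inv_mem hx) (badX_inv hb)
  have h2 := congrArg (fun A : Subgroup G => MulAut.conj x • A) h1
  simp only [Subgroup.smul_inf (MulAut.conj x) (MulAut.conj x⁻¹ • EE V F) (NN V F), conj_conj,
    mul_inv_cancel, map_one, one_smul, conj_eq_of_cent hx] at h2
  exact h2

omit h in
theorem conj_NN {x : G} (hx : x ∈ centralizer (F : Set G)) :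
    MulAut.conj x • NN V F = WW V F ⊓ centralizer ((MulAut.conj x • EE V F : Subgroup G) : Set G) := by
  rw [NN, Subgroup.smul_inf, conj_W hx, conj_centralizer]

theorem conjE_le_conjNN {x : G} (_hx : x ∈ centralizer (F : Set G)) :
    MulAut.conj x • EE V F ≤ MulAut.conj x • NN V F := conj_le_iff.2 h.E_le_NN

/-- `N^x = {s ∈ W | [V^x, s] ≤ F}` -/
theorem mem_conjNN [Finite G] {x : G} (hx : x ∈ centralizer (F : Set G)) {s : G} :
    s ∈ MulAut.conj x • NN V F ↔ s ∈ WW V F ∧ ∀ v ∈ MulAut.conj x • V, c v s ∈ F := by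
  rw [mem_conj, h.mem_NN]
  have hW : x⁻¹ * s * x ∈ WW V F ↔ s ∈ WW V F := by
    constructor
    · intro h1
      have := conj_mem_W hx h1
      have e : x * (x⁻¹ * s * x) * x⁻¹ = s := by group
      rwa [e] at this
    · intro h1
      have := conj_mem_W (inv_mem hx) h1
      rwa [inv_inv] at this
  rw [hW]
  refine and_congr_right fun _ => ⟨fun h1 v hv => ?_, fun h1 v hv => ?_⟩
  · rw [mem_conj] at hv
    have h2 := norm_mem (X_norm_F hx) (h1 _ hv)
    have e : x * c (x⁻¹ * v * x) (x⁻¹ * s * x) * x⁻¹ = c v s := by rw [c, c]; group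
    rwa [e] at h2
  · have h2 := h1 _ (Frame.conj_mem (g := x) hv)
    have h3 := norm_mem' (X_norm_F hx) h2
    have e : x⁻¹ * c (x * v * x⁻¹) s * x = c v (x⁻¹ * s * x) := by rw [c, c]; group
    rwa [e] at h3

/-- **(8)** `W = E^x N` for bad `x` -/
theorem exists_conjE_mul [Finite G] {x : G} (hx : x ∈ centralizer (F : Set G)) (hb : BadX V x) {s : G}
    (hs : s ∈ WW V F) : ∃ f ∈ MulAut.conj x • EE V F, f⁻¹ * s ∈ NN V F := by
  have hc : Cos id (MulAut.conj x • EE V F) F (WW V F) (NN V F) :=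
    { mem := fun a ha => conjE_le_W hx ha
      iff := fun a ha b hb' => by
        refine ⟨fun h1 => ?_, fun h1 => h.F_le_NN h1⟩
        rw [← h.conjE_inf_NN hx hb]
        exact mem_inf.2 ⟨mul_mem (inv_mem ha) hb', h1⟩ }
  refine hc.surj ?_ hs
  rw [h.relIndex_NN]
  have e1 := card_mul_relIndex' h.F_le_E
  have e2 := card_mul_relIndex' (h.F_le_conjE hx)
  rw [Choice.card_conj, ← e1] at e2
  exact (Nat.eq_of_mul_eq_mul_left Nat.card_pos e2).ge

/-- **(8)** `W = E N^x` for bad `x` -/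
theorem exists_E_mul [Finite G] {x : G} (hx : x ∈ centralizer (F : Set G)) (hb : BadX V x) {s : G}
    (hs : s ∈ WW V F) : ∃ e ∈ EE V F, e⁻¹ * s ∈ MulAut.conj x • NN V F := by
  have hs' : x⁻¹ * s * x ∈ WW V F := by
    have := conj_mem_W (inv_mem hx) hs
    rwa [inv_inv] at this
  obtain ⟨f, hf, hfn⟩ := h.exists_conjE_mul (inv_mem hx) (badX_inv hb) hs'
  rw [mem_conj, inv_inv] at hf
  refine ⟨x * f * x⁻¹, hf, ?_⟩
  rw [mem_conj]
  have e : x⁻¹ * ((x * f * x⁻¹)⁻¹ * s) * x = f⁻¹ * (x⁻¹ * s * x) := by group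
  rwa [e]

/-- **(8)** `W = E^x E (N ∩ N^x)` for bad `x` -/
theorem exists_decomp [Finite G] {x : G} (hx : x ∈ centralizer (F : Set G)) (hb : BadX V x) {s : G}
    (hs : s ∈ WW V F) : ∃ f ∈ MulAut.conj x • EE V F, ∃ e ∈ EE V F, ∃ n ∈ NN V F ⊓ MulAut.conj x • NN V F,
      s = f * e * n := by
  obtain ⟨f, hf, hn⟩ := h.exists_conjE_mul hx hb hs
  obtain ⟨e, he, hn'⟩ := h.exists_E_mul hx hb hn.1
  refine ⟨f, hf, e, he, e⁻¹ * (f⁻¹ * s), mem_inf.2 ⟨?_, hn'⟩, by group⟩
  exact mul_mem (inv_mem (h.E_le_NN he)) hn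

/-- **(8)** the sum is direct modulo `F` -/
theorem indep [Finite G] {x : G} (hx : x ∈ centralizer (F : Set G)) (hb : BadX V x) {f e n : G}
    (hf : f ∈ MulAut.conj x • EE V F) (he : e ∈ EE V F) (hn : n ∈ NN V F ⊓ MulAut.conj x • NN V F)
    (hF : f * e * n ∈ F) : f ∈ F ∧ e ∈ F ∧ n ∈ F := by
  obtain ⟨hn1, hn2⟩ := mem_inf.1 hn
  have h1 : f ∈ F := by
    rw [← h.conjE_inf_NN hx hb]
    refine mem_inf.2 ⟨hf, ?_⟩
    have e1 : f = (f * e * n) * (e * n)⁻¹ := by group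
    rw [e1]
    exact mul_mem (h.F_le_NN hF) (inv_mem (mul_mem (h.E_le_NN he) hn1))
  have h2 : e * n ∈ F := by
    have := mul_mem (inv_mem h1) hF
    have e1 : f⁻¹ * (f * e * n) = e * n := by group
    rwa [e1] at this
  have h3 : e ∈ F := by
    rw [← h.E_inf_conjNN hx hb]
    refine mem_inf.2 ⟨he, ?_⟩
    have e1 : e = (e * n) * n⁻¹ := by group
    rw [e1]
    exact mul_mem (h.conjE_le_conjNN hx (h.F_le_conjE hx h2)) (inv_mem hn2)
  exact ⟨h1, h3, (mul_mem_cancel_left h3).1 h2⟩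

/-- **(8)** every `w ∈ V - E` is regular on `E E^x / F`: `C(w) = E / F`. -/
theorem reg [Finite G] {x w e f : G} (hx : x ∈ centralizer (F : Set G)) (hb : BadX V x) (hw : w ∈ V)
    (hwE : w ∉ EE V F) (he : e ∈ EE V F) (hf : f ∈ MulAut.conj x • EE V F) (hc : c w (e * f) ∈ F) :
    f ∈ F := by
  have h1 := (h.c_mem_F_iff hw hwE (mul_mem (E_le_W he) (conjE_le_W hx hf))).1 hc
  rw [← h.conjE_inf_NN hx hb]
  exact mem_inf.2 ⟨hf, (mul_mem_cancel_left (h.E_le_NN he)).1 h1⟩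

/-- `[V^x, W] ≤ E^x` -/
theorem comm_conjVW {x v s : G} (hx : x ∈ centralizer (F : Set G)) (hv : v ∈ MulAut.conj x • V)
    (hs : s ∈ WW V F) : c v s ∈ MulAut.conj x • EE V F := by
  rw [mem_conj] at hv ⊢
  have hs' : x⁻¹ * s * x ∈ WW V F := by
    have := conj_mem_W (inv_mem hx) hs
    rwa [inv_inv] at this
  have h1 := h.comm_VW hv hs'
  have e : x⁻¹ * c v s * x = c (x⁻¹ * v * x) (x⁻¹ * s * x) := by rw [c, c]; group
  rwa [e]

theorem conjV_le_X {x : G} (hx : x ∈ centralizer (F : Set G)) :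
    MulAut.conj x • V ≤ centralizer (F : Set G) := Choice.conj_le_of_mem h.V_le_X hx

omit h in
theorem EEx_le_W {x : G} (hx : x ∈ centralizer (F : Set G)) :
    EE V F ⊔ MulAut.conj x • EE V F ≤ WW V F := sup_le E_le_W (conjE_le_W hx)

/-- `⟨V, V^x⟩` normalises `E E^x`. -/
theorem sup_norm_EEx {x : G} (hx : x ∈ centralizer (F : Set G)) :
    V ⊔ MulAut.conj x • V ≤ normalizer ((EE V F ⊔ MulAut.conj x • EE V F : Subgroup G) : Set G) := by
  refine sup_le ?_ ?_
  · refine le_normalizer_of_comm fun v hv s hs => mem_sup_left ?_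
    exact h.comm_VW hv (EEx_le_W hx hs)
  · refine le_normalizer_of_comm fun v hv s hs => mem_sup_right ?_
    exact h.comm_conjVW hx hv (EEx_le_W hx hs)

omit h in
theorem W_isPGroup [Finite G] : IsPGroup 2 (WW V F) := (ZN.isPGroup_o2 _).to_le W_le_R

/-- `E E^x` as a product -/
theorem mem_EEx [Finite G] {x s : G} (hx : x ∈ centralizer (F : Set G))
    (hs : s ∈ EE V F ⊔ MulAut.conj x • EE V F) :
    ∃ e ∈ EE V F, ∃ f ∈ MulAut.conj x • EE V F, s = e * f := by
  have hn : MulAut.conj x • EE V F ≤ normalizer (EE V F : Set G) := by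
    refine le_normalizer_of_comm fun f hf e he => ?_
    have h1 := inv_mem (h.F_le_E (h.comm_EE hx he hf))
    have e1 : (c e f)⁻¹ = f * e * f⁻¹ * e⁻¹ := by rw [c]; group
    rwa [e1] at h1
  have h3 : s ∈ ((EE V F ⊔ MulAut.conj x • EE V F : Subgroup G) : Set G) := hs
  rw [Subgroup.coe_mul_of_right_le_normalizer_left _ _ hn] at h3
  obtain ⟨e, he, f, hf, rfl⟩ := h3
  exact ⟨e, he, f, hf, rfl⟩

/-- a fixed point of a 2-subgroup `P ≤ ⟨V, V^x⟩` on `E E^x / F` -/
theorem exists_fix [Finite G] {x : G} (hx : x ∈ centralizer (F : Set G)) {P : Subgroup G}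
    (hP : IsPGroup 2 P) (hPL : P ≤ V ⊔ MulAut.conj x • V) :
    ∃ e ∈ EE V F, ∃ f ∈ MulAut.conj x • EE V F, e * f ∉ F ∧ ∀ y ∈ P, c y (e * f) ∈ F := by
  have : Fact (Nat.Prime 2) := ⟨Nat.prime_two⟩
  set M : Subgroup G := EE V F ⊔ MulAut.conj x • EE V F with hM
  have hMn : P ≤ normalizer (M : Set G) := hPL.trans (h.sup_norm_EEx hx)
  have hMX : M ≤ centralizer (F : Set G) := (EEx_le_W hx).trans W_le_X
  have hLX : V ⊔ MulAut.conj x • V ≤ centralizer (F : Set G) := sup_le h.V_le_X (h.conjV_le_X hx)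
  have hM2 : IsPGroup 2 M := W_isPGroup.to_le (EEx_le_W hx)
  have hY : IsPGroup 2 (P ⊔ M : Subgroup G) := IsPGroup.to_sup_of_normal_right' hP hM2 hMn
  have hYn : P ⊔ M ≤ normalizer (M : Set G) := sup_le hMn le_normalizer
  have hYX : P ⊔ M ≤ centralizer (F : Set G) := sup_le (hPL.trans hLX) hMX
  obtain ⟨e0, he0, he0F⟩ := SetLike.not_le_iff_exists.1 (not_le_of_gt h.F_lt_E)
  obtain ⟨n, hn, hnF, hfix⟩ := GTwoFour.Tools.exists_fixed_mod (M := F) hY le_sup_right
    (fun y hy n hn => norm_mem (hYn hy) hn)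
    (fun y hy m hm => norm_mem (X_norm_F (hYX hy)) hm) ⟨e0, mem_sup_left he0, he0F⟩
  obtain ⟨e, he, f, hf, rfl⟩ := h.mem_EEx hx hn
  exact ⟨e, he, f, hf, hnF, fun y hy => hfix y (mem_sup_left hy)⟩

/-- **(8)** `V ∩ O₂(⟨V, V^x⟩) = E` for bad `x`. -/
theorem inf_o2_sup [Finite G] {x : G} (hx : x ∈ centralizer (F : Set G)) (hb : BadX V x) :
    V ⊓ o2 (V ⊔ MulAut.conj x • V) = EE V F := by
  have hLX : V ⊔ MulAut.conj x • V ≤ centralizer (F : Set G) := sup_le h.V_le_X (h.conjV_le_X hx)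
  apply le_antisymm
  · intro v hv
    obtain ⟨hv1, hv2⟩ := mem_inf.1 hv
    by_contra hvE
    have hx2 : IsPGroup 2 (MulAut.conj x • V : Subgroup G) := Choice.isPGroup_conj h.V_isPGroup x
    have hP : IsPGroup 2 (o2 (V ⊔ MulAut.conj x • V) ⊔ MulAut.conj x • V : Subgroup G) :=
      IsPGroup.to_sup_of_normal_left' (ZN.isPGroup_o2 _) hx2
        (le_sup_right.trans (le_normalizer_o2 _))
    obtain ⟨e, he, f, hf, hF, hfix⟩ := h.exists_fix hx hP (sup_le (ZN.o2_le _) le_sup_right)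
    have h1 : f ∈ F := h.reg hx hb hv1 hvE he hf (hfix v (mem_sup_left hv2))
    have h2 : e * f ∈ MulAut.conj x • NN V F := by
      rw [h.mem_conjNN hx]
      exact ⟨mul_mem (E_le_W he) (conjE_le_W hx hf), fun v' hv' => hfix v' (mem_sup_right hv')⟩
    have h3 : e ∈ F := by
      rw [← h.E_inf_conjNN hx hb]
      refine mem_inf.2 ⟨he, ?_⟩
      exact (mul_mem_cancel_right (h.conjE_le_conjNN hx hf)).1 h2
    exact hF (mul_mem h3 h1)
  · refine le_inf inf_le_left ?_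
    have h1 : o2 (centralizer (F : Set G)) ⊓ (V ⊔ MulAut.conj x • V) ≤ o2 (V ⊔ MulAut.conj x • V) := by
      refine le_o2 inf_le_right ((ZN.isPGroup_o2 _).to_le inf_le_left) ?_
      intro l hl
      have h2 : l ∈ normalizer (o2 (centralizer (F : Set G)) : Set G) := le_normalizer_o2 _ (hLX hl)
      rw [mem_normalizer_iff] at h2 ⊢
      intro z
      rw [mem_inf, mem_inf, h2 z]
      refine and_congr_right fun _ => ⟨fun hz => mul_mem (mul_mem hl hz) (inv_mem hl), fun hz => ?_⟩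
      have := mul_mem (mul_mem (inv_mem hl) hz) hl
      have e : l⁻¹ * (l * z * l⁻¹) * l = z := by group
      rwa [e] at this
    exact (le_inf inf_le_right (inf_le_left.trans le_sup_left)).trans h1

/-- **(8)** for `x ∈ X` not bad, `E^x ∩ N > F` or `E ∩ N^x > F`. -/
theorem of_not_bad [Finite G] {x : G} (hx : x ∈ centralizer (F : Set G)) (hb : ¬ BadX V x) :
    (∃ f ∈ MulAut.conj x • EE V F, f ∈ NN V F ∧ f ∉ F) ∨
      ∃ e ∈ EE V F, e ∈ MulAut.conj x • NN V F ∧ e ∉ F := by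
  have h2 : IsPGroup 2 (V ⊔ MulAut.conj x • V : Subgroup G) := not_not.1 hb
  obtain ⟨e, he, f, hf, hF, hfix⟩ := h.exists_fix hx h2 le_rfl
  have hW : e * f ∈ WW V F := mul_mem (E_le_W he) (conjE_le_W hx hf)
  have h1 : e * f ∈ NN V F := h.mem_NN.2 ⟨hW, fun v hv => hfix v (mem_sup_left hv)⟩
  have h3 : e * f ∈ MulAut.conj x • NN V F :=
    (h.mem_conjNN hx).2 ⟨hW, fun v hv => hfix v (mem_sup_right hv)⟩
  have h4 : f ∈ NN V F := (mul_mem_cancel_left (h.E_le_NN he)).1 h1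
  have h5 : e ∈ MulAut.conj x • NN V F := (mul_mem_cancel_right (h.conjE_le_conjNN hx hf)).1 h3
  by_cases hfF : f ∈ F
  · exact Or.inr ⟨e, he, h5, fun heF => hF (mul_mem heF hfF)⟩
  · exact Or.inl ⟨f, hf, h4, hfF⟩

end Hyp

end Cfsg.Agent.Omega.NOne.Flat
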