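import Cfsg.Agent.Omega.NOne.Flat.QU

/-!
# THEOREM QC (bb OMEGA #17199, helper70), over (QU)

The setting of THEOREM FLAT (`Hyp V F`), `1 ≠ D ≤ F`, `Q = O₂(C_G(D))`.

* `Hyp.QD_norm_F`, `Hyp.QD_norm_E`, `Hyp.QD_norm_W`, `Hyp.QD_norm_NN`: `Q` normalises `F`, `E_F`, `W_F`, `N_F`;
* `Hyp.qc`: if `W_F ≤ H` and `1 ≠ u ∈ C_V(H)`, then some `U ≤ O₂(H)` has `QU V F ⟨u⟩ U`;
* `Hyp.qc_quot`: a 2-subgroup `≤ H` normal in `H` modulo `C_H(A)`; the form for `H / C_H(A)`;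
* `Hyp.inf_eq_bot`: `F ∩ F' = 1` if `O₂(⟨W_F, W_F'⟩) ∩ W_F ≤ N_F`.
-/

set_option autoImplicit false

namespace Cfsg.Agent.Omega.NOne.Flat

open Subgroup Cfsg Cfsg.Agent.Omega.NoFF.Basic Cfsg.Agent.Omega.NOne.Frame
open Cfsg.Agent.Omega.NOne.NearFF (Near c c_def)
open Cfsg.Agent.ZN (o2)
open Cfsg.Agent.MinSimple.VModule
open scoped Pointwise

universe u

variable {G : Type u} [Group G]

theorem normalizer_inf_le (A B : Subgroup G) :
    normalizer (A : Set G) ⊓ normalizer (B : Set G) ≤ normalizer ((A ⊓ B : Subgroup G) : Set G) := by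
  intro x hx
  obtain ⟨h1, h2⟩ := mem_inf.1 hx
  rw [mem_normalizer_iff] at h1 h2 ⊢
  intro y
  rw [mem_inf, mem_inf, h1 y, h2 y]

theorem mem_normalizer_of_conj {g : G} {A : Subgroup G} (hg : MulAut.conj g • A = A) :
    g ∈ normalizer (A : Set G) := by
  rw [mem_normalizer_iff]
  intro y
  constructor
  · intro hy
    have := Frame.conj_mem (g := g) hy
    rwa [hg] at this
  · intro hy
    rw [← hg, mem_conj] at hy
    have e : g⁻¹ * (g * y * g⁻¹) * g = y := by group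
    rwa [e] at hy

theorem conj_eq_of_mem_normalizer {g : G} {A : Subgroup G} (hg : g ∈ normalizer (A : Set G)) :
    MulAut.conj g • A = A := by
  ext z
  rw [mem_conj]
  constructor
  · intro hz
    have := norm_mem hg hz
    have e : g * (g⁻¹ * z * g) * g⁻¹ = z := by group
    rwa [e] at this
  · exact fun hz => norm_mem' hg hz

theorem normalizer_le_normalizer_o2_centralizer (D : Subgroup G) :
    normalizer (D : Set G) ≤ normalizer (o2 (centralizer (D : Set G)) : Set G) :=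
  (normalizer_le_normalizer_centralizer D).trans (normalizer_le_normalizer_o2 _)

theorem mem_norm_EE {V F : Subgroup G} {g : G} (hV : g ∈ normalizer (V : Set G))
    (hF : g ∈ normalizer (F : Set G)) : g ∈ normalizer (EE V F : Set G) :=
  normalizer_inf_le _ _ (mem_inf.2 ⟨hV, normalizer_le_normalizer_o2_centralizer F hF⟩)

theorem mem_norm_WW {V F : Subgroup G} {g : G} (hV : g ∈ normalizer (V : Set G))
    (hF : g ∈ normalizer (F : Set G)) : g ∈ normalizer (WW V F : Set G) := by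
  have key : ∀ g ∈ normalizer (V : Set G), g ∈ normalizer (F : Set G) →
      MulAut.conj g • WW V F ≤ WW V F := by
    intro g hV hF
    refine conj_V_le fun p hp => ?_
    have hp' : g * p * g⁻¹ ∈ centralizer (F : Set G) :=
      norm_mem (normalizer_le_normalizer_centralizer F hF) hp
    have e : g * p = g * p * g⁻¹ * g := by group
    rw [e, ← conj_conj, conj_eq_of_mem_normalizer (mem_norm_EE hV hF)]
    exact Z_le_V hp'
  apply mem_normalizer_of_conj
  apply le_antisymm (key g hV hF)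
  have h1 := conj_le_iff (g := g) |>.2 (key g⁻¹ (inv_mem hV) (inv_mem hF))
  rwa [conj_conj, mul_inv_cancel, map_one, one_smul] at h1

theorem mem_norm_NN {V F : Subgroup G} {g : G} (hV : g ∈ normalizer (V : Set G))
    (hF : g ∈ normalizer (F : Set G)) : g ∈ normalizer (NN V F : Set G) :=
  normalizer_inf_le _ _ (mem_inf.2 ⟨mem_norm_WW hV hF,
    normalizer_le_normalizer_centralizer _ (mem_norm_EE hV hF)⟩)

namespace Hyp

variable {V F : Subgroup G} (h : Hyp V F)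
include h

section

variable {D : Subgroup G}

theorem QD_norm_conjV (hD : D ≠ ⊥) (hDF : D ≤ F) {x : G} (hx : x ∈ centralizer (F : Set G)) :
    o2 (centralizer (D : Set G)) ≤ normalizer ((MulAut.conj x • V : Subgroup G) : Set G) :=
  h.syl_conj x D hD (hDF.trans (h.F_le_conj hx))

/-- `O₂(C_G(D))` normalises `F`. -/
theorem QD_norm_F [Finite G] (hD : D ≠ ⊥) (hDF : D ≤ F) :
    o2 (centralizer (D : Set G)) ≤ normalizer (F : Set G) := by
  obtain ⟨w, hw, hwE⟩ := h.exists_not_mem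
  obtain ⟨x, hx, hb, -⟩ := h.exists_near hw hwE
  have h1 := h.inf_eq_of_bad hx hb
  intro g hg
  have h2 := normalizer_inf_le V (MulAut.conj x • V) (mem_inf.2 ⟨h.QD_norm_V hD hDF hg,
    h.QD_norm_conjV hD hDF hx hg⟩)
  rwa [h1] at h2

theorem QD_norm_E [Finite G] (hD : D ≠ ⊥) (hDF : D ≤ F) :
    o2 (centralizer (D : Set G)) ≤ normalizer (EE V F : Set G) := fun _ hg =>
  mem_norm_EE (h.QD_norm_V hD hDF hg) (h.QD_norm_F hD hDF hg)

theorem QD_norm_W [Finite G] (hD : D ≠ ⊥) (hDF : D ≤ F) :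
    o2 (centralizer (D : Set G)) ≤ normalizer (WW V F : Set G) := fun _ hg =>
  mem_norm_WW (h.QD_norm_V hD hDF hg) (h.QD_norm_F hD hDF hg)

theorem QD_norm_NN [Finite G] (hD : D ≠ ⊥) (hDF : D ≤ F) :
    o2 (centralizer (D : Set G)) ≤ normalizer (NN V F : Set G) := fun _ hg =>
  mem_norm_NN (h.QD_norm_V hD hDF hg) (h.QD_norm_F hD hDF hg)

end

/-- **(QC)**: `W_F ≤ H`, `1 ≠ u ∈ C_V(H)` ⟹ some `U ≤ O₂(H)` has `QU V F ⟨u⟩ U`. -/
theorem qc [Finite G] {H : Subgroup G} (hH : WW V F ≤ H) {u : G} (hu : u ∈ V) (hu1 : u ≠ 1)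
    (huH : u ∈ centralizer (H : Set G))
    (hc : centralizer ({u} : Set G) ⊓ centralizer (o2 (centralizer ({u} : Set G)) : Set G) ≤
      o2 (centralizer ({u} : Set G))) :
    u ∈ F ∧ ∃ U : Subgroup G, QU V F (zpowers u) U ∧ U ≤ o2 (centralizer ({u} : Set G)) ∧ U ≤ o2 H := by
  have huF : u ∈ F := by
    rw [← h.cent_VW]
    exact mem_inf.2 ⟨hu, centralizer_le hH huH⟩
  obtain ⟨U, hU, hUQ, -, -⟩ := h.exists_qu_elem huF hu1 hc
  refine ⟨huF, U, hU, hUQ, ?_⟩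
  have hHC : H ≤ centralizer ({u} : Set G) := by
    intro y hy
    rw [mem_centralizer_singleton_iff]
    exact mem_centralizer_iff.1 huH y hy
  exact (le_inf hUQ (hU.le_W.trans hH)).trans (o2_inf_le_o2 hHC)

/-- **(QC)**: `W_F ≤ H`, `O₂(H) ∩ W_F ≤ N_F` ⟹ `C_V(H) = 1`. -/
theorem qc_eq_bot [Finite G] {H : Subgroup G} (hH : WW V F ≤ H) (hO : o2 H ⊓ WW V F ≤ NN V F)
    (hc : ∀ u ∈ V, u ≠ 1 → centralizer ({u} : Set G) ⊓ centralizer (o2 (centralizer ({u} : Set G)) : Set G) ≤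
      o2 (centralizer ({u} : Set G))) : V ⊓ centralizer (H : Set G) = ⊥ := by
  rw [eq_bot_iff]
  intro u hu
  obtain ⟨hu1, hu2⟩ := mem_inf.1 hu
  rw [mem_bot]
  by_contra hne
  obtain ⟨-, U, hU, -, hUH⟩ := h.qc hH hu1 hne hu2 (hc u hu1 hne)
  have h1 : U ≤ NN V F := (le_inf hUH hU.le_W).trans hO
  have h2 := hU.relIndex
  rw [relIndex_eq_one.2 h1] at h2
  have := hU.two_le
  omega

/-- **(QC)** for `H / C_H(A)`: `V ⊇ A` a subgroup not contained in `E_F`; `W_F ≤ H`, and every 2-subgroup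
`U ≤ H` normal in `H` modulo `C_H(A)` has `U ∩ W_F ≤ C(A)`. Then `C_V(H) = 1`. -/
theorem qc_quot [Finite G] {A H : Subgroup G} (hA : A ≤ V) (hAE : ¬ A ≤ EE V F) (hH : WW V F ≤ H)
    (hO : ∀ R : Subgroup G, R ≤ H → IsPGroup 2 R → H ≤ normalizer (R : Set G) →
      R ⊓ WW V F ≤ centralizer (A : Set G))
    (hc : ∀ u ∈ V, u ≠ 1 → centralizer ({u} : Set G) ⊓ centralizer (o2 (centralizer ({u} : Set G)) : Set G) ≤
      o2 (centralizer ({u} : Set G))) : V ⊓ centralizer (H : Set G) = ⊥ := by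
  rw [eq_bot_iff]
  intro u hu
  obtain ⟨hu1, hu2⟩ := mem_inf.1 hu
  rw [mem_bot]
  by_contra hne
  obtain ⟨-, U, hU, -, hUH⟩ := h.qc hH hu1 hne hu2 (hc u hu1 hne)
  have h1 : U ≤ centralizer (A : Set G) := (le_inf hUH hU.le_W).trans
    (hO (o2 H) (ZN.o2_le _) (ZN.isPGroup_o2 _) (le_normalizer_o2 _))
  apply hAE
  refine le_trans ?_ hU.cent_V
  exact le_inf hA (comm_symm h1)

/-- **(QC)**, pairs: `F ∩ F' = 1` if `O₂(⟨W_F, W_F'⟩) ∩ W_F ≤ N_F`. -/
theorem inf_eq_bot [Finite G] {F' : Subgroup G}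
    (hO : o2 (WW V F ⊔ WW V F') ⊓ WW V F ≤ NN V F)
    (hc : ∀ u ∈ V, u ≠ 1 → centralizer ({u} : Set G) ⊓ centralizer (o2 (centralizer ({u} : Set G)) : Set G) ≤
      o2 (centralizer ({u} : Set G))) : F ⊓ F' = ⊥ := by
  rw [eq_bot_iff, ← h.qc_eq_bot (le_sup_left : WW V F ≤ WW V F ⊔ WW V F') hO hc]
  refine le_inf (inf_le_left.trans h.F_le_V) (comm_symm (sup_le ?_ ?_))
  · exact W_le_X.trans (centralizer_le inf_le_left)
  · exact W_le_X.trans (centralizer_le inf_le_right)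

end Hyp

end Cfsg.Agent.Omega.NOne.Flat
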