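import Cfsg.Agent.Omega.NOne.Flat.Kill
import Cfsg.Agent.Omega.Spread.OffAll

/-!
# THEOREM SZ, KILL with (MU) = `Hyp.off_all` inserted
-/

set_option autoImplicit false

namespace Cfsg.Agent.Omega.NOne.Flat

open Subgroup Cfsg
open Cfsg.Agent.Omega.FFThm (OffM)

universe u

variable {G : Type u} [Group G]

/-- **THEOREM SZ, KILL**: only `NN = 1` and no offender on `V` are left as inputs. -/
theorem SzR.false_of [Finite G] {V F K R D : Subgroup G} (z : SzR V F K R D) (h : Hyp V F) (hNN : NNOne V F)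
    (hoff : ∀ A : Subgroup G, A ≤ normalizer (V : Set G) → ¬ OffM V A) : False :=
  z.kill h hNN (h.off_all z.FK z.KE) hoff

end Cfsg.Agent.Omega.NOne.Flat
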