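import Cfsg.Agent.Omega.NOne.Flat.Nine
import Cfsg.Agent.Omega.NearFF.Pfaff

/-!
# The Pfaffian bound in the FLAT setting (#16135 (PF), helper820; referees #16489, #16524)

`Hyp V F`; `q = |V : E|`; `N = C_W(E)`; `|W : N| = |E : F|`.

For `φ : F → ZMod 2` additive let `Sp V F φ = {s ∈ W | φ([E, s]) = 0}` (it contains `N`).

* `Hyp.pfaff` : `φ([E, W]) ≠ 0` implies `q ^ 2 ≤ |W : S_φ|`;
* `Hyp.sq_le` : `q ^ 2 ≤ |E : F|`;
* `Hyp.sp_eq` : `|E : F| = q ^ 2` implies `S_φ = N` for all these `φ`;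
* `Hyp.exists_c_eq`, `Hyp.commutator_eq` : `|E : F| = q ^ 2` implies `[E, s] = [E, W]` for every `s ∈ W - N`;
* `Hyp.card_commutator_le` : `|E : F| = q ^ 2` implies `|[E, W]| ≤ q`.
-/

set_option autoImplicit false

namespace Cfsg.Agent.Omega.NOne.Flat

open Subgroup Cfsg Cfsg.Agent.Omega.NoFF.Basic Cfsg.Agent.Omega.NOne.Frame
open Cfsg.Agent.Omega.NOne.NearFF (Near c c_def)
open Cfsg.Agent.ZN (o2)
open Cfsg.Agent.MinSimple.VModule
open scoped Pointwise commutatorElement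

universe u

variable {G : Type u} [Group G]

/-- `φ` is additive on `F`. -/
structure Add2 (F : Subgroup G) (φ : G → ZMod 2) : Prop where
  mul : ∀ a ∈ F, ∀ b ∈ F, φ (a * b) = φ a + φ b

namespace Add2

variable {F : Subgroup G} {φ : G → ZMod 2} (hφ : Add2 F φ)
include hφ

theorem one : φ 1 = 0 := by
  have h1 := hφ.mul 1 (one_mem _) 1 (one_mem _)
  rw [one_mul] at h1
  have h2 : ∀ x : ZMod 2, x = x + x → x = 0 := by decide
  exact h2 _ h1

theorem inv {a : G} (ha : a ∈ F) : φ a⁻¹ = φ a := by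
  have h1 := hφ.mul a ha a⁻¹ (inv_mem ha)
  rw [mul_inv_cancel, hφ.one] at h1
  have h2 : ∀ x y : ZMod 2, 0 = x + y → y = x := by decide
  exact h2 _ _ h1

end Add2

/-- An elementary abelian 2-group is separated by its functionals. -/
theorem exists_add2 {F D : Subgroup G} [Finite F] (hc : ∀ a ∈ F, ∀ b ∈ F, a * b = b * a)
    (hsq : ∀ a ∈ F, a * a = 1) {t : G} (ht : t ∈ F) (h1 : t ∉ D) :
    ∃ φ : G → ZMod 2, Add2 F φ ∧ (∀ d ∈ F, d ∈ D → φ d = 0) ∧ φ t ≠ 0 := by
  classical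
  obtain ⟨ξ, hξ1, hξ2⟩ := exists_char (T := F) (D := D) hc ht h1
  have hval : ∀ a : F, ξ a = 1 ∨ ξ a = -1 := by
    intro a
    have h2 : a * a = 1 := Subtype.ext (hsq a a.2)
    have h3 : ξ a * ξ a = 1 := by rw [← map_mul, h2, map_one]
    have h4 : ((ξ a : ℂˣ) : ℂ) * (ξ a : ℂˣ) = 1 := by
      rw [← Units.val_mul, h3, Units.val_one]
    rcases mul_self_eq_one_iff.1 h4 with h5 | h5
    · left; exact Units.ext (by rw [h5, Units.val_one])
    · right; exact Units.ext (by rw [h5, Units.val_neg, Units.val_one])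
  have hne : (-1 : ℂˣ) ≠ 1 := by
    intro h2
    have h3 := congrArg (fun x : ℂˣ => (x : ℂ)) h2
    simp only [Units.val_neg, Units.val_one] at h3
    norm_num at h3
  let φ : G → ZMod 2 := fun x => if hx : x ∈ F then (if ξ ⟨x, hx⟩ = 1 then 0 else 1) else 0
  have hφ : ∀ x (hx : x ∈ F), φ x = if ξ ⟨x, hx⟩ = 1 then 0 else 1 := fun x hx => by
    simp only [φ, dif_pos hx]
  refine ⟨φ, ⟨fun a ha b hb => ?_⟩, fun d hd hdD => ?_, ?_⟩
  · rw [hφ a ha, hφ b hb, hφ _ (mul_mem ha hb)]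
    have e : (⟨a * b, mul_mem ha hb⟩ : F) = ⟨a, ha⟩ * ⟨b, hb⟩ := rfl
    rw [e, map_mul]
    rcases hval ⟨a, ha⟩ with h2 | h2 <;> rcases hval ⟨b, hb⟩ with h3 | h3 <;> rw [h2, h3]
    · simp
    · simp [hne]
    · simp [hne]
    · simp only [mul_neg, mul_one, neg_neg, if_true, if_neg hne]
      decide
  · rw [hφ d hd, if_pos (hξ1 d hd hdD)]
  · rw [hφ t ht, if_neg hξ2]
    decide

section

variable {V F : Subgroup G}

/-- `S_φ = {s ∈ W | φ([E, s]) = 0}` -/
def Sp [Finite G] (h : Hyp V F) {φ : G → ZMod 2} (hφ : Add2 F φ) : Subgroup G where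
  carrier := {s | s ∈ WW V F ∧ ∀ e ∈ EE V F, φ (c e s) = 0}
  one_mem' := ⟨one_mem _, fun e _ => by rw [Hyp.c_one_right]; exact hφ.one⟩
  mul_mem' := by
    rintro s t ⟨hs, hs2⟩ ⟨ht, ht2⟩
    refine ⟨mul_mem hs ht, fun e he => ?_⟩
    rw [h.c_mul_right' he hs ht, hφ.mul _ (h.comm_EW he hs) _ (h.comm_EW he ht), hs2 e he, ht2 e he,
      add_zero]
  inv_mem' := by
    rintro s ⟨hs, hs2⟩
    refine ⟨inv_mem hs, fun e he => ?_⟩
    have h1 := h.c_mul_right' he (inv_mem hs) hs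
    rw [inv_mul_cancel, Hyp.c_one_right] at h1
    have h2 := hφ.mul _ (h.comm_EW he (inv_mem hs)) _ (h.comm_EW he hs)
    rw [← h1, hφ.one, hs2 e he, add_zero] at h2
    exact h2.symm

theorem mem_Sp [Finite G] {h : Hyp V F} {φ : G → ZMod 2} {hφ : Add2 F φ} {s : G} :
    s ∈ Sp h hφ ↔ s ∈ WW V F ∧ ∀ e ∈ EE V F, φ (c e s) = 0 := Iff.rfl

theorem Sp_le_W [Finite G] (h : Hyp V F) {φ : G → ZMod 2} (hφ : Add2 F φ) : Sp h hφ ≤ WW V F :=
  fun _ hs => hs.1

theorem NN_le_Sp [Finite G] (h : Hyp V F) {φ : G → ZMod 2} (hφ : Add2 F φ) : NN V F ≤ Sp h hφ := by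
  intro s hs
  refine ⟨hs.1, fun e he => ?_⟩
  rw [Hyp.c_E_NN he hs, hφ.one]

namespace Hyp

variable [Finite G] (h : Hyp V F) {φ : G → ZMod 2} (hφ : Add2 F φ)
include h hφ

/-- the form `φ([v, s, t])` -/
theorem bf_congr_v {v v' s t : G} (hv : v ∈ V) (hv' : v' ∈ V) (hs : s ∈ WW V F) (ht : t ∈ WW V F)
    (hvv : v⁻¹ * v' ∈ EE V F) : φ (c (c v' s) t) = φ (c (c v s) t) := by
  have e1 : v' = v * (v⁻¹ * v') := by group
  have h1 : c (c (v⁻¹ * v') s) t = 1 := c_F (h.comm_EW hvv hs) ht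
  rw [e1, h.beta_mul hv hvv.1 hs ht, h1, mul_one]

theorem bf_congr_t {v s t t' : G} (hv : v ∈ V) (hs : s ∈ WW V F) (ht : t ∈ WW V F)
    (htt : t⁻¹ * t' ∈ Sp h hφ) : φ (c (c v s) t') = φ (c (c v s) t) := by
  have e1 : t' = t * (t⁻¹ * t') := by group
  have h1 : φ (c (c v s) (t⁻¹ * t')) = 0 := htt.2 _ (h.c_memE hv hs)
  rw [e1, h.beta_mul_right hv hs ht htt.1, hφ.mul _ (h.beta_memF hv hs ht) _ (h.beta_memF hv hs htt.1), h1,
    add_zero]

theorem bf_congr_s {v s s' t : G} (hv : v ∈ V) (hs : s ∈ WW V F) (ht : t ∈ WW V F)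
    (hss : s⁻¹ * s' ∈ Sp h hφ) : φ (c (c v s') t) = φ (c (c v s) t) := by
  have hs' : s' ∈ WW V F := by
    have := mul_mem hs hss.1
    rwa [mul_inv_cancel_left] at this
  rw [h.beta_comm hv hs' ht, h.beta_comm hv hs ht]
  exact h.bf_congr_t hφ hv ht hs hss

/-- **(PF)** the Pfaffian bound: `q² ≤ |W : S_φ|`. -/
theorem pfaff (hne : ∃ e ∈ EE V F, ∃ s ∈ WW V F, φ (c e s) ≠ 0) :
    (EE V F).relIndex V ^ 2 ≤ (Sp h hφ).relIndex (WW V F) := by
  classical
  let iV : CommGroup V :=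
    { (inferInstance : Group V) with
      mul_comm := fun x y => Subtype.ext (h.V_comm x.2 y.2) }
  let E' : Subgroup V := (EE V F).subgroupOf V
  let S' : Subgroup ↥(WW V F) := (Sp h hφ).subgroupOf (WW V F)
  have hcomS : ∀ s t : ↥(WW V F), s * t * s⁻¹ * t⁻¹ ∈ S' := by
    intro s t
    rw [mem_subgroupOf]
    exact NN_le_Sp h hφ (h.F_le_NN (h.comm_WW s.2 t.2))
  have hSn : S'.Normal := by
    refine ⟨fun s hs g => ?_⟩
    have h1 : g * s * g⁻¹ = (g * s * g⁻¹ * s⁻¹) * s := by group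
    rw [h1]
    exact mul_mem (hcomS g s) hs
  let iS : CommGroup (↥(WW V F) ⧸ S') :=
    { (inferInstance : Group (↥(WW V F) ⧸ S')) with
      mul_comm := by
        intro x y
        refine QuotientGroup.induction_on x fun s => QuotientGroup.induction_on y fun t => ?_
        rw [← QuotientGroup.mk_mul, ← QuotientGroup.mk_mul, QuotientGroup.eq]
        have h1 : (s * t)⁻¹ * (t * s) = t⁻¹ * s⁻¹ * (t⁻¹)⁻¹ * (s⁻¹)⁻¹ := by group
        rw [h1]
        exact hcomS _ _ }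
  -- the form
  let bb : V → ↥(WW V F) → ↥(WW V F) → ZMod 2 := fun v s t => φ (c (c (v : G) s) t)
  have cv : ∀ (v v' : V) (s t : ↥(WW V F)), (v : V ⧸ E') = v' → bb v' s t = bb v s t := by
    intro v v' s t hvv
    rw [QuotientGroup.eq, mem_subgroupOf] at hvv
    exact h.bf_congr_v hφ v.2 v'.2 s.2 t.2 hvv
  have cs : ∀ (v : V) (s s' t : ↥(WW V F)), (s : ↥(WW V F) ⧸ S') = s' → bb v s' t = bb v s t := by
    intro v s s' t hss
    rw [QuotientGroup.eq, mem_subgroupOf] at hss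
    exact h.bf_congr_s hφ v.2 s.2 t.2 hss
  have ct : ∀ (v : V) (s t t' : ↥(WW V F)), (t : ↥(WW V F) ⧸ S') = t' → bb v s t' = bb v s t := by
    intro v s t t' htt
    rw [QuotientGroup.eq, mem_subgroupOf] at htt
    exact h.bf_congr_t hφ v.2 s.2 t.2 htt
  have av : ∀ (v v' : V) (s t : ↥(WW V F)), bb (v * v') s t = bb v s t + bb v' s t := by
    intro v v' s t
    change φ (c (c ((v : G) * v') s) t) = _
    rw [h.beta_mul v.2 v'.2 s.2 t.2]
    exact hφ.mul _ (h.beta_memF v.2 s.2 t.2) _ (h.beta_memF v'.2 s.2 t.2)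
  have as : ∀ (v : V) (s s' t : ↥(WW V F)), bb v (s * s') t = bb v s t + bb v s' t := by
    intro v s s' t
    change φ (c (c (v : G) ((s : G) * s')) t) = _
    rw [h.beta_mul_left v.2 s.2 s'.2 t.2]
    exact hφ.mul _ (h.beta_memF v.2 s.2 t.2) _ (h.beta_memF v.2 s'.2 t.2)
  have at' : ∀ (v : V) (s t t' : ↥(WW V F)), bb v s (t * t') = bb v s t + bb v s t' := by
    intro v s t t'
    change φ (c (c (v : G) s) ((t : G) * t')) = _
    rw [h.beta_mul_right v.2 s.2 t.2 t'.2]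
    exact hφ.mul _ (h.beta_memF v.2 s.2 t.2) _ (h.beta_memF v.2 s.2 t'.2)
  let A := V ⧸ E'
  let S := ↥(WW V F) ⧸ S'
  have outA : ∀ a b : A, ((a * b).out : V ⧸ E') = ((a.out * b.out : V) : V ⧸ E') := by
    intro a b
    rw [QuotientGroup.mk_mul, QuotientGroup.out_eq', QuotientGroup.out_eq', QuotientGroup.out_eq']
  have outS : ∀ a b : S, ((a * b).out : ↥(WW V F) ⧸ S') =
      ((a.out * b.out : ↥(WW V F)) : ↥(WW V F) ⧸ S') := by
    intro a b
    rw [QuotientGroup.mk_mul, QuotientGroup.out_eq', QuotientGroup.out_eq', QuotientGroup.out_eq']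
  let β : Additive A →+ Additive S →+ Additive S →+ ZMod 2 :=
    AddMonoidHom.mk' (fun a => AddMonoidHom.mk' (fun s => AddMonoidHom.mk'
      (fun t => bb (Additive.toMul a).out (Additive.toMul s).out (Additive.toMul t).out)
      (by
        intro t t'
        have e : Additive.toMul (t + t') = Additive.toMul t * Additive.toMul t' := rfl
        rw [e, ← at', ct _ _ _ _ (outS _ _).symm]))
      (by
        intro s s'
        have e : Additive.toMul (s + s') = Additive.toMul s * Additive.toMul s' := rfl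
        refine AddMonoidHom.ext fun t => ?_
        change bb _ (Additive.toMul (s + s')).out _ = bb _ _ _ + bb _ _ _
        rw [e, ← as, cs _ _ _ _ (outS _ _).symm]))
      (by
        intro a b
        have e : Additive.toMul (a + b) = Additive.toMul a * Additive.toMul b := rfl
        refine AddMonoidHom.ext fun s => AddMonoidHom.ext fun t => ?_
        change bb (Additive.toMul (a + b)).out _ _ = bb _ _ _ + bb _ _ _
        rw [e, ← av, cv _ _ _ _ (outA _ _).symm])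
  have hβ : ∀ (a : Additive A) (s t : Additive S),
      β a s t = bb (Additive.toMul a).out (Additive.toMul s).out (Additive.toMul t).out := fun _ _ _ => rfl
  have key : Nat.card (Additive A) ^ 2 ≤ Nat.card (Additive S) := by
    refine NearFF.Pfaff.card_sq_le_card ?_ ?_ β ?_ ?_ ?_
    · intro a
      change Additive.ofMul (Additive.toMul a * Additive.toMul a) = 0
      rw [ofMul_eq_zero]
      refine QuotientGroup.induction_on (Additive.toMul a) fun v => ?_
      rw [← QuotientGroup.mk_mul]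
      have h1 : v * v = 1 := Subtype.ext (h.sq' v.2)
      rw [h1]; rfl
    · intro a
      change Additive.ofMul (Additive.toMul a * Additive.toMul a) = 0
      rw [ofMul_eq_zero]
      refine QuotientGroup.induction_on (Additive.toMul a) fun s => ?_
      rw [← QuotientGroup.mk_mul, QuotientGroup.eq_one_iff, mem_subgroupOf]
      exact NN_le_Sp h hφ (h.F_le_NN (h.sq_W s.2))
    · intro a s
      rw [hβ]
      change φ (c (c _ _) _) = 0
      rw [h.beta_self (Subtype.prop _) (Subtype.prop _), hφ.one]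
    · intro a ha s hs
      have hv : ((Additive.toMul a).out : G) ∉ EE V F := by
        intro h1
        apply ha
        have h2 : ((Additive.toMul a).out : V ⧸ E') = 1 := by
          rw [QuotientGroup.eq_one_iff, mem_subgroupOf]; exact h1
        rw [QuotientGroup.out_eq'] at h2
        exact h2
      have h3 : ((Additive.toMul s).out : G) ∈ Sp h hφ := by
        refine ⟨(Additive.toMul s).out.2, fun e he => ?_⟩
        obtain ⟨t, ht, hte⟩ := h.surj (Additive.toMul a).out.2 hv he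
        have h4 := hs (Additive.ofMul ((⟨t, ht⟩ : ↥(WW V F)) : ↥(WW V F) ⧸ S'))
        rw [hβ] at h4
        have h5 : bb (Additive.toMul a).out ⟨t, ht⟩ (Additive.toMul s).out = 0 := by
          rw [← h4]
          refine (cs _ _ _ _ ?_).symm
          rw [toMul_ofMul, QuotientGroup.out_eq']
        have h6 : c e ((Additive.toMul s).out : G) =
            c (c ((Additive.toMul a).out : G) t) ((Additive.toMul s).out : G) := by
          refine h.c_congr_left he.1 (h.c_memV (Additive.toMul a).out.2 ht) (Additive.toMul s).out.2 ?_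
          have h7 := h.V_comm (h.c_memV (Additive.toMul a).out.2 ht) (inv_mem he.1)
          rwa [h7] at hte
        rw [h6]
        exact h5
      have h4 : ((Additive.toMul s).out : ↥(WW V F) ⧸ S') = 1 := by
        rw [QuotientGroup.eq_one_iff, mem_subgroupOf]; exact h3
      rw [QuotientGroup.out_eq'] at h4
      exact h4
    · obtain ⟨e, he, s, hs, hes⟩ := hne
      refine ⟨⟨Additive.ofMul ((⟨s, hs⟩ : ↥(WW V F)) : ↥(WW V F) ⧸ S'), 0, fun h1 => hes ?_⟩⟩
      rw [ofMul_eq_zero, QuotientGroup.eq_one_iff, mem_subgroupOf] at h1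
      exact h1.2 e he
  exact key

omit hφ in
/-- `φ([E, W]) ≠ 0` for some `φ` which is trivial on `D` if `[E, W] ≰ D`. -/
theorem exists_phi {D : Subgroup G} {e s : G} (he : e ∈ EE V F) (hs : s ∈ WW V F) (hD : c e s ∉ D) :
    ∃ φ : G → ZMod 2, Add2 F φ ∧ (∀ d ∈ F, d ∈ D → φ d = 0) ∧ φ (c e s) ≠ 0 :=
  exists_add2 (fun a ha b hb => h.V_comm (h.F_le_V ha) (h.F_le_V hb)) (fun a ha => h.sq' (h.F_le_V ha))
    (h.comm_EW he hs) hD

omit hφ in
/-- **(PF)** `|V : E|² ≤ |E : F|` -/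
theorem sq_le : (EE V F).relIndex V ^ 2 ≤ F.relIndex (EE V F) := by
  obtain ⟨e, he, heF⟩ := SetLike.not_le_iff_exists.1 (not_le_of_gt h.F_lt_E)
  have h1 : ∃ s ∈ WW V F, c e s ≠ 1 := by
    by_contra hall
    push Not at hall
    apply heF
    rw [← h.cent_EW]
    refine mem_inf.2 ⟨he, ?_⟩
    rw [mem_centralizer_iff]
    intro s hs
    have h2 := hall s hs
    calc s * e = (c e s)⁻¹ * (e * s) := by rw [c]; group
      _ = e * s := by rw [h2, inv_one, one_mul]
  obtain ⟨s, hs, hes⟩ := h1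
  obtain ⟨φ, hφ, -, h2⟩ := h.exists_phi (D := ⊥) he hs (by rwa [mem_bot])
  refine (h.pfaff hφ ⟨e, he, s, hs, h2⟩).trans ?_
  rw [← h.relIndex_NN]
  exact relIndex_le_of_le_left (NN_le_Sp h hφ) index_ne_zero_of_finite

/-- **(PF)** equality: `S_φ = N` for every `φ` with `φ([E, W]) ≠ 0`. -/
theorem sp_eq (heq : F.relIndex (EE V F) = (EE V F).relIndex V ^ 2)
    (hne : ∃ e ∈ EE V F, ∃ s ∈ WW V F, φ (c e s) ≠ 0) : Sp h hφ = NN V F := by
  have h1 := h.pfaff hφ hne
  rw [← heq, ← h.relIndex_NN] at h1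
  have h2 := relIndex_mul_relIndex (NN V F) (Sp h hφ) (WW V F) (NN_le_Sp h hφ) (Sp_le_W h hφ)
  have h3 : (Sp h hφ).relIndex (WW V F) ≠ 0 := index_ne_zero_of_finite
  have h4 : (NN V F).relIndex (Sp h hφ) ≠ 0 := index_ne_zero_of_finite
  have h5 : (NN V F).relIndex (Sp h hφ) = 1 := by
    have h6 : (NN V F).relIndex (Sp h hφ) * (Sp h hφ).relIndex (WW V F) ≤ 1 * (Sp h hφ).relIndex (WW V F) := by
      rw [h2, one_mul]; exact h1
    have h7 := Nat.le_of_mul_le_mul_right h6 (Nat.pos_of_ne_zero h3)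
    omega
  exact le_antisymm (relIndex_eq_one.1 h5) (NN_le_Sp h hφ)

omit hφ in
/-- `[E, s] = {[e, s] | e ∈ E}` -/
def CE {s : G} (hs : s ∈ WW V F) : Subgroup G where
  carrier := {x | ∃ e ∈ EE V F, x = c e s}
  one_mem' := ⟨1, one_mem _, by rw [c]; group⟩
  mul_mem' := by
    rintro x y ⟨e, he, rfl⟩ ⟨f, hf, rfl⟩
    exact ⟨e * f, mul_mem he hf, (h.c_mul_left he.1 hf.1 hs).symm⟩
  inv_mem' := by
    rintro x ⟨e, he, rfl⟩
    exact ⟨e⁻¹, inv_mem he, (h.c_inv_left he.1 hs).symm⟩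

omit hφ in
/-- **(PF)** equality: every commutator `[e, t]` is in `[E, s]`, for every `s ∈ W - N`. -/
theorem exists_c_eq (heq : F.relIndex (EE V F) = (EE V F).relIndex V ^ 2) {s : G} (hs : s ∈ WW V F)
    (hsN : s ∉ NN V F) {e t : G} (he : e ∈ EE V F) (ht : t ∈ WW V F) : ∃ e' ∈ EE V F, c e t = c e' s := by
  by_contra hcon
  obtain ⟨φ, hφ, hD, h2⟩ := h.exists_phi (D := h.CE hs) he ht hcon
  apply hsN
  rw [← h.sp_eq hφ heq ⟨e, he, t, ht, h2⟩]
  exact ⟨hs, fun f hf => hD _ (h.comm_EW hf hs) ⟨f, hf, rfl⟩⟩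

omit hφ in
/-- **(PF)** equality: `[E, W] = [E, s]` for every `s ∈ W - N`. -/
theorem commutator_eq (heq : F.relIndex (EE V F) = (EE V F).relIndex V ^ 2) {s : G} (hs : s ∈ WW V F)
    (hsN : s ∉ NN V F) : ⁅EE V F, WW V F⁆ = h.CE hs := by
  apply le_antisymm
  · rw [commutator_le]
    intro e he t ht
    exact h.exists_c_eq heq hs hsN he ht
  · rintro x ⟨e, he, rfl⟩
    exact commutator_mem_commutator he hs

omit hφ in
/-- `|[E, s]| = |E : C_E(s)|` -/
theorem card_CE {s : G} (hs : s ∈ WW V F) : Nat.card (h.CE hs) = (centralizer {s}).relIndex (EE V F) := by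
  have h1 : Cos (fun e => c e s) (EE V F) (EE V F ⊓ centralizer {s}) (h.CE hs) ⊥ := by
    refine ⟨fun e he => ⟨e, he, rfl⟩, fun a ha b hb => ?_⟩
    rw [mem_bot, ← h.c_inv_left ha.1 hs, ← h.c_mul_left (inv_mem ha.1) hb.1 hs]
    constructor
    · intro h2
      refine mem_inf.2 ⟨mul_mem (inv_mem ha) hb, ?_⟩
      rw [mem_centralizer_singleton_iff]
      calc a⁻¹ * b * s = c (a⁻¹ * b) s * (s * (a⁻¹ * b)) := by rw [c]; group
        _ = s * (a⁻¹ * b) := by rw [h2, one_mul]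
    · intro h2
      have h3 := mem_centralizer_singleton_iff.1 (mem_inf.1 h2).2
      rw [c, h3, mul_inv_cancel_right, mul_inv_cancel]
  have h2 := h1.eq_of_surj (fun x ⟨e, he, hx⟩ => ⟨e, he, by rw [hx, inv_mul_cancel]; exact one_mem _⟩)
  rw [inf_relIndex_left, relIndex_bot_left] at h2
  exact h2.symm

omit hφ in
/-- **(PF)** equality: `|[E, W]| ≤ |V : E|`. -/
theorem card_commutator_le (heq : F.relIndex (EE V F) = (EE V F).relIndex V ^ 2) :
    Nat.card ↥(⁅EE V F, WW V F⁆ : Subgroup G) ≤ (EE V F).relIndex V := by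
  obtain ⟨s, hs, hsN⟩ := h.exists_not_mem_NN
  rw [h.commutator_eq heq hs hsN, h.card_CE hs]
  have h1 := h.relIndex_mul_le hs hsN
  rw [heq, pow_two] at h1
  exact Nat.le_of_mul_le_mul_left h1 (Nat.pos_of_ne_zero index_ne_zero_of_finite)

end Hyp

end

end Cfsg.Agent.Omega.NOne.Flat
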