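import Mathlib

/-!
# A section `N / D` with the action of `H`
-/

set_option autoImplicit false

namespace Cfsg.Agent.Omega.NOne.Flat

open Subgroup
open scoped Pointwise

universe u v

variable {G : Type u} [Group G]

/-- The section `M = N / D` with the action of `H` by conjugation. -/
structure Sect (H N D : Subgroup G) (M : Type v) [Group M] where
  π : N →* M
  surj : Function.Surjective π
  ker : ∀ n : N, π n = 1 ↔ (n : G) ∈ D
  nN : ∀ h ∈ H, ∀ n ∈ N, h * n * h⁻¹ ∈ N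
  ρ : H →* MulAut M
  ρπ : ∀ (h : H) (n : N), ρ h (π n) = π ⟨h * n * (h : G)⁻¹, nN h h.2 n n.2⟩

/-- Sections exist. -/
theorem exists_sect {H N D : Subgroup G} (hDN : ∀ n ∈ N, ∀ d ∈ D, n * d * n⁻¹ ∈ D)
    (hN : ∀ h ∈ H, ∀ n ∈ N, h * n * h⁻¹ ∈ N) (hD : ∀ h ∈ H, ∀ d ∈ D, h * d * h⁻¹ ∈ D) :
    ∃ (M : Type u) (_ : Group M), Nonempty (Sect H N D M) := by
  have hn : (D.subgroupOf N).Normal := ⟨fun d hd n => by
    rw [mem_subgroupOf] at hd ⊢
    exact hDN n n.2 d hd⟩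
  let act : H → (N ⧸ D.subgroupOf N) → (N ⧸ D.subgroupOf N) := fun h =>
    Quotient.map' (fun n : N => (⟨h * n * (h : G)⁻¹, hN h h.2 n n.2⟩ : N)) (by
      intro a b hab
      rw [QuotientGroup.leftRel_apply, mem_subgroupOf] at hab ⊢
      have h1 := hD h h.2 _ hab
      push_cast at h1 ⊢
      have e : (↑h * ↑a * (h : G)⁻¹)⁻¹ * (↑h * ↑b * (h : G)⁻¹) = h * ((a : G)⁻¹ * b) * (h : G)⁻¹ := by
        group
      rw [e]
      exact h1)
  have act_mk : ∀ (h : H) (n : N), act h (QuotientGroup.mk n) =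
      QuotientGroup.mk (⟨h * n * (h : G)⁻¹, hN h h.2 n n.2⟩ : N) := fun h n => rfl
  have act_one : ∀ q, act 1 q = q := by
    intro q
    induction q using QuotientGroup.induction_on with
    | H n =>
      rw [act_mk]
      congr 1
      apply Subtype.ext
      simp
  have act_mul : ∀ h h' q, act (h * h') q = act h (act h' q) := by
    intro h h' q
    induction q using QuotientGroup.induction_on with
    | H n =>
      rw [act_mk, act_mk, act_mk]
      congr 1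
      apply Subtype.ext
      simp [mul_assoc]
  let ρ0 : H → MulAut (N ⧸ D.subgroupOf N) := fun h =>
    { toFun := act h
      invFun := act h⁻¹
      left_inv := fun q => by rw [← act_mul, inv_mul_cancel, act_one]
      right_inv := fun q => by rw [← act_mul, mul_inv_cancel, act_one]
      map_mul' := by
        intro q q'
        induction q using QuotientGroup.induction_on with
        | H n =>
          induction q' using QuotientGroup.induction_on with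
          | H n' =>
            rw [← QuotientGroup.mk_mul, act_mk, act_mk, act_mk, ← QuotientGroup.mk_mul]
            congr 1
            apply Subtype.ext
            simp [mul_assoc] }
  refine ⟨N ⧸ D.subgroupOf N, inferInstance, ⟨{
    π := QuotientGroup.mk' _
    surj := QuotientGroup.mk'_surjective _
    ker := fun n => by rw [QuotientGroup.mk'_apply, QuotientGroup.eq_one_iff, mem_subgroupOf]
    nN := hN
    ρ :=
      { toFun := ρ0
        map_one' := by ext q; exact act_one q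
        map_mul' := fun h h' => by ext q; exact act_mul h h' q }
    ρπ := fun h n => rfl }⟩⟩

namespace Sect

variable {H N D : Subgroup G} {M : Type v} [Group M] (s : Sect H N D M)

/-- The image of a subgroup of `N`. -/
def B (K : Subgroup G) : Subgroup M := (K.subgroupOf N).map s.π

/-- The group of automorphisms of `M` induced by a subgroup of `H`. -/
def A (K : Subgroup G) : Subgroup (MulAut M) := (K.subgroupOf H).map s.ρ

theorem π_eq_iff {a b : N} : s.π a = s.π b ↔ (a : G)⁻¹ * b ∈ D := by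
  have h1 : s.π a = s.π b ↔ s.π (a⁻¹ * b) = 1 := by rw [map_mul, map_inv, inv_mul_eq_one]
  rw [h1, s.ker]
  push_cast
  rfl

theorem mem_B {K : Subgroup G} (hDK : D ≤ K) {n : N} : s.π n ∈ s.B K ↔ (n : G) ∈ K := by
  constructor
  · rintro ⟨m, hm, hmn⟩
    have h1 := s.π_eq_iff.1 hmn
    have h2 : (n : G) = m * ((m : G)⁻¹ * n) := by group
    rw [h2]
    exact mul_mem hm (hDK h1)
  · intro h
    exact ⟨n, h, rfl⟩

theorem B_le_B {K K' : Subgroup G} (h : K ≤ K') : s.B K ≤ s.B K' :=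
  Subgroup.map_mono fun _ hk => h hk

theorem B_inj {K K' : Subgroup G} (hDK : D ≤ K) (hK : K ≤ N) (hDK' : D ≤ K') (hK' : K' ≤ N)
    (h : s.B K = s.B K') : K = K' := by
  apply le_antisymm
  · intro k hk
    have h1 : s.π ⟨k, hK hk⟩ ∈ s.B K' := by
      rw [← h, s.mem_B hDK]
      exact hk
    exact (s.mem_B hDK').1 h1
  · intro k hk
    have h1 : s.π ⟨k, hK' hk⟩ ∈ s.B K := by
      rw [h, s.mem_B hDK']
      exact hk
    exact (s.mem_B hDK).1 h1

theorem B_inf {K K' : Subgroup G} (hDK' : D ≤ K') : s.B K ⊓ s.B K' = s.B (K ⊓ K') := by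
  apply le_antisymm
  · rintro _ ⟨⟨k, hk, rfl⟩, hk'⟩
    have h1 := (s.mem_B hDK').1 hk'
    exact ⟨k, mem_inf.2 ⟨hk, h1⟩, rfl⟩
  · exact le_inf (s.B_le_B inf_le_left) (s.B_le_B inf_le_right)

theorem B_sup {K K' : Subgroup G} (hK : K ≤ N) (hK' : K' ≤ N) : s.B K ⊔ s.B K' = s.B (K ⊔ K') := by
  rw [B, B, B, ← Subgroup.map_sup, Subgroup.subgroupOf_sup hK hK']

theorem B_D : s.B D = ⊥ := by
  rw [eq_bot_iff]
  rintro _ ⟨n, hn, rfl⟩
  exact mem_bot.2 ((s.ker n).2 hn)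

theorem B_N : s.B N = ⊤ := by
  rw [eq_top_iff]
  intro m _
  obtain ⟨n, rfl⟩ := s.surj m
  exact ⟨n, n.2, rfl⟩

theorem card_B {K : Subgroup G} (hK : K ≤ N) : Nat.card (s.B K) = D.relIndex K := by
  have h1 : (s.π.comp (inclusion hK)).range = s.B K := by
    ext m
    constructor
    · rintro ⟨k, rfl⟩
      exact ⟨inclusion hK k, k.2, rfl⟩
    · rintro ⟨k, hk, rfl⟩
      exact ⟨⟨k, hk⟩, rfl⟩
  have h2 : (s.π.comp (inclusion hK)).ker = D.subgroupOf K := by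
    ext k
    rw [MonoidHom.mem_ker, MonoidHom.comp_apply, s.ker, mem_subgroupOf]
    rfl
  rw [← h1, ← index_ker, h2]
  rfl

theorem ρ_eq_iff {a b : H} : s.ρ a = s.ρ b ↔
    ∀ n ∈ N, (a * n * (a : G)⁻¹)⁻¹ * (b * n * (b : G)⁻¹) ∈ D := by
  constructor
  · intro h n hn
    have h1 : s.ρ a (s.π ⟨n, hn⟩) = s.ρ b (s.π ⟨n, hn⟩) := by rw [h]
    rw [s.ρπ, s.ρπ, s.π_eq_iff] at h1
    exact h1
  · intro h
    ext m
    obtain ⟨n, rfl⟩ := s.surj m
    rw [s.ρπ, s.ρπ, s.π_eq_iff]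
    exact h n n.2

theorem ρ_eq_one_iff {a : H} : s.ρ a = 1 ↔ ∀ n ∈ N, a * n * (a : G)⁻¹ * n⁻¹ ∈ D := by
  constructor
  · intro h n hn
    have h1 : s.ρ a (s.π ⟨n⁻¹, inv_mem hn⟩) = s.π ⟨n⁻¹, inv_mem hn⟩ := by rw [h]; rfl
    rw [s.ρπ, s.π_eq_iff] at h1
    have e : ((⟨a * n⁻¹ * (a : G)⁻¹, s.nN a a.2 _ (inv_mem hn)⟩ : N) : G)⁻¹ * ((⟨n⁻¹, inv_mem hn⟩ : N) : G) =
        a * n * (a : G)⁻¹ * n⁻¹ := by
      change (a * n⁻¹ * (a : G)⁻¹)⁻¹ * n⁻¹ = _
      group
    rwa [e] at h1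
  · intro h
    ext m
    obtain ⟨n, rfl⟩ := s.surj m
    rw [s.ρπ]
    change _ = s.π n
    rw [s.π_eq_iff]
    have h2 := h _ (inv_mem n.2)
    have e : ((⟨a * n * (a : G)⁻¹, s.nN a a.2 _ n.2⟩ : N) : G)⁻¹ * (n : G) =
        a * (n : G)⁻¹ * (a : G)⁻¹ * ((n : G)⁻¹)⁻¹ := by
      change ((a : G) * (n : G) * (a : G)⁻¹)⁻¹ * (n : G) = _
      group
    rw [e]
    exact h2

theorem B_map (h : H) (K : Subgroup G) :
    (s.B K).map (s.ρ h : M ≃* M).toMonoidHom = s.B (MulAut.conj (h : G) • K) := by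
  apply le_antisymm
  · rintro _ ⟨_, ⟨k, hk, rfl⟩, rfl⟩
    refine ⟨⟨h * k * (h : G)⁻¹, s.nN h h.2 k k.2⟩, ?_, (s.ρπ h k).symm⟩
    exact Subgroup.smul_mem_pointwise_smul _ _ _ hk
  · rintro _ ⟨n, hn, rfl⟩
    have hn' : (n : G) ∈ MulAut.conj (h : G) • K := hn
    obtain ⟨k, hk, hkn⟩ := (Subgroup.mem_smul_pointwise_iff_exists _ _ _).1 hn'
    have hkN : k ∈ N := by
      have e : k = (h : G)⁻¹ * n * (h : G)⁻¹⁻¹ := by
        rw [← hkn]
        change k = (h : G)⁻¹ * (h * k * (h : G)⁻¹) * (h : G)⁻¹⁻¹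
        group
      rw [e]
      exact s.nN _ (inv_mem h.2) n n.2
    refine ⟨s.π ⟨k, hkN⟩, ⟨⟨k, hkN⟩, hk, rfl⟩, ?_⟩
    change s.ρ h (s.π ⟨k, hkN⟩) = s.π n
    rw [s.ρπ]
    congr 1
    exact Subtype.ext hkn

theorem A_map (h : H) (K : Subgroup G) :
    (s.A K).map (MulAut.conj (s.ρ h)).toMonoidHom = s.A (MulAut.conj (h : G) • K) := by
  apply le_antisymm
  · rintro _ ⟨_, ⟨k, hk, rfl⟩, rfl⟩
    refine ⟨h * k * h⁻¹, ?_, ?_⟩
    · exact Subgroup.smul_mem_pointwise_smul _ _ _ hk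
    · rw [map_mul, map_mul, map_inv]
      rfl
  · rintro _ ⟨n, hn, rfl⟩
    have hn' : (n : G) ∈ MulAut.conj (h : G) • K := hn
    obtain ⟨k, hk, hkn⟩ := (Subgroup.mem_smul_pointwise_iff_exists _ _ _).1 hn'
    have e : ((h⁻¹ * n * h : H) : G) = k := by
      push_cast
      rw [← hkn]
      change (h : G)⁻¹ * (h * k * (h : G)⁻¹) * h = k
      group
    refine ⟨s.ρ (h⁻¹ * n * h), ⟨h⁻¹ * n * h, ?_, rfl⟩, ?_⟩
    · rw [SetLike.mem_coe, mem_subgroupOf, e]
      exact hk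
    · change s.ρ h * s.ρ (h⁻¹ * n * h) * (s.ρ h)⁻¹ = s.ρ n
      rw [← map_inv, ← map_mul, ← map_mul]
      congr 1
      group

theorem A_sup {K K' : Subgroup G} (hK : K ≤ H) (hK' : K' ≤ H) : s.A K ⊔ s.A K' = s.A (K ⊔ K') := by
  rw [A, A, A, ← Subgroup.map_sup, Subgroup.subgroupOf_sup hK hK']

theorem card_A {K K' : Subgroup G} (hK : K ≤ H)
    (h1 : ∀ k (hk : k ∈ K), s.ρ ⟨k, hK hk⟩ = 1 ↔ k ∈ K') : Nat.card (s.A K) = K'.relIndex K := by
  have h2 : (s.ρ.comp (inclusion hK)).range = s.A K := by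
    ext m
    constructor
    · rintro ⟨k, rfl⟩
      exact ⟨inclusion hK k, k.2, rfl⟩
    · rintro ⟨k, hk, rfl⟩
      exact ⟨⟨k, hk⟩, rfl⟩
  have h3 : (s.ρ.comp (inclusion hK)).ker = K'.subgroupOf K := by
    ext k
    rw [MonoidHom.mem_ker, MonoidHom.comp_apply, mem_subgroupOf]
    exact h1 k k.2
  rw [← h2, ← index_ker, h3]
  rfl

end Sect

end Cfsg.Agent.Omega.NOne.Flat
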