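import Mathlib

/-!
# THEOREM FIELD (#15909), the abstract interface between (F1), (F2) and (F3), (F4)

`M` an elementary abelian 2-group, `M = B₁ × B₂`, `Aᵢ ≤ Aut(M)` an elementary abelian 2-group with
`[M, a] ≤ Bᵢ = C_M(a)` for `1 ≠ a ∈ Aᵢ`; for `y ∈ L = ⟨A₁, A₂⟩` either `Bᵢ^y = Bⱼ`, and then `Aᵢ^y = Aⱼ`,
or `Bᵢ^y ∩ Bⱼ = 1`.
-/

set_option autoImplicit false

namespace Cfsg.Agent.Omega.NOne.Flat

/-- The data of THEOREM FIELD: `i = false` is `E / F`, `V`; `i = true` is `E^x / F`, `V^x`. -/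
structure Spr {M : Type*} [Group M] (B : Bool → Subgroup M) (A : Bool → Subgroup (MulAut M)) : Prop where
  comm : ∀ m n : M, m * n = n * m
  sq : ∀ m : M, m * m = 1
  disj : B false ⊓ B true = ⊥
  sup : B false ⊔ B true = ⊤
  card : Nat.card (B false) = Nat.card (B true)
  ne : ∀ i, B i ≠ ⊥
  Acomm : ∀ i, ∀ a ∈ A i, ∀ b ∈ A i, a * b = b * a
  Asq : ∀ i, ∀ a ∈ A i, a * a = 1
  Acard : Nat.card (A false) = Nat.card (A true)
  Ane : ∀ i, A i ≠ ⊥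
  fix : ∀ i, ∀ a ∈ A i, ∀ m ∈ B i, a m = m
  into : ∀ i, ∀ a ∈ A i, ∀ m : M, a m * m⁻¹ ∈ B i
  free : ∀ i, ∀ a ∈ A i, a ≠ 1 → ∀ m : M, a m = m → m ∈ B i
  spread : ∀ i j, ∀ y ∈ A false ⊔ A true,
    (B i).map (y : M ≃* M).toMonoidHom = B j ∨ (B i).map (y : M ≃* M).toMonoidHom ⊓ B j = ⊥
  stab : ∀ i j, ∀ y ∈ A false ⊔ A true, (B i).map (y : M ≃* M).toMonoidHom = B j →
    (A i).map (MulAut.conj y).toMonoidHom = A j

end Cfsg.Agent.Omega.NOne.Flat
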