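import Cfsg.Agent.Omega.NOne.Flat.Conj
import Cfsg.Agent.Omega.NOne.Flat.Sect
import Cfsg.Agent.Omega.NOne.Flat.Spr

/-!
# THEOREM FIELD (#15909, helper723), (F1) and (F2)

`x ∈ X` bad, `EX = E E^x`; `Good g`: `E^g ≤ EX`, `V^g` normalises `EX`, `C_{EX / F}(w) ≤ E^g / F` for
`w ∈ V^g - E^g`.

* `Good.dich` (F1): `E^g = E^{g'}` or `E^g ∩ E^{g'} = F`;
* `Hyp.comm_conj_mem` (F2): `v^c` and `v` induce the same map on `W / F` for `c ∈ C_G(E)`;
* `Hyp.exists_spr`: the instance of `Spr` on `EX / F`.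
-/

set_option autoImplicit false

namespace Cfsg.Agent.Omega.NOne.Flat

open Subgroup Cfsg Cfsg.Agent.Omega.NoFF.Basic Cfsg.Agent.Omega.NOne.Frame
open Cfsg.Agent.Omega.NOne.NearFF (Near c c_def)
open Cfsg.Agent.ZN (o2)
open Cfsg.Agent.MinSimple.VModule
open scoped Pointwise

universe u

variable {G : Type u} [Group G]

/-- `E E^x` -/
abbrev EX (V F : Subgroup G) (x : G) : Subgroup G := EE V F ⊔ MulAut.conj x • EE V F

/-- `C_{EX / F}(w) ≤ E^g / F` for `w ∈ V^g - E^g` -/
structure Good (V F : Subgroup G) (x g : G) : Prop where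
  gX : g ∈ centralizer (F : Set G)
  le : MulAut.conj g • EE V F ≤ EX V F x
  norm : MulAut.conj g • V ≤ normalizer (EX V F x : Set G)
  reg : ∀ m ∈ EX V F x, ∀ w ∈ MulAut.conj g • V, w ∉ MulAut.conj g • EE V F → c w m ∈ F →
    m ∈ MulAut.conj g • EE V F

namespace Hyp

variable {V F : Subgroup G} (h : Hyp V F)
include h

/-- **(F2)**, the computation: `c ∈ C_G(E)`, `v ∈ V`: `[v^c, s] = [v, s]` modulo `F`. -/
theorem comm_conj_mem [Finite G] {g v s : G} (hg : g ∈ centralizer (EE V F : Set G)) (hv : v ∈ V)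
    (hs : s ∈ WW V F) : (c v s)⁻¹ * c (g * v * g⁻¹) s ∈ F := by
  have hgX : g ∈ centralizer (F : Set G) := centralizer_le h.F_le_E hg
  have hs' : g⁻¹ * s * g ∈ WW V F := by
    have := conj_mem_W (inv_mem hgX) hs
    rwa [inv_inv] at this
  have hgE : ∀ e ∈ EE V F, g * e * g⁻¹ = e := fun e he => by
    rw [← mem_centralizer_iff.1 hg e he, mul_inv_cancel_right]
  have hn : s⁻¹ * (g⁻¹ * s * g) ∈ NN V F := by
    refine mem_inf.2 ⟨mul_mem (inv_mem hs) hs', ?_⟩
    rw [mem_centralizer_iff]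
    intro e he
    have h1 : c e (g⁻¹ * s * g) = c e s := by
      have h2 : g⁻¹ * c e s * g = c e s := by
        rw [mul_assoc, F_comm (h.comm_EW he hs) hgX, inv_mul_cancel_left]
      have h3 : c e (g⁻¹ * s * g) = g⁻¹ * c (g * e * g⁻¹) s * g := by rw [c, c]; group
      rw [h3, hgE e he, h2]
    have h4 : c e (s⁻¹ * (g⁻¹ * s * g)) = 1 := by
      rw [h.c_mul_right' he (inv_mem hs) hs', h1, ← h.c_mul_right' he (inv_mem hs) hs, inv_mul_cancel,
        c_one_right]
    calc e * (s⁻¹ * (g⁻¹ * s * g)) = c e (s⁻¹ * (g⁻¹ * s * g)) * (s⁻¹ * (g⁻¹ * s * g) * e) := by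
          rw [c_def]; group
      _ = s⁻¹ * (g⁻¹ * s * g) * e := by rw [h4, one_mul]
  have h5 : c (g * v * g⁻¹) s = c v (g⁻¹ * s * g) := by
    have h6 : c (g * v * g⁻¹) s = g * c v (g⁻¹ * s * g) * g⁻¹ := by rw [c, c]; group
    rw [h6, hgE _ (h.c_memE hv hs')]
  rw [h5, h.c_iff hv hs hs']
  exact h.c_mem_F hv hn

/-- a fixed point of a 2-group on `E E^x / F` -/
theorem exists_fix' [Finite G] {x : G} (hx : x ∈ centralizer (F : Set G)) {P : Subgroup G}
    (hP : IsPGroup 2 P) (hPn : P ≤ normalizer (EX V F x : Set G)) (hPX : P ≤ centralizer (F : Set G)) :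
    ∃ n ∈ EX V F x, n ∉ F ∧ ∀ y ∈ P, c y n ∈ F := by
  have : Fact (Nat.Prime 2) := ⟨Nat.prime_two⟩
  have hMX : EX V F x ≤ centralizer (F : Set G) := (EEx_le_W hx).trans W_le_X
  have hM2 : IsPGroup 2 (EX V F x) := W_isPGroup.to_le (EEx_le_W hx)
  have hY : IsPGroup 2 (P ⊔ EX V F x : Subgroup G) := IsPGroup.to_sup_of_normal_right' hP hM2 hPn
  have hYn : P ⊔ EX V F x ≤ normalizer (EX V F x : Set G) := sup_le hPn le_normalizer
  have hYX : P ⊔ EX V F x ≤ centralizer (F : Set G) := sup_le hPX hMX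
  obtain ⟨e0, he0, he0F⟩ := SetLike.not_le_iff_exists.1 (not_le_of_gt h.F_lt_E)
  obtain ⟨n, hn, hnF, hfix⟩ := GTwoFour.Tools.exists_fixed_mod (M := F) hY le_sup_right
    (fun y hy n hn => norm_mem (hYn hy) hn)
    (fun y hy m hm => norm_mem (X_norm_F (hYX hy)) hm) ⟨e0, mem_sup_left he0, he0F⟩
  exact ⟨n, hn, hnF, fun y hy => hfix y (mem_sup_left hy)⟩

theorem good_one [Finite G] {x : G} (hx : x ∈ centralizer (F : Set G)) (hb : BadX V x) : Good V F x 1 where
  gX := one_mem _
  le := by rw [map_one, one_smul]; exact le_sup_left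
  norm := by
    rw [map_one, one_smul]
    exact le_sup_left.trans (h.sup_norm_EEx hx)
  reg := by
    rw [map_one, one_smul, one_smul]
    intro m hm w hw hwE hc
    obtain ⟨e, he, f, hf, rfl⟩ := h.mem_EEx hx hm
    exact mul_mem he (h.F_le_E (h.reg hx hb hw hwE he hf hc))

theorem good_self [Finite G] {x : G} (hx : x ∈ centralizer (F : Set G)) (hb : BadX V x) : Good V F x x where
  gX := hx
  le := le_sup_right
  norm := le_sup_right.trans (h.sup_norm_EEx hx)
  reg := by
    intro m hm w hw hwE hc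
    have hmW : m ∈ WW V F := EEx_le_W hx hm
    have h1 : m ∈ MulAut.conj x • NN V F := by
      rw [mem_conj] at hw hwE ⊢
      have hm' : x⁻¹ * m * x ∈ WW V F := by
        have := conj_mem_W (inv_mem hx) hmW
        rwa [inv_inv] at this
      rw [← h.c_mem_F_iff hw hwE hm']
      have h2 := norm_mem' (X_norm_F hx) hc
      have e : x⁻¹ * c w m * x = c (x⁻¹ * w * x) (x⁻¹ * m * x) := by rw [c, c]; group
      rwa [e] at h2
    obtain ⟨e, he, f, hf, rfl⟩ := h.mem_EEx hx hm
    have h2 : e ∈ F := by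
      rw [← h.E_inf_conjNN hx hb]
      exact mem_inf.2 ⟨he, (mul_mem_cancel_right (h.conjE_le_conjNN hx hf)).1 h1⟩
    exact mul_mem (h.F_le_conjE hx h2) hf

end Hyp

theorem Good.mul {V F : Subgroup G} {x g l : G} (hg : Good V F x g)
    (hl : l ∈ normalizer (EX V F x : Set G)) (hlX : l ∈ centralizer (F : Set G)) : Good V F x (l * g) where
  gX := mul_mem hlX hg.gX
  le := by
    have := conj_le_iff (g := l) |>.2 hg.le
    rwa [conj_conj, conj_eq_of_norm hl] at this
  norm := by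
    intro w hw
    rw [← conj_conj, mem_conj] at hw
    have h1 := hg.norm hw
    have e : w = l * (l⁻¹ * w * l) * l⁻¹ := by group
    rw [e]
    exact mul_mem (mul_mem hl h1) (inv_mem hl)
  reg := by
    intro m hm w hw hwE hc
    rw [← conj_conj, mem_conj] at hw hwE ⊢
    refine hg.reg _ (norm_mem' hl hm) _ hw hwE ?_
    have h2 := norm_mem' (Hyp.X_norm_F hlX) hc
    have e : l⁻¹ * c w m * l = c (l⁻¹ * w * l) (l⁻¹ * m * l) := by rw [c, c]; group
    rwa [e] at h2

namespace Hyp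

variable {V F : Subgroup G} (h : Hyp V F)
include h

theorem conj_inf_eq [Finite G] {g g' : G} (hg : g ∈ centralizer (F : Set G))
    (hg' : g' ∈ centralizer (F : Set G)) (hb : BadX V (g⁻¹ * g')) :
    MulAut.conj g • V ⊓ MulAut.conj g' • V = F := by
  have h1 := h.inf_eq_of_bad (mul_mem (inv_mem hg) hg') hb
  have h2 := congrArg (fun A : Subgroup G => MulAut.conj g • A) h1
  simp only [Subgroup.smul_inf (MulAut.conj g) V (MulAut.conj (g⁻¹ * g') • V), conj_conj,
    mul_inv_cancel_left, conj_eq_of_cent hg] at h2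
  exact h2

theorem conj_commute [Finite G] {g g' : G} (hg : g ∈ centralizer (F : Set G))
    (hg' : g' ∈ centralizer (F : Set G)) (hlt : ¬ MulAut.conj g • V ⊓ MulAut.conj g' • V ≤ F) :
    MulAut.conj g' • V ≤ centralizer ((MulAut.conj g • V : Subgroup G) : Set G) := by
  have h1 : F < V ⊓ MulAut.conj (g⁻¹ * g') • V := by
    refine lt_of_le_of_ne (h.F_le_inf (mul_mem (inv_mem hg) hg')) fun h2 => hlt ?_
    have h3 := congrArg (fun A : Subgroup G => MulAut.conj g • A) h2
    simp only [Subgroup.smul_inf (MulAut.conj g) V (MulAut.conj (g⁻¹ * g') • V), conj_conj,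
      mul_inv_cancel_left, conj_eq_of_cent hg] at h3
    exact h3.ge
  have h2 := conj_le_centralizer (g := g) (h.commute_of_lt (mul_mem (inv_mem hg) hg') h1)
  rwa [conj_conj, mul_inv_cancel_left] at h2

theorem exists_not_mem_conj (g : G) : ∃ w ∈ MulAut.conj g • V, w ∉ MulAut.conj g • EE V F := by
  obtain ⟨w, hw, hwE⟩ := h.exists_not_mem
  refine ⟨g * w * g⁻¹, Frame.conj_mem hw, fun h1 => hwE ?_⟩
  rw [mem_conj] at h1
  have e : g⁻¹ * (g * w * g⁻¹) * g = w := by group
  rwa [e] at h1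

theorem E_le_of_commute [Finite G] {x g g' : G} (hg : Good V F x g) (hg' : Good V F x g')
    (hc : MulAut.conj g' • V ≤ centralizer ((MulAut.conj g • V : Subgroup G) : Set G)) :
    MulAut.conj g • EE V F ≤ MulAut.conj g' • EE V F := by
  obtain ⟨w, hw, hwE⟩ := h.exists_not_mem_conj g'
  intro e he
  refine hg'.reg e (hg.le he) w hw hwE ?_
  have h1 := mem_centralizer_iff.1 (hc hw) e (conjE_le_conjV g he)
  rw [c, ← h1, mul_inv_cancel_right, mul_inv_cancel]
  exact one_mem _

/-- **(F1)** `E^g = E^{g'}` (and `[V^g, V^{g'}] = 1`) or `E^g ∩ E^{g'} = F`. -/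
theorem dich [Finite G] {x g g' : G} (hx : x ∈ centralizer (F : Set G)) (hg : Good V F x g)
    (hg' : Good V F x g') :
    (MulAut.conj g • EE V F = MulAut.conj g' • EE V F ∧
      MulAut.conj g' • V ≤ centralizer ((MulAut.conj g • V : Subgroup G) : Set G)) ∨
      (BadX V (g⁻¹ * g') ∧ MulAut.conj g • EE V F ⊓ MulAut.conj g' • EE V F = F) := by
  by_cases h2 : IsPGroup 2 (MulAut.conj g • V ⊔ MulAut.conj g' • V : Subgroup G)
  · left
    obtain ⟨n, hn, hnF, hfix⟩ := h.exists_fix' hx h2 (sup_le hg.norm hg'.norm)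
      (sup_le (h.conjV_le_X hg.gX) (h.conjV_le_X hg'.gX))
    obtain ⟨w, hw, hwE⟩ := h.exists_not_mem_conj g
    obtain ⟨w', hw', hwE'⟩ := h.exists_not_mem_conj g'
    have h3 := hg.reg n hn w hw hwE (hfix w (mem_sup_left hw))
    have h4 := hg'.reg n hn w' hw' hwE' (hfix w' (mem_sup_right hw'))
    have h5 := h.conj_commute hg.gX hg'.gX fun h6 =>
      hnF (h6 (mem_inf.2 ⟨conjE_le_conjV g h3, conjE_le_conjV g' h4⟩))
    exact ⟨le_antisymm (h.E_le_of_commute hg hg' h5) (h.E_le_of_commute hg' hg (comm_symm h5)), h5⟩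
  · right
    have hb : BadX V (g⁻¹ * g') := by
      intro h3
      apply h2
      have h4 := Choice.isPGroup_conj h3 g
      rw [Subgroup.smul_sup, conj_conj, mul_inv_cancel_left] at h4
      exact h4
    refine ⟨hb, le_antisymm ?_ (le_inf (h.F_le_conjE hg.gX) (h.F_le_conjE hg'.gX))⟩
    rw [← h.conj_inf_eq hg.gX hg'.gX hb]
    exact inf_le_inf (conjE_le_conjV g) (conjE_le_conjV g')

/-- `E^g ≠ F` -/
theorem conjE_ne (g : G) (hg : g ∈ centralizer (F : Set G)) : MulAut.conj g • EE V F ≠ F := by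
  intro h1
  apply h.E_ne_F
  have h2 := congrArg (fun A : Subgroup G => MulAut.conj g⁻¹ • A) h1
  simp only [conj_conj, inv_mul_cancel, map_one, one_smul, conj_eq_of_cent (inv_mem hg)] at h2
  exact h2

/-- the kernel of `V^g` on `EX / F` is `E^g`. -/
theorem ker_conj [Finite G] {x g k : G} (hx : x ∈ centralizer (F : Set G)) (hb : BadX V x)
    (hg : Good V F x g) (hk : k ∈ MulAut.conj g • V) :
    (∀ n ∈ EX V F x, c k n ∈ F) ↔ k ∈ MulAut.conj g • EE V F := by
  constructor
  · intro h1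
    by_contra hkE
    have h2 : EX V F x ≤ MulAut.conj g • EE V F := fun n hn => hg.reg n hn k hk hkE (h1 n hn)
    have h3 : EE V F = MulAut.conj g • EE V F :=
      Subgroup.eq_of_le_of_card_ge (le_sup_left.trans h2) (Choice.card_conj _ _).le
    have h4 : MulAut.conj x • EE V F = MulAut.conj g • EE V F :=
      Subgroup.eq_of_le_of_card_ge (le_sup_right.trans h2)
        (by rw [Choice.card_conj, Choice.card_conj])
    have h5 : EE V F ≤ V ⊓ MulAut.conj x • V := by
      refine le_inf inf_le_left ?_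
      rw [h3, ← h4]
      exact conjE_le_conjV x
    rw [h.inf_eq_of_bad hx hb] at h5
    exact absurd h5 (not_le_of_gt h.F_lt_E)
  · intro hkE n hn
    exact h.comm_WW (conjE_le_W hg.gX hkE) (EEx_le_W hx hn)

end Hyp

/-- the two points -/
def gi (x : G) : Bool → G
  | false => 1
  | true => x

/-- The group acting on `EX / F`. -/
abbrev HX (V F : Subgroup G) (x : G) : Subgroup G :=
  normalizer (EX V F x : Set G) ⊓ centralizer (F : Set G)

namespace Hyp

variable {V F : Subgroup G} (h : Hyp V F)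
include h

theorem good_gi [Finite G] {x : G} (hx : x ∈ centralizer (F : Set G)) (hb : BadX V x) (i : Bool) :
    Good V F x (gi x i) := by
  cases i
  · exact h.good_one hx hb
  · exact h.good_self hx hb

theorem conjV_le_HX [Finite G] {x g : G} (hg : Good V F x g) : MulAut.conj g • V ≤ HX V F x :=
  le_inf hg.norm (h.conjV_le_X hg.gX)

omit h in
/-- the section `EX / F` -/
theorem exists_sectEX {x : G} (hx : x ∈ centralizer (F : Set G)) :
    ∃ (M : Type u) (_ : Group M), Nonempty (Sect (HX V F x) (EX V F x) F M) := by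
  refine exists_sect (fun n hn d hd => ?_) (fun h hh n hn => norm_mem hh.1 hn) fun h hh d hd => ?_
  · exact norm_mem (X_norm_F (W_le_X (EEx_le_W hx hn))) hd
  · exact norm_mem (X_norm_F hh.2) hd

/-- `V^{g}` and `V^{g'}` induce the same group on `EX / F` if `E^g = E^{g'}`. -/
theorem A_eq [Finite G] {x g g' : G} (hx : x ∈ centralizer (F : Set G)) (hg : Good V F x g)
    (hg' : Good V F x g') (hE : MulAut.conj g • EE V F = MulAut.conj g' • EE V F)
    (hF0 : ∀ y ∈ centralizer (F : Set G), MulAut.conj y • EE V F = EE V F →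
      ∃ z ∈ centralizer (EE V F : Set G), MulAut.conj y • V = MulAut.conj z • V)
    {M : Type u} [Group M] (s : Sect (HX V F x) (EX V F x) F M) :
    s.A (MulAut.conj g • V) ≤ s.A (MulAut.conj g' • V) := by
  -- `y = g'⁻¹ g` fixes `E`
  have hyE : MulAut.conj (g'⁻¹ * g) • EE V F = EE V F := by
    rw [← conj_conj, hE, conj_conj, inv_mul_cancel, map_one, one_smul]
  obtain ⟨z, hz, hyz⟩ := hF0 _ (mul_mem (inv_mem hg'.gX) hg.gX) hyE
  rintro _ ⟨⟨w, hwH⟩, hw, rfl⟩
  have hw' : w ∈ MulAut.conj g • V := hw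
  -- `w = g' z v z⁻¹ g'⁻¹`
  have h1 : MulAut.conj g • V = MulAut.conj (g' * z) • V := by
    rw [← conj_conj g', ← hyz, conj_conj, mul_inv_cancel_left]
  rw [h1] at hw'
  obtain ⟨v, hv, rfl⟩ := mem_conj'.1 hw'
  have h2 : g' * v * g'⁻¹ ∈ MulAut.conj g' • V := Frame.conj_mem hv
  refine ⟨⟨g' * v * g'⁻¹, h.conjV_le_HX hg' h2⟩, h2, ?_⟩
  rw [s.ρ_eq_iff]
  intro n hn
  have hnW : n ∈ WW V F := EEx_le_W hx hn
  have hn' : g'⁻¹ * n * g' ∈ WW V F := by
    have := conj_mem_W (inv_mem hg'.gX) hnW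
    rwa [inv_inv] at this
  have h3 := h.comm_conj_mem hz hv hn'
  have h4 := norm_mem (X_norm_F hg'.gX) h3
  -- move to the other side
  have hnX : n ∈ centralizer (F : Set G) := W_le_X hnW
  have h5 := norm_mem' (X_norm_F hnX) h4
  have e : n⁻¹ * (g' * ((c v (g'⁻¹ * n * g'))⁻¹ * c (z * v * z⁻¹) (g'⁻¹ * n * g')) * g'⁻¹) * n =
      n⁻¹ * ((c (g' * v * g'⁻¹) n)⁻¹ * c (g' * z * v * (g' * z)⁻¹) n) * n := by
    rw [c, c, c, c]; group
  rw [e] at h5
  have e2 : n⁻¹ * ((c (g' * v * g'⁻¹) n)⁻¹ * c (g' * z * v * (g' * z)⁻¹) n) * n =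
      (g' * v * g'⁻¹ * n * (g' * v * g'⁻¹)⁻¹)⁻¹ *
        (g' * z * v * (g' * z)⁻¹ * n * (g' * z * v * (g' * z)⁻¹)⁻¹) := by
    rw [c, c]; group
  rw [e2] at h5
  exact h5

/-- **(F1), (F2): the instance of `Spr`.** -/
theorem exists_spr [Finite G] {x : G} (hx : x ∈ centralizer (F : Set G)) (hb : BadX V x)
    (hF0 : ∀ y ∈ centralizer (F : Set G), MulAut.conj y • EE V F = EE V F →
      ∃ z ∈ centralizer (EE V F : Set G), MulAut.conj y • V = MulAut.conj z • V)
    {M : Type u} [Group M] (s : Sect (HX V F x) (EX V F x) F M) :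
    Spr (fun i => s.B (MulAut.conj (gi x i) • EE V F)) (fun i => s.A (MulAut.conj (gi x i) • V)) := by
  have hgood := h.good_gi hx hb
  have hFB : ∀ g ∈ centralizer (F : Set G), F ≤ MulAut.conj g • EE V F := fun g hg => h.F_le_conjE hg
  have hXW : EX V F x ≤ WW V F := EEx_le_W hx
  have e0 : MulAut.conj (gi x false) • EE V F = EE V F := by
    change MulAut.conj (1 : G) • EE V F = EE V F
    rw [map_one, one_smul]
  have e0V : MulAut.conj (gi x false) • V = V := by
    change MulAut.conj (1 : G) • V = V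
    rw [map_one, one_smul]
  have hA1 : ∀ (i : Bool) (k : G) (hk : k ∈ MulAut.conj (gi x i) • V),
      s.ρ ⟨k, h.conjV_le_HX (hgood i) hk⟩ = 1 ↔ k ∈ MulAut.conj (gi x i) • EE V F := by
    intro i k hk
    rw [s.ρ_eq_one_iff]
    exact h.ker_conj hx hb (hgood i) hk
  have hAcard : ∀ i, Nat.card (s.A (MulAut.conj (gi x i) • V)) = (EE V F).relIndex V := by
    intro i
    rw [s.card_A (h.conjV_le_HX (hgood i)) (hA1 i)]
    have e1 := card_mul_relIndex' (inf_le_left : EE V F ≤ V)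
    have e2 := card_mul_relIndex' (conjE_le_conjV (V := V) (F := F) (gi x i))
    rw [Choice.card_conj, Choice.card_conj, ← e1] at e2
    exact Nat.eq_of_mul_eq_mul_left Nat.card_pos e2
  have hBcard : ∀ i, Nat.card (s.B (MulAut.conj (gi x i) • EE V F)) = F.relIndex (EE V F) := by
    intro i
    rw [s.card_B (hgood i).le]
    have e1 := card_mul_relIndex' h.F_le_E
    have e2 := card_mul_relIndex' (hFB _ (hgood i).gX)
    rw [Choice.card_conj, ← e1] at e2
    exact Nat.eq_of_mul_eq_mul_left Nat.card_pos e2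
  have hL : ∀ y ∈ s.A (MulAut.conj (gi x false) • V) ⊔ s.A (MulAut.conj (gi x true) • V),
      ∃ l : ↥(HX V F x), s.ρ l = y := by
    intro y hy
    rw [s.A_sup (h.conjV_le_HX (hgood false)) (h.conjV_le_HX (hgood true))] at hy
    obtain ⟨l, -, hl⟩ := hy
    exact ⟨l, hl⟩
  have hgl : ∀ (l : ↥(HX V F x)) (i : Bool), Good V F x ((l : G) * gi x i) := fun l i =>
    (hgood i).mul l.2.1 l.2.2
  exact
  { comm := by
      intro m n
      obtain ⟨a, rfl⟩ := s.surj m
      obtain ⟨b, rfl⟩ := s.surj n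
      rw [← map_mul, ← map_mul, s.π_eq_iff]
      have h1 := h.comm_WW (inv_mem (hXW b.2)) (inv_mem (hXW a.2))
      have e : (((a * b : ↥(EX V F x)) : G))⁻¹ * ((b * a : ↥(EX V F x)) : G) = c (b : G)⁻¹ (a : G)⁻¹ := by
        rw [c]; push_cast; group
      rw [e]
      exact h1
    sq := by
      intro m
      obtain ⟨a, rfl⟩ := s.surj m
      rw [← map_mul, s.ker]
      exact h.sq_W (hXW a.2)
    disj := by
      rw [s.B_inf (hFB _ (hgood true).gX), ← s.B_D, e0]
      congr 1
      apply le_antisymm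
      · rw [← h.inf_eq_of_bad hx hb]
        exact inf_le_inf inf_le_left (conjE_le_conjV x)
      · exact le_inf h.F_le_E (hFB x hx)
    sup := by
      rw [s.B_sup (hgood false).le (hgood true).le, e0]
      exact s.B_N
    card := by
      rw [hBcard, hBcard]
    ne := by
      intro i h1
      rw [← s.B_D] at h1
      exact h.conjE_ne _ (hgood i).gX (s.B_inj (hFB _ (hgood i).gX) (hgood i).le le_rfl
        (h.F_le_E.trans le_sup_left) h1)
    Acomm := by
      rintro i _ ⟨a, ha, rfl⟩ _ ⟨b, hb', rfl⟩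
      rw [← map_mul, ← map_mul]
      congr 1
      apply Subtype.ext
      exact comm_of_le_centralizer (conj_le_centralizer h.comm) ha hb'
    Asq := by
      rintro i _ ⟨a, ha, rfl⟩
      rw [← map_mul]
      have ha' : (a : G) ∈ MulAut.conj (gi x i) • V := ha
      obtain ⟨v, hv, hva⟩ := mem_conj'.1 ha'
      have h1 : a * a = 1 := by
        apply Subtype.ext
        push_cast
        rw [hva]
        have := h.sq' hv
        calc gi x i * v * (gi x i)⁻¹ * (gi x i * v * (gi x i)⁻¹) = gi x i * (v * v) * (gi x i)⁻¹ := by group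
          _ = 1 := by rw [this]; group
      rw [h1, map_one]
    Acard := by
      rw [hAcard, hAcard]
    Ane := by
      intro i h1
      obtain ⟨w, hw, hwE⟩ := h.exists_not_mem_conj (gi x i)
      refine hwE ((hA1 i w hw).1 ?_)
      have h2 : s.ρ ⟨w, h.conjV_le_HX (hgood i) hw⟩ ∈ s.A (MulAut.conj (gi x i) • V) := ⟨_, hw, rfl⟩
      have h1' : s.A (MulAut.conj (gi x i) • V) = ⊥ := h1
      rw [h1'] at h2
      exact mem_bot.1 h2
    fix := by
      rintro i _ ⟨a, ha, rfl⟩ _ ⟨n, hn, rfl⟩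
      rw [s.ρπ]
      congr 1
      apply Subtype.ext
      have h1 : (a : G) * n = n * a :=
        comm_of_le_centralizer (conj_le_centralizer h.comm) ha (conjE_le_conjV _ hn)
      change (a : G) * n * (a : G)⁻¹ = n
      rw [h1, mul_inv_cancel_right]
    into := by
      rintro i _ ⟨a, ha, rfl⟩ m
      obtain ⟨n, rfl⟩ := s.surj m
      rw [s.ρπ, ← map_inv, ← map_mul]
      rw [s.mem_B (hFB _ (hgood i).gX)]
      exact h.comm_conjVW (hgood i).gX ha (hXW n.2)
    free := by
      rintro i _ ⟨a, ha, rfl⟩ hne m hm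
      obtain ⟨n, rfl⟩ := s.surj m
      rw [s.mem_B (hFB _ (hgood i).gX)]
      refine (hgood i).reg n n.2 a ha (fun h1 => hne ((hA1 i a ha).2 h1)) ?_
      rw [s.ρπ, s.π_eq_iff] at hm
      have h1 := norm_mem (X_norm_F (W_le_X (hXW n.2))) (inv_mem hm)
      have e : (n : G) * (((⟨a * n * (a : G)⁻¹, s.nN a a.2 n n.2⟩ : ↥(EX V F x)) : G)⁻¹ * (n : G))⁻¹ *
          (n : G)⁻¹ = c (a : G) n := by
        change (n : G) * (((a : G) * n * (a : G)⁻¹)⁻¹ * (n : G))⁻¹ * (n : G)⁻¹ = _
        rw [c]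
        group
      rwa [e] at h1
    spread := by
      intro i j y hy
      obtain ⟨l, rfl⟩ := hL y hy
      rw [s.B_map, conj_conj]
      rcases h.dich hx (hgl l i) (hgood j) with ⟨h1, -⟩ | ⟨-, h1⟩
      · left; rw [h1]
      · right
        rw [s.B_inf (hFB _ (hgood j).gX), h1, s.B_D]
    stab := by
      intro i j y hy hB
      obtain ⟨l, rfl⟩ := hL y hy
      change (s.B _).map _ = s.B _ at hB
      rw [s.B_map, conj_conj] at hB
      rw [s.A_map, conj_conj]
      have h1 := s.B_inj (hFB _ (hgl l i).gX) (hgl l i).le (hFB _ (hgood j).gX) (hgood j).le hB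
      exact le_antisymm (h.A_eq hx (hgl l i) (hgood j) h1 hF0 s)
        (h.A_eq hx (hgood j) (hgl l i) h1.symm hF0 s) }

end Hyp

end Cfsg.Agent.Omega.NOne.Flat
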