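import Cfsg.Agent.Omega.NOne.Flat.Off
import Cfsg.Agent.Omega.NOne.Flat.Conj
import Cfsg.Agent.Omega.NOne.Flat.Field1

/-!
# THEOREM SZ (#19896, helper406), section (2) KILL and section (3) (R+)

`Hyp V F`; `R ≤ N(V) ∩ C(F)`, `W ≤ R`, `[V, R] ≤ E`; `K / F = C_{E/F}(R) = [E/F, R]`, `|E : F| = |K : F|²`,
`|R : C_R(E/F)| ≥ |V : E|`.  Then `A = {r ∈ R | [V, r] ≤ K, [K, r] = 1}` is an offender in module form.
-/

set_option autoImplicit false

namespace Cfsg.Agent.Omega.NOne.Flat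

open Subgroup Cfsg Cfsg.Agent.Omega.NoFF.Basic Cfsg.Agent.Omega.NOne.Frame
open Cfsg.Agent.Omega.NOne.NearFF (Near c c_def)
open Cfsg.Agent.ZN (o2)
open Cfsg.Agent.MinSimple.VModule
open Cfsg.Agent.Omega.FFThm (ElemM OffM)
open Off
open scoped Pointwise

universe u

variable {G : Type u} [Group G]

/-- The data of KILL; `D = C_R(E/F)`. -/
structure SzR (V F K R D : Subgroup G) : Prop where
  FK : F ≤ K
  KE : K ≤ EE V F
  idx : F.relIndex (EE V F) = F.relIndex K ^ 2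
  WR : WW V F ≤ R
  norm : R ≤ normalizer (V : Set G)
  cent : R ≤ centralizer (F : Set G)
  commV : ∀ r ∈ R, ∀ v ∈ V, c v r ∈ EE V F
  commK : ∀ r ∈ R, ∀ k ∈ K, c k r ∈ F
  fix : ∀ e ∈ EE V F, (∀ r ∈ R, c e r ∈ F) → e ∈ K
  gen : K ≤ F ⊔ closure {x | ∃ e ∈ EE V F, ∃ r ∈ R, c e r = x}
  memD : ∀ d, d ∈ D ↔ d ∈ R ∧ ∀ e ∈ EE V F, c e d ∈ F
  big : (EE V F).relIndex V ≤ D.relIndex R

/-- `NN = 1`: `[V, n] ≤ F`, `[E, n] = 1` implies `n ∈ C(V)`. -/
def NNOne (V F : Subgroup G) : Prop :=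
  ∀ n ∈ normalizer (V : Set G), (∀ v ∈ V, c v n ∈ F) → (∀ e ∈ EE V F, e * n = n * e) →
    n ∈ centralizer (V : Set G)

namespace Hyp

variable {V F K R D : Subgroup G} (h : Hyp V F)
include h

theorem NN_le_of_NNOne [Finite G] (hNN : NNOne V F) : NN V F ≤ centralizer (V : Set G) := by
  intro n hn
  exact hNN n (h.W_norm_V hn.1) (fun v hv => h.c_mem_F hv hn) fun e he => mem_centralizer_iff.1 hn.2 e he

end Hyp

namespace SzR

variable {V F K R D : Subgroup G} (z : SzR V F K R D)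
include z

theorem normW {r : G} (hr : r ∈ R) {s : G} (hs : s ∈ WW V F) : r * s * r⁻¹ ∈ WW V F :=
  Hyp.conj_mem_W (z.cent hr) hs

theorem normV {r : G} (hr : r ∈ R) {v : G} (hv : v ∈ V) : r * v * r⁻¹ ∈ V := norm_mem (z.norm hr) hv

theorem cF {r f : G} (hr : r ∈ R) (hf : f ∈ F) : r * f * r⁻¹ = f := by
  rw [← Hyp.F_comm hf (z.cent hr), mul_inv_cancel_right]

/-- `θ_v` is `R`-equivariant -/
theorem equiv [Finite G] (h : Hyp V F) {r s v : G} (hr : r ∈ R) (hs : s ∈ WW V F) (hv : v ∈ V) :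
    (r * c v s * r⁻¹)⁻¹ * c v (r * s * r⁻¹) ∈ F := by
  set e : G := c v⁻¹ r⁻¹ with he
  have heE : e ∈ EE V F := z.commV _ (inv_mem hr) _ (inv_mem hv)
  have h1 : r⁻¹ * v * r = v * e := by rw [he, c]; group
  have h2 : c v (r * s * r⁻¹) = r * c (r⁻¹ * v * r) s * r⁻¹ := by rw [c, c]; group
  have h3 := h.comm_EW heE hs
  rw [h2, h1, h.c_mul_left hv heE.1 hs]
  have h4 : (r * c v s * r⁻¹)⁻¹ * (r * (c v s * c e s) * r⁻¹) = r * c e s * r⁻¹ := by group
  rw [h4, z.cF hr h3]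
  exact h3

/-- `s ∈ B` commutes with `R` modulo `N`. -/
theorem comm_mod [Finite G] (h : Hyp V F) {a : G} (ha : a ∈ V) (haE : a ∉ EE V F) {s r : G}
    (hs : s ∈ WA V F a K) (hr : r ∈ R) : s⁻¹ * (r * s * r⁻¹) ∈ NN V F := by
  obtain ⟨hsW, hsK⟩ := (h.mem_WA ha z.FK).1 hs
  have h1 := z.equiv h hr hsW ha
  have h2 := z.commK r hr _ hsK
  rw [← h.c_mem_F_iff ha haE (mul_mem (inv_mem hsW) (z.normW hr hsW)), ← h.c_iff ha hsW (z.normW hr hsW)]
  have hcV := h.c_memV ha hsW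
  -- `(c a s)⁻¹ (r (c a s) r⁻¹) ∈ F`
  have h3 : (c a s)⁻¹ * (r * c a s * r⁻¹) ∈ F := by
    have h4 : (c a s)⁻¹ * (r * c a s * r⁻¹) = (c a s)⁻¹ * (c (c a s) r)⁻¹ * c a s := by
      rw [c_def (c a s)]; group
    rw [h4]
    have h5 : (c a s)⁻¹ * (c (c a s) r)⁻¹ = (c (c a s) r)⁻¹ * (c a s)⁻¹ :=
      h.V_comm (inv_mem hcV) (inv_mem (h.F_le_V h2))
    rw [h5, inv_mul_cancel_right]
    exact inv_mem h2
  have h4 := mul_mem h3 h1
  have e : (c a s)⁻¹ * (r * c a s * r⁻¹) * ((r * c a s * r⁻¹)⁻¹ * c a (r * s * r⁻¹)) =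
      (c a s)⁻¹ * c a (r * s * r⁻¹) := by group
  rwa [e] at h4

/-- `[v, s] ∈ K` for all `v ∈ V`, `s ∈ B`. -/
theorem memK [Finite G] (h : Hyp V F) {a : G} (ha : a ∈ V) (haE : a ∉ EE V F) {s v : G}
    (hs : s ∈ WA V F a K) (hv : v ∈ V) : c v s ∈ K := by
  have hsW : s ∈ WW V F := ((h.mem_WA ha z.FK).1 hs).1
  refine z.fix _ (h.c_memE hv hsW) fun r hr => ?_
  have h1 := z.comm_mod h ha haE hs hr
  have h2 := h.c_mem_F hv h1
  rw [← h.c_iff hv hsW (z.normW hr hsW)] at h2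
  have h3 := z.equiv h hr hsW hv
  have hcV := h.c_memV hv hsW
  have h4 := mul_mem h2 (inv_mem h3)
  have e1 : (c v s)⁻¹ * c v (r * s * r⁻¹) * ((r * c v s * r⁻¹)⁻¹ * c v (r * s * r⁻¹))⁻¹ =
      (c v s)⁻¹ * (r * c v s * r⁻¹) := by group
  rw [e1] at h4
  have h5 : c (c v s) r = (r * c v s * r⁻¹)⁻¹ * c v s := by
    have h6 : c (c v s) r = c v s * (r * c v s * r⁻¹)⁻¹ := by rw [c_def (c v s)]; group
    rw [h6]
    exact h.V_comm hcV (inv_mem (z.normV hr hcV))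
  rw [h5]
  have := inv_mem h4
  rwa [mul_inv_rev, inv_inv] at this

/-- `[K, B] = 1` -/
theorem comm_KB [Finite G] (h : Hyp V F) {a : G} (ha : a ∈ V) (haE : a ∉ EE V F) {s k : G}
    (hs : s ∈ WA V F a K) (hk : k ∈ K) : k * s = s * k := by
  have hsW : s ∈ WW V F := ((h.mem_WA ha z.FK).1 hs).1
  have hle : K ≤ centralizer {s} := by
    refine z.gen.trans (sup_le (fun f hf => ?_) ((closure_le _).2 ?_))
    · rw [mem_centralizer_singleton_iff]
      exact Hyp.F_comm hf (Hyp.W_le_X hsW)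
    · rintro x ⟨e, he, r, hr, rfl⟩
      rw [SetLike.mem_coe, mem_centralizer_singleton_iff, ← c_eq_one]
      have hr' := inv_mem hr
      have hs' : r⁻¹ * s * r ∈ WW V F := by
        have := z.normW hr' hsW
        rwa [inv_inv] at this
      have h1 : s⁻¹ * (r⁻¹ * s * r) ∈ NN V F := by
        have := z.comm_mod h ha haE hs hr'
        rwa [inv_inv] at this
      have h2 : c e s = c e (r⁻¹ * s * r) := h.c_congr_right he hsW hs' h1
      have h3 : c (r * e * r⁻¹) s = c e s := by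
        have h4 : c (r * e * r⁻¹) s = r * c e (r⁻¹ * s * r) * r⁻¹ := by rw [c, c]; group
        rw [h4, ← h2, z.cF hr (h.comm_EW he hsW)]
      have h5 : c e r = e * (r * e * r⁻¹)⁻¹ := by rw [c]; group
      have h6 : r * e * r⁻¹ ∈ V := z.normV hr he.1
      rw [h5, h.c_mul_left he.1 (inv_mem h6) hsW, h.c_inv_left h6 hsW, h3, mul_inv_cancel]
  exact mem_centralizer_singleton_iff.1 (hle hk)

/-- `C_E(B) = K` -/
theorem cent_B [Finite G] (h : Hyp V F) (hmu : F.relIndex K ≤ (centralizer (K : Set G)).relIndex (WW V F))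
    {a : G} (ha : a ∈ V) (haE : a ∉ EE V F) : EE V F ⊓ centralizer (WA V F a K : Set G) = K := by
  have hle : K ≤ EE V F ⊓ centralizer (WA V F a K : Set G) := by
    refine le_inf z.KE fun k hk => ?_
    rw [mem_centralizer_iff]
    exact fun s hs => (z.comm_KB h ha haE hs hk).symm
  symm
  refine Hyp.eq_of_relIndex z.FK h.F_le_cent_WA hle ?_
  have h1 := h.relIndex_cent' ha haE z.FK z.KE
  have h2 := relIndex_mul_relIndex (NN V F) (WW V F ⊓ centralizer (K : Set G)) (WW V F)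
    (Hyp.NN_le_cent_E0 z.KE) inf_le_left
  rw [inf_relIndex_left, h1, h.relIndex_NN, z.idx] at h2
  set p := F.relIndex K
  set m := F.relIndex (EE V F ⊓ centralizer (WA V F a K : Set G))
  have hm : p ≤ m := by
    have h3 := relIndex_mul_relIndex F K (EE V F ⊓ centralizer (WA V F a K : Set G)) z.FK hle
    have h4 : K.relIndex (EE V F ⊓ centralizer (WA V F a K : Set G)) ≠ 0 := index_ne_zero_of_finite
    have h5 : 1 ≤ K.relIndex (EE V F ⊓ centralizer (WA V F a K : Set G)) := Nat.one_le_iff_ne_zero.2 h4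
    calc p = p * 1 := (mul_one p).symm
      _ ≤ p * K.relIndex (EE V F ⊓ centralizer (WA V F a K : Set G)) := Nat.mul_le_mul_left _ h5
      _ = m := h3
  have hp : 0 < p := Nat.pos_of_ne_zero index_ne_zero_of_finite
  have h6 : m * p ≤ p * p := by
    calc m * p ≤ m * (centralizer (K : Set G)).relIndex (WW V F) := Nat.mul_le_mul_left _ hmu
      _ = p ^ 2 := h2
      _ = p * p := pow_two p
  exact le_antisymm (Nat.le_of_mul_le_mul_right h6 hp) hm

end SzR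

/-- the offender `A = {r ∈ R | [V, r] ≤ K, [K, r] = 1}` -/
def AO (V K R : Subgroup G) : Subgroup G where
  carrier := {r | r ∈ R ∧ (∀ v ∈ V, c v r ∈ K) ∧ ∀ k ∈ K, k * r = r * k}
  one_mem' := by
    refine ⟨one_mem _, fun v _ => ?_, fun k _ => by rw [mul_one, one_mul]⟩
    rw [Hyp.c_one_right]
    exact one_mem _
  mul_mem' := by
    rintro r r' ⟨hr, h1, h2⟩ ⟨hr', h1', h2'⟩
    refine ⟨mul_mem hr hr', fun v hv => ?_, fun k hk => ?_⟩
    · have e : c v (r * r') = c v r * (r * c v r' * r⁻¹) := by rw [c, c, c]; group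
      rw [e, ← h2 _ (h1' v hv), mul_inv_cancel_right]
      exact mul_mem (h1 v hv) (h1' v hv)
    · rw [← mul_assoc, h2 k hk, mul_assoc, h2' k hk, mul_assoc]
  inv_mem' := by
    rintro r ⟨hr, h1, h2⟩
    have h3 : ∀ k ∈ K, k * r⁻¹ = r⁻¹ * k := fun k hk => by
      calc k * r⁻¹ = r⁻¹ * (r * k) * r⁻¹ := by group
        _ = r⁻¹ * (k * r) * r⁻¹ := by rw [h2 k hk]
        _ = r⁻¹ * k := by group
    refine ⟨inv_mem hr, fun v hv => ?_, h3⟩
    have e : c v r⁻¹ = r⁻¹ * (c v r)⁻¹ * r := by rw [c, c]; group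
    rw [e, ← h3 _ (inv_mem (h1 v hv)), inv_mul_cancel_right]
    exact inv_mem (h1 v hv)

theorem mem_AO {V K R : Subgroup G} {r : G} :
    r ∈ AO V K R ↔ r ∈ R ∧ (∀ v ∈ V, c v r ∈ K) ∧ ∀ k ∈ K, k * r = r * k := Iff.rfl

namespace SzR

variable {V F K R D : Subgroup G} (z : SzR V F K R D)
include z

/-- `r ∈ R`, `[a, r] ∈ F` for one `a ∈ V - E` implies `r ∈ A`. -/
theorem mem_AO_of [Finite G] (h : Hyp V F) (hNN : NNOne V F)
    (hmu : F.relIndex K ≤ (centralizer (K : Set G)).relIndex (WW V F))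
    {a r : G} (ha : a ∈ V) (haE : a ∉ EE V F) (hr : r ∈ R) (hf : c a r ∈ F) : r ∈ AO V K R := by
  have hcN : ∀ b ∈ WA V F a K, b⁻¹ * (r * b * r⁻¹) ∈ centralizer (V : Set G) := fun b hb =>
    h.NN_le_of_NNOne hNN (z.comm_mod h ha haE hb hr)
  have key : ∀ v ∈ V, ∀ b ∈ WA V F a K, r * c v b * r⁻¹ = c (r * v * r⁻¹) b := by
    intro v hv b hb
    set n : G := b⁻¹ * (r * b * r⁻¹) with hn
    have h1 : r * c v b * r⁻¹ = c (r * v * r⁻¹) (b * n) := by
      rw [hn, c, c]; group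
    have h2 : (r * v * r⁻¹)⁻¹ * n = n * (r * v * r⁻¹)⁻¹ :=
      mem_centralizer_iff.1 (hcN b hb) _ (inv_mem (z.normV hr hv))
    rw [h1, c, c]
    calc r * v * r⁻¹ * (b * n) * (r * v * r⁻¹)⁻¹ * (b * n)⁻¹
        = r * v * r⁻¹ * b * (n * (r * v * r⁻¹)⁻¹) * n⁻¹ * b⁻¹ := by group
      _ = r * v * r⁻¹ * b * (r * v * r⁻¹)⁻¹ * b⁻¹ := by rw [← h2]; group
  have hK : ∀ k ∈ K, k * r = r * k := by
    intro k hk
    obtain ⟨b, hb, hbk⟩ := h.exists_WA ha haE z.FK z.KE hk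
    have hbW := Hyp.WA_le_W hb
    have h1 := key a ha b hb
    have h2 : r * a * r⁻¹ = (c a r)⁻¹ * a := by rw [c]; group
    rw [h2, h.c_mul_left (inv_mem (h.F_le_V hf)) ha hbW, Hyp.c_F (inv_mem hf) hbW, one_mul] at h1
    -- `k = (c a b k⁻¹)⁻¹ c a b`
    have h3 := z.cF hr (inv_mem hbk)
    have e1 : k = (c a b * k⁻¹)⁻¹ * c a b := by group
    have h4 : r * k * r⁻¹ = k := by
      calc r * k * r⁻¹ = (r * (c a b * k⁻¹)⁻¹ * r⁻¹) * (r * c a b * r⁻¹) := by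
            conv_lhs => rw [e1]
            group
        _ = k := by rw [h3, h1, ← e1]
    calc k * r = r * k * r⁻¹ * r := by rw [h4]
      _ = r * k := by group
  refine ⟨hr, fun v hv => ?_, hK⟩
  have heE := z.commV r hr v hv
  rw [← z.cent_B h hmu ha haE]
  refine mem_inf.2 ⟨heE, ?_⟩
  rw [mem_centralizer_iff]
  intro b hb
  have hbW := Hyp.WA_le_W hb
  have h1 := key v hv b hb
  have h2 : r * v * r⁻¹ = (c v r)⁻¹ * v := by rw [c]; group
  have h3 : r * c v b * r⁻¹ = c v b := by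
    rw [← hK _ (z.memK h ha haE hb hv), mul_inv_cancel_right]
  rw [h3, h2, h.c_mul_left (inv_mem heE.1) hv hbW, h.c_inv_left heE.1 hbW] at h1
  have h4 : c (c v r) b = 1 := by
    have h5 : (c (c v r) b)⁻¹ = 1 := by
      have := congrArg (fun t => t * (c v b)⁻¹) h1
      simp only [mul_inv_cancel, mul_inv_cancel_right] at this
      exact this.symm
    rw [← inv_inv (c (c v r) b), h5, inv_one]
  exact (c_eq_one.1 h4).symm

/-- `R = W A` -/
theorem trick [Finite G] (h : Hyp V F) (hNN : NNOne V F)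
    (hmu : F.relIndex K ≤ (centralizer (K : Set G)).relIndex (WW V F)) {r : G} (hr : r ∈ R) :
    ∃ s ∈ WW V F, s⁻¹ * r ∈ AO V K R := by
  obtain ⟨a, ha, haE⟩ := h.exists_not_mem
  have he := z.commV r hr a ha
  obtain ⟨s, hs, hse⟩ := h.surj ha haE he
  refine ⟨s, hs, z.mem_AO_of h hNN hmu ha haE (mul_mem (inv_mem (z.WR hs)) hr) ?_⟩
  have h1 : c a (s⁻¹ * r) = c a s⁻¹ * c a s * ((c a s)⁻¹ * c a r) * c (c a r)⁻¹ s⁻¹ := by
    simp only [c]; group
  rw [h1]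
  exact mul_mem (mul_mem (h.c_inv_mem ha hs) (h.inv_mul_mem (h.c_memV ha hs) he.1 hse))
    (h.comm_EW (inv_mem he) (inv_mem hs))

theorem WA_le_AO [Finite G] (h : Hyp V F) {a : G} (ha : a ∈ V) (haE : a ∉ EE V F) :
    WA V F a K ≤ AO V K R := fun _ hb =>
  ⟨z.WR (Hyp.WA_le_W hb), fun _ hv => z.memK h ha haE hb hv, fun _ hk => z.comm_KB h ha haE hb hk⟩

/-- **THEOREM SZ, KILL** -/
theorem kill [Finite G] (h : Hyp V F) (hNN : NNOne V F)
    (hmu : F.relIndex K ≤ (centralizer (K : Set G)).relIndex (WW V F))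
    (hoff : ∀ A : Subgroup G, A ≤ normalizer (V : Set G) → ¬ OffM V A) : False := by
  obtain ⟨a, ha, haE⟩ := h.exists_not_mem
  have hKV : K ≤ V := z.KE.trans Hyp.E_le_V
  have hmul : ∀ v ∈ V, ∀ r ∈ AO V K R, ∀ r' ∈ AO V K R, c v (r * r') = c v r * c v r' := by
    intro v hv r hr r' hr'
    have e : c v (r * r') = c v r * (r * c v r' * r⁻¹) := by rw [c, c, c]; group
    rw [e, ← hr.2.2 _ (hr'.2.1 v hv), mul_inv_cancel_right]
  have hinv : ∀ v ∈ V, ∀ r ∈ AO V K R, c v r⁻¹ = (c v r)⁻¹ := by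
    intro v hv r hr
    have h1 := hmul v hv r hr r⁻¹ (inv_mem hr)
    rw [mul_inv_cancel, Hyp.c_one_right] at h1
    exact (inv_eq_of_mul_eq_one_right h1.symm).symm
  have hcen : ∀ r, (∀ v ∈ V, c v r = 1) → r ∈ centralizer (V : Set G) := fun r hr => by
    rw [mem_centralizer_iff]
    exact fun v hv => c_eq_one.1 (hr v hv)
  -- the count
  have hB : WA V F a K ≤ AO V K R := z.WA_le_AO h ha haE
  have hWD : WW V F ≤ D := fun s hs => (z.memD s).2 ⟨z.WR hs, fun e he => h.comm_EW he hs⟩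
  have hN := h.NN_le_of_NNOne hNN
  have k1 : (AO V K R ⊓ D).relIndex (AO V K R) = D.relIndex R := by
    have hc : Cos id (AO V K R) (AO V K R ⊓ D) R D :=
      { mem := fun r hr => hr.1
        iff := fun r hr r' hr' => ⟨fun h1 => mem_inf.2 ⟨mul_mem (inv_mem hr) hr', h1⟩, fun h1 => h1.2⟩ }
    refine hc.eq_of_surj fun r hr => ?_
    obtain ⟨s, hs, hsr⟩ := z.trick h hNN hmu hr
    refine ⟨s⁻¹ * r, hsr, ?_⟩
    have h1 := z.normW (inv_mem hsr.1) hs
    have e : (s⁻¹ * r)⁻¹ * s * (s⁻¹ * r)⁻¹⁻¹ = (s⁻¹ * r)⁻¹ * r := by group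
    rw [e] at h1
    exact hWD h1
  have k2 : AO V K R ⊓ centralizer (V : Set G) ≤ AO V K R ⊓ D := by
    intro r hr
    refine mem_inf.2 ⟨hr.1, (z.memD r).2 ⟨hr.1.1, fun e he => ?_⟩⟩
    rw [c_eq_one.2 (mem_centralizer_iff.1 hr.2 e he.1)]
    exact one_mem _
  have k3 : F.relIndex K ≤ (AO V K R ⊓ centralizer (V : Set G)).relIndex (AO V K R ⊓ D) := by
    have h1 : WA V F a K ⊓ (AO V K R ⊓ centralizer (V : Set G)) = NN V F := by
      apply le_antisymm
      · intro b hb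
        exact mem_inf.2 ⟨Hyp.WA_le_W hb.1, centralizer_le Hyp.E_le_V hb.2.2⟩
      · intro n hn
        have h2 := h.NN_le_WA ha z.FK hn
        exact mem_inf.2 ⟨h2, mem_inf.2 ⟨hB h2, hN hn⟩⟩
    have h2 : WA V F a K ≤ AO V K R ⊓ D := le_inf hB (Hyp.WA_le_W.trans hWD)
    rw [← h.relIndex_WA ha haE z.FK z.KE, ← h1, inf_relIndex_left]
    exact relIndex_le_of_le_right h2 index_ne_zero_of_finite
  have k4 : F.relIndex K = K.relIndex (EE V F) := by
    have h1 := relIndex_mul_relIndex F K (EE V F) z.FK z.KE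
    rw [z.idx, pow_two] at h1
    exact (Nat.eq_of_mul_eq_mul_left (Nat.pos_of_ne_zero index_ne_zero_of_finite) h1).symm
  have k5 : K.relIndex V ≤ (centralizer (V : Set G)).relIndex (AO V K R) := by
    rw [← relIndex_mul_relIndex K (EE V F) V z.KE Hyp.E_le_V, ← inf_relIndex_left (AO V K R),
      ← relIndex_mul_relIndex _ _ _ k2 inf_le_left, k1, ← k4]
    exact Nat.mul_le_mul k3 z.big
  have k6 : (centralizer (AO V K R : Set G)).relIndex V ≤ K.relIndex V := by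
    refine relIndex_le_of_le_left (fun k hk => ?_) index_ne_zero_of_finite
    rw [mem_centralizer_iff]
    exact fun r hr => (hr.2.2 k hk).symm
  refine hoff (AO V K R) (fun r hr => z.norm hr.1)
    ⟨⟨fun r hr => hcen _ fun v hv => ?_, fun r hr r' hr' => hcen _ fun v hv => ?_⟩, fun hle => ?_, ?_⟩
  · rw [pow_two, hmul v hv r hr r hr]
    exact h.sq' (hKV (hr.2.1 v hv))
  · rw [hmul v hv _ (mul_mem (mul_mem hr hr') (inv_mem hr)) _ (inv_mem hr'),
      hmul v hv _ (mul_mem hr hr') _ (inv_mem hr), hmul v hv r hr r' hr', hinv v hv r hr, hinv v hv r' hr',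
      h.V_comm (hKV (hr.2.1 v hv)) (hKV (hr'.2.1 v hv))]
    group
  · have h1 : (centralizer (V : Set G)).relIndex (AO V K R) = 1 := relIndex_eq_one.2 hle
    have h2 := relIndex_mul_relIndex K (EE V F) V z.KE Hyp.E_le_V
    have h3 := h.one_lt_relIndex
    have h4 : K.relIndex (EE V F) ≠ 0 := index_ne_zero_of_finite
    rw [h1, ← h2] at k5
    have h5 : (EE V F).relIndex V ≤ K.relIndex (EE V F) * (EE V F).relIndex V :=
      Nat.le_mul_of_pos_left _ (Nat.pos_of_ne_zero h4)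
    omega
  · rw [FFThm.relIndex_le_iff]
    exact k6.trans k5

end SzR

end Cfsg.Agent.Omega.NOne.Flat
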