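import Cfsg.Agent.Omega.NOne.NearFF
import Cfsg.Agent.Omega.BTwo.Pair

/-!
# THEOREM FLAT (text B4 #15506, helper527), part 1: (1)-(5)

`V` elementary abelian, `O₂(C_G(D)) ≤ N_G(V)` for `1 ≠ D ≤ V`, no offender on `V`;
`F` a maximal member of `BAD = {1 ≠ F ≤ V | V ≰ O₂(C_G(F))}`, `X = C_G(F)`, `R = O₂(X)`, `E = V ∩ R`,
`W = ⟨E^X⟩`.  Commutators are `[w, s] = w s w⁻¹ s⁻¹` (`NearFF.c`).
-/

set_option autoImplicit false

namespace Cfsg.Agent.Omega.NOne.Flat

open Subgroup Cfsg Cfsg.Agent.Omega.NoFF.Basic Cfsg.Agent.Omega.NOne.Frame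
open Cfsg.Agent.Omega.NOne.NearFF (Near c c_def)
open Cfsg.Agent.ZN (o2)
open Cfsg.Agent.MinSimple.VModule
open scoped Pointwise

universe u

variable {G : Type u} [Group G]

/-- `F` is bad for `V`: `1 ≠ F ≤ V`, `V ≰ O₂(C_G(F))`. -/
structure Bad (V F : Subgroup G) : Prop where
  ne : F ≠ ⊥
  le : F ≤ V
  not_le : ¬ V ≤ o2 (centralizer (F : Set G))

/-- The hypotheses of THEOREM FLAT. -/
structure Hyp (V F : Subgroup G) : Prop where
  comm : V ≤ centralizer (V : Set G)
  sq : ∀ w ∈ V, w ^ 2 = 1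
  /-- (i) -/
  syl : ∀ D : Subgroup G, D ≠ ⊥ → D ≤ V → o2 (centralizer (D : Set G)) ≤ normalizer (V : Set G)
  /-- (ii) -/
  noff : ∀ A : Subgroup G, A ≤ normalizer (V : Set G) → A ≤ centralizer (A : Set G) →
    (∀ a ∈ A, a ^ 2 = 1) → ¬ A ≤ centralizer (V : Set G) →
    Nat.card A * Nat.card ↥(V ⊓ centralizer (A : Set G)) <
      Nat.card V * Nat.card ↥(A ⊓ centralizer (V : Set G))
  char2 : centralizer (F : Set G) ⊓ centralizer (o2 (centralizer (F : Set G)) : Set G) ≤
    o2 (centralizer (F : Set G))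
  bad : Bad V F
  max : ∀ D : Subgroup G, Bad V D → F ≤ D → D = F

/-- `E = V ∩ O₂(C_G(F))` -/
abbrev EE (V F : Subgroup G) : Subgroup G := V ⊓ o2 (centralizer (F : Set G))

/-- `W = ⟨E^X⟩`, `X = C_G(F)` -/
abbrev WW (V F : Subgroup G) : Subgroup G := NoFF.Basic.V (EE V F) (centralizer (F : Set G))

/-- `x` is bad: `⟨V, V^x⟩` is not a 2-group. -/
def BadX (V : Subgroup G) (x : G) : Prop := ¬ IsPGroup 2 (V ⊔ MulAut.conj x • V : Subgroup G)

theorem o2_conj (g : G) (H : Subgroup G) : MulAut.conj g • o2 H = o2 (MulAut.conj g • H) :=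
  (ZN.o2_map (MulAut.conj g).toMonoidHom (MulAut.conj g).injective H).symm

theorem conj_centralizer (g : G) (H : Subgroup G) :
    MulAut.conj g • centralizer (H : Set G) = centralizer ((MulAut.conj g • H : Subgroup G) : Set G) := by
  apply le_antisymm
  · exact conj_le_centralizer le_rfl
  · have h1 : MulAut.conj g⁻¹ • centralizer ((MulAut.conj g • H : Subgroup G) : Set G) ≤
        centralizer ((MulAut.conj g⁻¹ • (MulAut.conj g • H) : Subgroup G) : Set G) :=
      conj_le_centralizer le_rfl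
    rw [conj_conj, inv_mul_cancel, map_one, one_smul] at h1
    have h2 := conj_le_iff (g := g) |>.2 h1
    rwa [conj_conj, mul_inv_cancel, map_one, one_smul] at h2

/-- A subgroup centralised by `x` is fixed by `x`. -/
theorem conj_eq_of_cent {x : G} {F : Subgroup G} (hx : x ∈ centralizer (F : Set G)) :
    MulAut.conj x • F = F := by
  ext y
  rw [mem_conj]
  constructor
  · intro h
    have h1 := mem_centralizer_iff.1 hx _ h
    have e : x⁻¹ * y * x = y := by
      have : x⁻¹ * y * x * x = x * (x⁻¹ * y * x) := h1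
      have h2 : y * x = x * (x⁻¹ * y * x) := by group
      have h3 : x⁻¹ * y * x * x = y * x := by rw [this, h2]
      exact mul_right_cancel h3
    rwa [e] at h
  · intro h
    have h1 := mem_centralizer_iff.1 hx y h
    have e : x⁻¹ * y * x = y := by rw [mul_assoc, h1, inv_mul_cancel_left]
    rwa [e]

namespace Hyp

variable {V F : Subgroup G} (h : Hyp V F)
include h

theorem F_le_V : F ≤ V := h.bad.le

theorem inv {w : G} (hw : w ∈ V) : w⁻¹ = w := by
  have := h.sq w hw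
  rw [pow_two] at this
  exact inv_eq_of_mul_eq_one_left this

theorem sq' {w : G} (hw : w ∈ V) : w * w = 1 := by
  have := h.sq w hw
  rwa [pow_two] at this

theorem V_comm {x y : G} (hx : x ∈ V) (hy : y ∈ V) : x * y = y * x :=
  comm_of_le_centralizer h.comm hx hy

/-- `V ≤ X` -/
theorem V_le_X : V ≤ centralizer (F : Set G) := comm_mono h.comm le_rfl h.F_le_V

theorem V_norm_R : V ≤ normalizer (o2 (centralizer (F : Set G)) : Set G) :=
  h.V_le_X.trans (le_normalizer_o2 _)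

theorem R_norm_V : o2 (centralizer (F : Set G)) ≤ normalizer (V : Set G) :=
  h.syl F h.bad.ne h.F_le_V

omit h in
/-- elements of `F` commute with elements of `X` -/
theorem F_comm {f x : G} (hf : f ∈ F) (hx : x ∈ centralizer (F : Set G)) : f * x = x * f :=
  mem_centralizer_iff.1 hx f hf

omit h in
theorem R_le_X : o2 (centralizer (F : Set G)) ≤ centralizer (F : Set G) := ZN.o2_le _

theorem V_isPGroup : IsPGroup 2 V := by
  rintro ⟨w, hw⟩
  exact ⟨1, Subtype.ext (by simpa using h.sq w hw)⟩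

theorem F_le_R : F ≤ o2 (centralizer (F : Set G)) := by
  refine le_o2 (h.F_le_V.trans h.V_le_X) (h.V_isPGroup.to_le h.F_le_V) ?_
  exact centralizer_le_normalizer _

theorem F_le_E : F ≤ EE V F := le_inf h.F_le_V h.F_le_R

/-- `[V, R] ≤ E` -/
theorem comm_VR {v r : G} (hv : v ∈ V) (hr : r ∈ o2 (centralizer (F : Set G))) : c v r ∈ EE V F :=
  comm_mem_inf h.V_norm_R h.R_norm_V hv hr

/-- **(1)** `F < E`. -/
theorem E_ne_F : EE V F ≠ F := by
  intro hEF
  -- the group of elements acting trivially on `R / F`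
  have hX : centralizer (F : Set G) ≤ normalizer (F : Set G) := centralizer_le_normalizer _
  let K : Subgroup G := stab (centralizer (F : Set G)) (o2 (centralizer (F : Set G))) F hX
  have hKX : K ≤ centralizer (F : Set G) := fun x hx => hx.1
  have hVK : V ≤ K := by
    intro v hv
    refine ⟨h.V_le_X hv, fun r hr => ?_⟩
    have := h.comm_VR hv hr
    rwa [hEF] at this
  have hKn : centralizer (F : Set G) ≤ normalizer (K : Set G) := by
    have key : ∀ x ∈ centralizer (F : Set G), ∀ k ∈ K, x * k * x⁻¹ ∈ K := by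
      intro x hx k hk
      refine ⟨mul_mem (mul_mem hx hk.1) (inv_mem hx), fun r hr => ?_⟩
      have h1 : x⁻¹ * r * x ∈ o2 (centralizer (F : Set G)) := norm_mem' (le_normalizer_o2 _ hx) hr
      have h2 := hk.2 _ h1
      have h3 : x * (k * (x⁻¹ * r * x) * k⁻¹ * (x⁻¹ * r * x)⁻¹) * x⁻¹ ∈ F := norm_mem (hX hx) h2
      have e : x * (k * (x⁻¹ * r * x) * k⁻¹ * (x⁻¹ * r * x)⁻¹) * x⁻¹ =
          x * k * x⁻¹ * r * (x * k * x⁻¹)⁻¹ * r⁻¹ := by group
      rwa [e] at h3
    intro x hx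
    rw [mem_normalizer_iff]
    intro k
    refine ⟨key x hx k, fun hk => ?_⟩
    have h1 := key x⁻¹ (inv_mem hx) _ hk
    have e : x⁻¹ * (x * k * x⁻¹) * x⁻¹⁻¹ = k := by group
    rwa [e] at h1
  -- `K` is a 2-group
  have hK2 : IsPGroup 2 K := by
    rintro ⟨k, hk⟩
    -- `k² ∈ C_X(R) ≤ R`
    have h1 : k ^ 2 ∈ o2 (centralizer (F : Set G)) := by
      refine h.char2 (mem_inf.2 ⟨pow_mem hk.1 2, ?_⟩)
      rw [mem_centralizer_iff]
      intro r hr
      have h2 := hk.2 r hr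
      set d := k * r * k⁻¹ * r⁻¹ with hd
      have h3 : d * k = k * d := F_comm h2 hk.1
      have h4 : d * d = 1 := h.sq' (h.F_le_V h2)
      have h5 : k * r * k⁻¹ = d * r := by rw [hd]; group
      have h6 : k ^ 2 * r * (k ^ 2)⁻¹ = r := by
        calc k ^ 2 * r * (k ^ 2)⁻¹ = k * (k * r * k⁻¹) * k⁻¹ := by rw [pow_two]; group
          _ = k * (d * r) * k⁻¹ := by rw [h5]
          _ = d * k * r * k⁻¹ := by rw [h3]; group
          _ = d * (k * r * k⁻¹) := by group
          _ = d * d * r := by rw [h5]; group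
          _ = r := by rw [h4, one_mul]
      calc r * k ^ 2 = (k ^ 2 * r * (k ^ 2)⁻¹) * k ^ 2 := by rw [h6]
        _ = k ^ 2 * r := by group
    obtain ⟨n, hn⟩ := ZN.isPGroup_o2 (centralizer (F : Set G)) ⟨k ^ 2, h1⟩
    refine ⟨n + 1, Subtype.ext ?_⟩
    have h2 : (k ^ 2) ^ 2 ^ n = 1 := congrArg Subtype.val hn
    change k ^ 2 ^ (n + 1) = 1
    rw [pow_succ, mul_comm, pow_mul]
    exact h2
  exact h.bad.not_le (hVK.trans (le_o2 hKX hK2 hKn))

theorem F_lt_E : F < EE V F := lt_of_le_of_ne h.F_le_E (Ne.symm h.E_ne_F)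

/-! ### conjugates -/

/-- The hypotheses for `V^x`. -/
theorem syl_conj (x : G) (D : Subgroup G) (hD : D ≠ ⊥) (hDV : D ≤ MulAut.conj x • V) :
    o2 (centralizer (D : Set G)) ≤ normalizer ((MulAut.conj x • V : Subgroup G) : Set G) := by
  have h1 : MulAut.conj x⁻¹ • D ≤ V := by
    have := conj_le_iff (g := x⁻¹) |>.2 hDV
    rwa [conj_conj, inv_mul_cancel, map_one, one_smul] at this
  have h2 : MulAut.conj x⁻¹ • D ≠ ⊥ := by
    intro h0
    apply hD
    have := congrArg (fun A : Subgroup G => MulAut.conj x • A) h0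
    simp only [conj_conj, mul_inv_cancel, map_one, one_smul, Subgroup.smul_bot] at this
    exact this
  have h3 := h.syl _ h2 h1
  rw [← conj_centralizer, ← o2_conj] at h3
  intro r hr
  have h4 : x⁻¹ * r * x ∈ normalizer (V : Set G) := by
    apply h3
    rw [mem_conj]
    have e : x⁻¹⁻¹ * (x⁻¹ * r * x) * x⁻¹ = r := by group
    rwa [e]
  rw [mem_normalizer_iff] at h4 ⊢
  intro y
  rw [mem_conj, mem_conj, h4]
  have e : x⁻¹ * r * x * (x⁻¹ * y * x) * (x⁻¹ * r * x)⁻¹ = x⁻¹ * (r * y * r⁻¹) * x := by group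
  rw [e]

/-- `D` with `F < D ≤ V` is good. -/
theorem le_o2_of_lt {D : Subgroup G} (hFD : F < D) (hD : D ≤ V) : V ≤ o2 (centralizer (D : Set G)) := by
  by_contra h1
  have h2 : Bad V D := ⟨fun h3 => h.bad.ne (le_bot_iff.1 (h3 ▸ hFD.le)), hD, h1⟩
  exact hFD.ne (h.max D h2 hFD.le).symm

/-- `D` with `F < D ≤ V^x`, `x ∈ X`, is good for `V^x`. -/
theorem le_o2_of_lt' {x : G} (hx : x ∈ centralizer (F : Set G)) {D : Subgroup G} (hFD : F < D)
    (hD : D ≤ MulAut.conj x • V) : MulAut.conj x • V ≤ o2 (centralizer (D : Set G)) := by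
  have h1 : MulAut.conj x⁻¹ • D ≤ V := by
    have := conj_le_iff (g := x⁻¹) |>.2 hD
    rwa [conj_conj, inv_mul_cancel, map_one, one_smul] at this
  have h2 : F < MulAut.conj x⁻¹ • D := by
    have h3 : MulAut.conj x⁻¹ • F = F := conj_eq_of_cent (inv_mem hx)
    rw [← h3]
    refine lt_of_le_of_ne (conj_le_iff.2 hFD.le) fun h4 => hFD.ne ?_
    have := congrArg (fun A : Subgroup G => MulAut.conj x • A) h4
    simpa only [conj_conj, mul_inv_cancel, map_one, one_smul] using this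
  have h3 := h.le_o2_of_lt h2 h1
  have h4 := conj_le_iff (g := x) |>.2 h3
  rw [o2_conj, conj_centralizer, conj_conj, mul_inv_cancel, map_one, one_smul] at h4
  exact h4

/-- **No two mutual noncommuting conjugates.** -/
theorem commute_of_mutual [Finite G] {x : G} (h1 : V ≤ normalizer ((MulAut.conj x • V : Subgroup G) : Set G))
    (h2 : MulAut.conj x • V ≤ normalizer (V : Set G)) : MulAut.conj x • V ≤ centralizer (V : Set G) := by
  by_contra hne
  set V' : Subgroup G := MulAut.conj x • V with hV'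
  have hc' : V' ≤ centralizer (V' : Set G) := conj_le_centralizer h.comm
  have hs' : ∀ a ∈ V', a ^ 2 = 1 := by
    intro a ha
    obtain ⟨y, hy, rfl⟩ := mem_conj'.1 ha
    rw [conj_pow, h.sq y hy, mul_one, mul_inv_cancel]
  have k1 := h.noff V' h2 hc' hs' hne
  -- the same for `x⁻¹`
  have e0 : MulAut.conj x⁻¹ • V' = V := by rw [hV', conj_conj, inv_mul_cancel, map_one, one_smul]
  set V₂ : Subgroup G := MulAut.conj x⁻¹ • V with hV₂
  have h3 : V₂ ≤ normalizer (V : Set G) := by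
    intro y hy
    rw [hV₂, mem_conj] at hy
    rw [inv_inv] at hy
    have h4 := h1 hy
    rw [mem_normalizer_iff] at h4 ⊢
    intro z
    have h5 := h4 (x * z * x⁻¹)
    rw [hV', mem_conj, mem_conj] at h5
    have e1 : x⁻¹ * (x * z * x⁻¹) * x = z := by group
    have e2 : x⁻¹ * (x * y * x⁻¹ * (x * z * x⁻¹) * (x * y * x⁻¹)⁻¹) * x = y * z * y⁻¹ := by group
    rwa [e1, e2] at h5
  have hc2 : V₂ ≤ centralizer (V₂ : Set G) := conj_le_centralizer h.comm
  have hs2 : ∀ a ∈ V₂, a ^ 2 = 1 := by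
    intro a ha
    obtain ⟨y, hy, rfl⟩ := mem_conj'.1 ha
    rw [conj_pow, h.sq y hy, mul_one, mul_inv_cancel]
  have hne2 : ¬ V₂ ≤ centralizer (V : Set G) := by
    intro h4
    have h5 := conj_le_centralizer (g := x) h4
    rw [hV₂, conj_conj, mul_inv_cancel, map_one, one_smul] at h5
    exact hne (comm_symm h5)
  have k2 := h.noff V₂ h3 hc2 hs2 hne2
  -- cardinalities
  have c1 : Nat.card V' = Nat.card V := Choice.card_conj x V
  have c2 : Nat.card V₂ = Nat.card V := Choice.card_conj x⁻¹ V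
  have c3 : Nat.card ↥(V ⊓ centralizer (V₂ : Set G)) = Nat.card ↥(V' ⊓ centralizer (V : Set G)) := by
    have e1 : MulAut.conj x • (V ⊓ centralizer (V₂ : Set G)) = V' ⊓ centralizer (V : Set G) := by
      rw [Subgroup.smul_inf, conj_centralizer, hV₂, conj_conj, mul_inv_cancel, map_one, one_smul]
    rw [← e1, Choice.card_conj]
  have c4 : Nat.card ↥(V₂ ⊓ centralizer (V : Set G)) = Nat.card ↥(V ⊓ centralizer (V' : Set G)) := by
    have e1 : MulAut.conj x • (V₂ ⊓ centralizer (V : Set G)) = V ⊓ centralizer (V' : Set G) := by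
      rw [Subgroup.smul_inf, conj_centralizer, hV₂, conj_conj, mul_inv_cancel, map_one, one_smul]
    rw [← e1, Choice.card_conj]
  rw [c1] at k1
  rw [c2, c3, c4] at k2
  have hp : 0 < Nat.card V := Nat.card_pos
  have k3 := Nat.lt_of_mul_lt_mul_left k1
  have k4 := Nat.lt_of_mul_lt_mul_left k2
  omega

/-- **(2)** `x ∈ X`, `V ∩ V^x > F` ⟹ `[V, V^x] = 1`. -/
theorem commute_of_lt [Finite G] {x : G} (hx : x ∈ centralizer (F : Set G)) (hlt : F < V ⊓ MulAut.conj x • V) :
    MulAut.conj x • V ≤ centralizer (V : Set G) := by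
  have hne : V ⊓ MulAut.conj x • V ≠ ⊥ := fun h0 => h.bad.ne (le_bot_iff.1 (h0 ▸ hlt.le))
  refine h.commute_of_mutual ?_ ?_
  · exact (h.le_o2_of_lt hlt inf_le_left).trans (h.syl_conj x _ hne inf_le_right)
  · exact (h.le_o2_of_lt' hx hlt inf_le_right).trans (h.syl _ hne inf_le_left)

theorem F_le_conj {x : G} (hx : x ∈ centralizer (F : Set G)) : F ≤ MulAut.conj x • V := by
  have := conj_le_iff (g := x) |>.2 h.F_le_V
  rwa [conj_eq_of_cent hx] at this

theorem F_le_inf {x : G} (hx : x ∈ centralizer (F : Set G)) : F ≤ V ⊓ MulAut.conj x • V :=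
  le_inf h.F_le_V (h.F_le_conj hx)

/-- **(2)** bad `x`: `V ∩ V^x = F`. -/
theorem inf_eq_of_bad [Finite G] {x : G} (hx : x ∈ centralizer (F : Set G)) (hb : BadX V x) :
    V ⊓ MulAut.conj x • V = F := by
  by_contra hne
  have h1 := h.commute_of_lt hx (lt_of_le_of_ne (h.F_le_inf hx) (Ne.symm hne))
  apply hb
  exact IsPGroup.to_sup_of_normal_right' h.V_isPGroup (Choice.isPGroup_conj h.V_isPGroup x)
    ((comm_symm h1).trans (centralizer_le_normalizer _))

/-! ### (3) -/

omit h in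
theorem E_le_R : EE V F ≤ o2 (centralizer (F : Set G)) := inf_le_right

omit h in
theorem E_le_V : EE V F ≤ V := inf_le_left

omit h in
theorem E_le_X : EE V F ≤ centralizer (F : Set G) := inf_le_right.trans R_le_X

omit h in
theorem conj_R {x : G} (hx : x ∈ centralizer (F : Set G)) :
    MulAut.conj x • o2 (centralizer (F : Set G)) = o2 (centralizer (F : Set G)) := by
  rw [o2_conj, conj_self hx]

omit h in
theorem conjE_le_R {x : G} (hx : x ∈ centralizer (F : Set G)) :
    MulAut.conj x • EE V F ≤ o2 (centralizer (F : Set G)) := by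
  have := conj_le_iff (g := x) |>.2 (inf_le_right : EE V F ≤ o2 (centralizer (F : Set G)))
  rwa [conj_R hx] at this

omit h in
theorem conjE_le_conjV (x : G) : MulAut.conj x • EE V F ≤ MulAut.conj x • V :=
  conj_le_iff.2 inf_le_left

omit h in
theorem conjE_eq {x : G} (hx : x ∈ centralizer (F : Set G)) :
    MulAut.conj x • EE V F = (MulAut.conj x • V) ⊓ o2 (centralizer (F : Set G)) := by
  rw [EE, Subgroup.smul_inf, conj_R hx]

theorem R_norm_conjV {x : G} (hx : x ∈ centralizer (F : Set G)) :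
    o2 (centralizer (F : Set G)) ≤ normalizer ((MulAut.conj x • V : Subgroup G) : Set G) :=
  h.syl_conj x F h.bad.ne (h.F_le_conj hx)

theorem conjV_norm_R {x : G} (hx : x ∈ centralizer (F : Set G)) :
    (MulAut.conj x • V : Subgroup G) ≤ normalizer (o2 (centralizer (F : Set G)) : Set G) :=
  (Choice.conj_le_of_mem h.V_le_X hx).trans (le_normalizer_o2 _)

/-- **(3)** `[E, E^x] ≤ F`. -/
theorem comm_EE [Finite G] {x : G} (hx : x ∈ centralizer (F : Set G)) {e f : G} (he : e ∈ EE V F)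
    (hf : f ∈ MulAut.conj x • EE V F) : c e f ∈ F := by
  have h1 : c e f ∈ EE V F := h.comm_VR he.1 (conjE_le_R hx hf)
  have h2 : c e f ∈ (MulAut.conj x • V : Subgroup G) := by
    have h3 := comm_mem_inf (h.conjV_norm_R hx) (h.R_norm_conjV hx) (conjE_le_conjV x hf) he.2
    have h4 : (f * e * f⁻¹ * e⁻¹)⁻¹ ∈ (MulAut.conj x • V : Subgroup G) := inv_mem (mem_inf.1 h3).1
    have e1 : (f * e * f⁻¹ * e⁻¹)⁻¹ = c e f := by rw [c]; group
    rwa [e1] at h4
  by_cases hlt : F < V ⊓ MulAut.conj x • V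
  · have h3 := h.commute_of_lt hx hlt
    have h4 : e * f = f * e := (comm_of_le_centralizer h3 (conjE_le_conjV x hf) he.1).symm
    rw [c, h4, mul_inv_cancel_right, mul_inv_cancel]
    exact one_mem _
  · have h3 : V ⊓ MulAut.conj x • V = F := by
      by_contra h4
      exact hlt (lt_of_le_of_ne (h.F_le_inf hx) (Ne.symm h4))
    rw [← h3]
    exact mem_inf.2 ⟨h1.1, h2⟩

omit h in
theorem E_le_W : EE V F ≤ WW V F := by
  have := Z_le_V (Z := EE V F) (P := centralizer (F : Set G)) (p := 1) (one_mem _)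
  rwa [map_one, one_smul] at this

omit h in
theorem conjE_le_W {x : G} (hx : x ∈ centralizer (F : Set G)) : MulAut.conj x • EE V F ≤ WW V F :=
  Z_le_V hx

omit h in
theorem W_le_R : WW V F ≤ o2 (centralizer (F : Set G)) := V_le fun _ hx => conjE_le_R hx

omit h in
theorem W_le_X : WW V F ≤ centralizer (F : Set G) := W_le_R.trans R_le_X

theorem W_norm_V : WW V F ≤ normalizer (V : Set G) := W_le_R.trans h.R_norm_V

omit h in
theorem conj_W {x : G} (hx : x ∈ centralizer (F : Set G)) : MulAut.conj x • WW V F = WW V F := by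
  have := conj_V_mul (Z := EE V F) (P := centralizer (F : Set G)) (g := 1) hx
  rwa [one_mul, map_one, one_smul] at this

omit h in
theorem conj_mem_W {x s : G} (hx : x ∈ centralizer (F : Set G)) (hs : s ∈ WW V F) :
    x * s * x⁻¹ ∈ WW V F := by
  have := Frame.conj_mem (g := x) hs
  rwa [conj_W hx] at this

omit h in
theorem X_norm_W : centralizer (F : Set G) ≤ normalizer (WW V F : Set G) := by
  intro x hx
  rw [mem_normalizer_iff]
  intro s
  refine ⟨fun hs => conj_mem_W hx hs, fun hs => ?_⟩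
  have := conj_mem_W (inv_mem hx) hs
  have e : x⁻¹ * (x * s * x⁻¹) * x⁻¹⁻¹ = s := by group
  rwa [e] at this

/-- `[V, W] ≤ E` -/
theorem comm_VW {v s : G} (hv : v ∈ V) (hs : s ∈ WW V F) : c v s ∈ EE V F := h.comm_VR hv (W_le_R hs)

omit h in
theorem X_norm_F : centralizer (F : Set G) ≤ normalizer (F : Set G) := centralizer_le_normalizer _

/-- `[E, W] ≤ F` -/
theorem comm_EW [Finite G] {e s : G} (he : e ∈ EE V F) (hs : s ∈ WW V F) : c e s ∈ F := by
  have h1 : WW V F ≤ stab (centralizer (F : Set G)) (EE V F) F X_norm_F := by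
    refine V_le fun x hx f hf => ⟨R_le_X (conjE_le_R hx hf), fun e he => ?_⟩
    have h2 := inv_mem (h.comm_EE hx he hf)
    have e1 : (c e f)⁻¹ = f * e * f⁻¹ * e⁻¹ := by rw [c]; group
    rwa [e1] at h2
  have h2 := inv_mem ((h1 hs).2 e he)
  have e1 : (s * e * s⁻¹ * e⁻¹)⁻¹ = c e s := by rw [c]; group
  rwa [e1] at h2

/-- `[W, W] ≤ F` -/
theorem comm_WW [Finite G] {s t : G} (hs : s ∈ WW V F) (ht : t ∈ WW V F) : c s t ∈ F := by
  have h1 : WW V F ≤ stab (centralizer (F : Set G)) (WW V F) F X_norm_F := by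
    refine V_le fun x hx f hf => ⟨R_le_X (conjE_le_R hx hf), fun s hs => ?_⟩
    obtain ⟨e, he, rfl⟩ := mem_conj'.1 hf
    have h2 : x⁻¹ * s * x ∈ WW V F := by
      have := conj_mem_W (inv_mem hx) hs
      rwa [inv_inv] at this
    have h3 := h.comm_EW he h2
    have h4 := norm_mem (X_norm_F hx) h3
    have e1 : x * c e (x⁻¹ * s * x) * x⁻¹ = x * e * x⁻¹ * s * (x * e * x⁻¹)⁻¹ * s⁻¹ := by
      rw [c]; group
    rwa [e1] at h4
  exact (h1 hs).2 t ht

/-- `s² ∈ F` for `s ∈ W` -/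
theorem sq_W [Finite G] {s : G} (hs : s ∈ WW V F) : s * s ∈ F := by
  let K : Subgroup G :=
    { carrier := {s | s ∈ WW V F ∧ s * s ∈ F}
      one_mem' := ⟨one_mem _, by rw [one_mul]; exact one_mem _⟩
      mul_mem' := by
        rintro s t ⟨hs, hs2⟩ ⟨ht, ht2⟩
        refine ⟨mul_mem hs ht, ?_⟩
        have h1 : c t⁻¹ s⁻¹ ∈ F := h.comm_WW (inv_mem ht) (inv_mem hs)
        have h2 : c t⁻¹ s⁻¹ * t = t * c t⁻¹ s⁻¹ := F_comm h1 (W_le_X ht)
        have e : s * t * (s * t) = s * s * (t * t) * c t⁻¹ s⁻¹ := by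
          calc s * t * (s * t) = s * s * t * (c t⁻¹ s⁻¹ * t) := by rw [c]; group
            _ = s * s * t * (t * c t⁻¹ s⁻¹) := by rw [h2]
            _ = s * s * (t * t) * c t⁻¹ s⁻¹ := by group
        rw [e]
        exact mul_mem (mul_mem hs2 ht2) h1
      inv_mem' := by
        rintro s ⟨hs, hs2⟩
        refine ⟨inv_mem hs, ?_⟩
        have := inv_mem hs2
        rwa [mul_inv_rev] at this }
  have h1 : WW V F ≤ K := by
    refine V_le fun x hx f hf => ⟨conjE_le_W hx hf, ?_⟩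
    obtain ⟨e, he, rfl⟩ := mem_conj'.1 hf
    have e1 : x * e * x⁻¹ * (x * e * x⁻¹) = 1 := by
      have := h.sq' he.1
      calc x * e * x⁻¹ * (x * e * x⁻¹) = x * (e * e) * x⁻¹ := by group
        _ = 1 := by rw [this]; group
    rw [e1]
    exact one_mem _
  exact (h1 hs).2

/-! ### commutator rules on `V × W` -/

theorem c_memE {w s : G} (hw : w ∈ V) (hs : s ∈ WW V F) : c w s ∈ EE V F := h.comm_VW hw hs

theorem c_memV {w s : G} (hw : w ∈ V) (hs : s ∈ WW V F) : c w s ∈ V := (h.comm_VW hw hs).1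

theorem c_mul_left {w w' s : G} (hw : w ∈ V) (hw' : w' ∈ V) (hs : s ∈ WW V F) :
    c (w * w') s = c w s * c w' s := by
  have h1 : w * c w' s = c w' s * w := h.V_comm hw (h.c_memV hw' hs)
  have e : c (w * w') s = w * c w' s * (s * w⁻¹ * s⁻¹) := by rw [c, c]; group
  rw [e, h1]
  have e2 : c w' s * w * (s * w⁻¹ * s⁻¹) = c w' s * c w s := by rw [c, c]; group
  rw [e2]
  exact h.V_comm (h.c_memV hw' hs) (h.c_memV hw hs)

/-- `[w, s t] = [w, s] [w, t] [w, t, s]` -/
theorem c_mul_right [Finite G] {w s t : G} (hw : w ∈ V) (hs : s ∈ WW V F) (ht : t ∈ WW V F) :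
    c w (s * t) = c w s * c w t * c (c w t) s := by
  have e : c w (s * t) = c w s * (s * c w t * s⁻¹) := by rw [c, c, c]; group
  have hF := h.comm_EW (h.c_memE hw ht) hs
  have e1 : s * c w t * s⁻¹ = (c (c w t) s)⁻¹ * c w t := by
    rw [c_def (c w t)]; group
  have h1 : (c (c w t) s)⁻¹ = c (c w t) s := h.inv (h.F_le_V hF)
  rw [e, e1, h1, h.V_comm (h.F_le_V hF) (h.c_memV hw ht), mul_assoc]

/-- additivity modulo `F` -/
theorem c_mul_mem [Finite G] {w s t : G} (hw : w ∈ V) (hs : s ∈ WW V F) (ht : t ∈ WW V F) :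
    c w (s * t) * (c w s * c w t)⁻¹ ∈ F := by
  rw [h.c_mul_right hw hs ht]
  have hF := h.comm_EW (h.c_memE hw ht) hs
  have h1 : c w s * c w t * c (c w t) s = c (c w t) s * (c w s * c w t) :=
    h.V_comm (mul_mem (h.c_memV hw hs) (h.c_memV hw ht)) (h.F_le_V hF)
  rw [h1, mul_inv_cancel_right]
  exact hF

omit h in
/-- elements of `F` commute with `W` -/
theorem c_F {f s : G} (hf : f ∈ F) (hs : s ∈ WW V F) : c f s = 1 := by
  rw [c, F_comm hf (W_le_X hs), mul_inv_cancel_right, mul_inv_cancel]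

/-- `[w, s]` commutes with `s`. -/
theorem c_comm [Finite G] {w s : G} (hw : w ∈ V) (hs : s ∈ WW V F) : c w s * s = s * c w s := by
  have h1 := h.sq_W hs
  have h2 : s * s * w = w * (s * s) := F_comm h1 (h.V_le_X hw)
  have h3 : s * c w s * s⁻¹ = (c w s)⁻¹ := by
    have e1 : w⁻¹ = w := h.inv hw
    calc s * c w s * s⁻¹ = s * w * s⁻¹ * (s * s * w⁻¹) * s⁻¹ * s⁻¹ := by rw [c]; group
      _ = s * w * s⁻¹ * (w * (s * s)) * s⁻¹ * s⁻¹ := by rw [e1, h2]
      _ = s * w * s⁻¹ * w := by group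
      _ = s * w * s⁻¹ * w⁻¹ := by rw [e1]
      _ = (c w s)⁻¹ := by rw [c]; group
  rw [h.inv (h.c_memV hw hs)] at h3
  calc c w s * s = s * c w s * s⁻¹ * s := by rw [h3]
    _ = s * c w s := by group

/-! ### (4), (5) -/

/-- **The frame** at `w ∈ V - E`. -/
theorem exists_near [Finite G] {w : G} (hw : w ∈ V) (hwE : w ∉ EE V F) :
    ∃ x ∈ centralizer (F : Set G), BadX V x ∧ Near V (EE V F) F (MulAut.conj x • EE V F) w ∧
      Near (MulAut.conj x • V) (MulAut.conj x • EE V F) F (EE V F) (x * w * x⁻¹) := by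
  have hwR : w ∉ o2 (centralizer (F : Set G)) := fun h1 => hwE ⟨hw, h1⟩
  obtain ⟨x, hx, hfin, hb, -⟩ := NearFF.exists_near h.char2 h.V_le_X h.comm h.sq h.R_norm_V hw hwR
  have hbad : BadX V x := fun h1 => hb (h1.to_le (sup_le_sup (NearFF.V1_le hw)
    (conj_le_iff.2 (NearFF.V1_le hw))))
  have hD : (EE V F) ⊓ MulAut.conj x • (EE V F) = F := by
    apply le_antisymm
    · rw [← h.inf_eq_of_bad hx hbad]
      exact inf_le_inf inf_le_left (conjE_le_conjV x)
    · refine le_inf h.F_le_E ?_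
      have := conj_le_iff (g := x) |>.2 h.F_le_E
      rwa [conj_eq_of_cent hx] at this
  refine ⟨x, hx, hbad, ?_, ?_⟩
  · have := hfin.near
    rwa [hD] at this
  · have := hfin.near'
    rwa [hD] at this

/-- **(4)** `[w, W] F = E` for `w ∈ V - E`. -/
theorem surj [Finite G] {w e : G} (hw : w ∈ V) (hwE : w ∉ EE V F) (he : e ∈ EE V F) :
    ∃ s ∈ WW V F, c w s * e⁻¹ ∈ F := by
  obtain ⟨x, hx, -, hn, -⟩ := h.exists_near hw hwE
  obtain ⟨f, hf, hc⟩ := hn.surj he
  exact ⟨f, conjE_le_W hx hf, hc⟩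

/-- **(5)** `w ∈ V - E`, `s ∈ W`, `[w, s] ∈ F` ⟹ `[E, s] = 1`. -/
theorem comm_of_mem [Finite G] {w s : G} (hw : w ∈ V) (hwE : w ∉ EE V F) (hs : s ∈ WW V F)
    (hc : c w s ∈ F) {e : G} (he : e ∈ EE V F) : e * s = s * e := by
  obtain ⟨t, ht, hte⟩ := h.surj hw hwE he
  -- `e` commutes with every `t'` with `[w, t'] ∈ F e`
  have key : ∀ t' ∈ WW V F, c w t' * e⁻¹ ∈ F → e * t' = t' * e := by
    intro t' ht' h1
    have h2 := h.c_comm hw ht'
    have h3 : (c w t' * e⁻¹) * t' = t' * (c w t' * e⁻¹) := F_comm h1 (W_le_X ht')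
    have h4 : e = (c w t' * e⁻¹)⁻¹ * c w t' := by group
    have h5 : (c w t' * e⁻¹)⁻¹ * t' = t' * (c w t' * e⁻¹)⁻¹ := by
      calc (c w t' * e⁻¹)⁻¹ * t' = (c w t' * e⁻¹)⁻¹ * (t' * (c w t' * e⁻¹)) * (c w t' * e⁻¹)⁻¹ := by
            group
        _ = (c w t' * e⁻¹)⁻¹ * ((c w t' * e⁻¹) * t') * (c w t' * e⁻¹)⁻¹ := by rw [h3]
        _ = t' * (c w t' * e⁻¹)⁻¹ := by group
    calc e * t' = (c w t' * e⁻¹)⁻¹ * (c w t' * t') := by rw [← mul_assoc, ← h4]
      _ = (c w t' * e⁻¹)⁻¹ * t' * c w t' := by rw [h2]; group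
      _ = t' * ((c w t' * e⁻¹)⁻¹ * c w t') := by rw [h5]; group
      _ = t' * e := by rw [← h4]
  have k1 := key t ht hte
  have k2 := key (t * s) (mul_mem ht hs) (by
    have e1 : c w (t * s) = c w t * c w s := by
      have e2 : c w (t * s) = c w t * (t * c w s * t⁻¹) := by rw [c, c, c]; group
      rw [e2, ← F_comm hc (W_le_X ht), mul_inv_cancel_right]
    rw [e1, h.V_comm (h.c_memV hw ht) (h.c_memV hw hs), mul_assoc]
    exact mul_mem hc hte)
  have e3 : s = t⁻¹ * (t * s) := by group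
  have e4 : e * t⁻¹ = t⁻¹ * e := by
    calc e * t⁻¹ = t⁻¹ * (t * e) * t⁻¹ := by group
      _ = t⁻¹ * (e * t) * t⁻¹ := by rw [k1]
      _ = t⁻¹ * e := by group
  calc e * s = e * t⁻¹ * (t * s) := by group
    _ = t⁻¹ * (e * (t * s)) := by rw [e4]; group
    _ = t⁻¹ * (t * s * e) := by rw [k2]
    _ = s * e := by group

end Hyp

end Cfsg.Agent.Omega.NOne.Flat
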